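import Cfsg.Agent.BH.RowE.Split
import Cfsg.Agent.KM.Tor.E6D
import Cfsg.Agent.KZ.Lie.Iface

/-!
# BH (S4524), `RowO` in cross characteristic: definitions and boxes (helper2)

Paper proofs: `notes/BH/rowo.md`.

* `NCe` : a counterexample; `Sh` : its group theoretic shadow in the simple group; `Nine`, `N9` : the case `Q = 3²`;
* pure boxes `BoxSh`, `BoxP2`, `BoxE2`, `BoxDG`, `BoxTL`; boxes on data `BoxDiag`, `BoxG`, `BoxT1`, `BoxT6`;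
* over groups `BoxGL`, `BoxGU`, `BoxAd6`, `XC`;
* `row_of`, `row_of_dg` : the reduction.
-/

set_option autoImplicit false
set_option linter.unusedSectionVars false

namespace Cfsg.Agent.BH.RO

open Cfsg Subgroup Matrix Cfsg.Agent.TO Cfsg.Agent.KM.BK
open Cfsg.Agent.KM.Tor (Loc Flag CC Toral3 Dl InQ AllD)
open Cfsg.Agent.KM.Ht (Z0 Toral)
open Cfsg.Agent.DL Cfsg.Agent.DL.PP Cfsg.Agent.KZ.Lie Cfsg.Agent.KZ.DatX Cfsg.Agent.Nodes.RGDChev Cfsg.Lie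

section pure

variable {K S : Type} [Group K] [Group S]

/-- a counterexample to the row -/
structure NCe (l : ℕ) (M : Ideal AlgInt) (b : Set (IrrCharacter K)) (Q : Subgroup K) (θ : K → ℂ) (σ : K →* S)
    (A A₀ : Subgroup (MulAut K)) : Prop where
  q : QHyp l M b Q θ σ
  a : AHyp l b Q θ A A₀
  nc : ¬ Cen l Q θ A

/-- **the shadow**: `Q` the defect group, `E` the inertia group, `Γ` the automorphisms which fix the root -/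
structure Sh (l : ℕ) (Q E : Subgroup S) (Γ Γ₀ : Subgroup (MulAut S)) : Prop where
  pg : IsPGroup l Q
  ab : Q ≤ Ce Q
  nrm : ∀ α ∈ Γ, ∀ x, α x ∈ Q ↔ x ∈ Q
  le : Γ₀ ≤ Γ
  normal : (Γ₀.subgroupOf Γ).Normal
  index : Γ₀.relIndex Γ = l
  inn : ∀ s, MulAut.conj s ∈ Γ ↔ s ∈ E
  inn0 : ∀ s ∈ E, MulAut.conj s ∈ Γ₀
  c0 : ∀ α ∈ Γ₀, PElt l α → ∀ u ∈ Q, α u = u
  orb : ∀ u ∈ Q, ¬ l ∣ (FixE u).relIndex Γ
  cz : ∀ α ∈ Γ, ∀ z ∈ Q ⊓ Ce E, α z = z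
  nc : ∃ α ∈ Γ, PElt l α ∧ ∃ u ∈ Q, α u ≠ u
  loc : ∀ α ∈ Γ, PElt l α → ∃ y, ∃ s ∈ E, Loc l ⊤ Q y ∧ (MulAut.conj s * α) y = y ∧ PElt l (MulAut.conj s * α)

/-- the rank is at most two -/
def Rk2 (l : ℕ) (Q : Subgroup S) : Prop := {u | u ∈ Q ∧ u ^ l = 1}.ncard ≤ l ^ 2

/-- `Q = 3²`, `Γ` is transitive, `E` contains `-1` -/
structure Nine (Q E : Subgroup S) (Γ : Subgroup (MulAut S)) : Prop where
  card : Nat.card Q = 9
  cube : ∀ u ∈ Q, u ^ 3 = 1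
  tr : ∀ u ∈ Q, ∀ v ∈ Q, u ≠ 1 → v ≠ 1 → ∃ α ∈ Γ, α u = v
  neg : ∃ t ∈ E, ∀ d ∈ Q, t * d * t⁻¹ = d⁻¹

/-- the hypothesis of the end games (those of `TO` with `Hyp` replaced) -/
structure N9 (M : Ideal AlgInt) (b : Set (IrrCharacter K)) (Q : Subgroup K) (θ : K → ℂ) (σ : K →* S)
    (A : Subgroup (MulAut S)) : Prop where
  q : QHyp 3 M b Q θ σ
  card : Nat.card Q = 9
  pure : Pure 3 S A (Q.map σ)
  neg : ∃ t ∈ In Q θ, ∀ d ∈ Q, t * d * t⁻¹ = d⁻¹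

variable (S) in
/-- no block with the defect group `3²`, all elements conjugate, `-1` in the inertial quotient -/
def No9 : Prop := ∀ (K : Type) [Group K] [Finite K] (σ : K →* S) (M : Ideal AlgInt) (b : Set (IrrCharacter K))
  (Q : Subgroup K) (θ : K → ℂ) (A : Subgroup (MulAut S)), ¬ N9 M b Q θ σ A

/-- every element is fixed by an outer `l`-automorphism -/
def Mv (l : ℕ) (Q : Subgroup S) : Prop := ∀ t ∈ Q, ∃ β : MulAut S, β ∉ Inn S ∧ PElt l β ∧ β t = t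

variable (S) in
/-- `Out S` has a normal Sylow `l`-subgroup -/
def NS (l : ℕ) : Prop := ∀ α β : MulAut S, PElt l α → PElt l β → ∃ j : ℕ, (α * β) ^ l ^ j ∈ Inn S

/-- the `l`-elements of `𝒟` in `Γ` centralize `Q` -/
def Cd (l : ℕ) (Q : Subgroup S) (Γ 𝒟 : Subgroup (MulAut S)) : Prop := ∀ β ∈ Γ, β ∈ 𝒟 → PElt l β → ∀ u ∈ Q, β u = u

variable (S) in
/-- the `l`-elements of `A` which induce an element of `𝒟` centralize a defect group of order `n` -/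
def Dg (l n : ℕ) (𝒟 : Subgroup (MulAut S)) : Prop := ∀ (K : Type) [Group K] [Finite K] (σ : K →* S) (M : Ideal AlgInt)
  (b : Set (IrrCharacter K)) (Q : Subgroup K) (θ : K → ℂ) (A A₀ : Subgroup (MulAut K)), QHyp l M b Q θ σ →
  AHyp l b Q θ A A₀ → Nat.card Q = n → ∀ α ∈ A ⊓ LA Q θ, PElt l α → ∀ β ∈ 𝒟, (∀ g, σ (α g) = β (σ g)) → ∀ u ∈ Q, α u = u

/-- the height zero statement for the defect groups which meet `N` in an abelian group of order `n` -/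
def BHn (l n : ℕ) (M : Ideal AlgInt) {H : Type} [Group H] (N : Subgroup H) : Prop :=
  ∀ (B : Set (IrrCharacter H)) (D : Subgroup H), IsPBlock M B → IsDefectGroup l M B D → EQ l B → Ab (D ⊓ N) →
    Nat.card (D ⊓ N : Subgroup H) = n → Ab D

/-- `K` is a quotient of the normal subgroup `N` of `H` by a group of order prime to `l`, `H / N` is cyclic -/
structure Ovr (l : ℕ) {H : Type} [Group H] (N : Subgroup H) [N.Normal] (π : N →* K) (act : H →* MulAut K) : Prop where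
  surj : Function.Surjective π
  ker : ¬ l ∣ Nat.card π.ker
  cyc : IsCyclic (H ⧸ N)
  act : ∀ (h : H) (n n' : N), (n' : H) = h * n * h⁻¹ → π n' = act h (π n)

variable (S) in
/-- the exceptional covers have no outer `3`-automorphisms -/
def XC : Prop := ∀ (K : Type) [Group K] [Finite K] (σ : K →* S), IsQuasisimple K → Function.Surjective σ →
  σ.ker = center K → IsCyclic (center K) → IsPGroup 2 (center K) → center K ≠ ⊥ → ∀ α : MulAut K, PElt 3 α → α ∈ Inn K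

end pure

/-! ### pure boxes -/

/-- [SH] the shadow of a counterexample -/
def BoxSh : Prop := ∀ (l : ℕ) [Fact l.Prime] (K S : Type) [Group K] [Finite K] [Group S] (M : Ideal AlgInt)
  (b : Set (IrrCharacter K)) (Q : Subgroup K) (θ : K → ℂ) (σ : K →* S) (A A₀ : Subgroup (MulAut K)),
  NCe l M b Q θ σ A A₀ → Nat.card (Q.map σ) = Nat.card Q ∧ ∃ Γ Γ₀ : Subgroup (MulAut S),
    Sh l (Q.map σ) ((In Q θ).map σ) Γ Γ₀ ∧
    (∀ β ∈ Γ, ∃ α ∈ A ⊓ LA Q θ, orderOf α = orderOf β ∧ ∀ g, σ (α g) = β (σ g)) ∧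
    (l = 3 → Nine (Q.map σ) ((In Q θ).map σ) Γ → N9 M b Q θ σ (Γ ⊔ Inn S))

/-- [MV] first consequences -/
def BoxMv : Prop := ∀ (l : ℕ) [Fact l.Prime] (S : Type) [Group S] [Finite S] (Q E : Subgroup S) (Γ Γ₀ : Subgroup (MulAut S)),
  Sh l Q E Γ Γ₀ → Mv l Q ∧ (∃ y, Loc l ⊤ Q y) ∧ (∃ u ∈ Q, ∃ v ∈ Q, orderOf u = l ∧ orderOf v = l ∧ v ∉ zpowers u) ∧
    (∀ β ∈ Γ, β ∉ Γ₀ → PElt l β → (∃ u ∈ Q, β u ≠ u) ∧ (∀ u ∈ Q, (β ^ l) u = u) ∧ ∀ t ∈ Q, ∃ γ ∈ Γ, β (γ t) = γ t) ∧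
    (∀ t ∈ Q, ∃ β ∈ Γ, β ∉ Γ₀ ∧ PElt l β ∧ β t = t) ∧
    ∃ β ∈ Γ, β ∉ Γ₀ ∧ PElt l β ∧ ∃ y, Loc l ⊤ Q y ∧ β y = y

/-- [P2] rank two -/
def BoxP2 : Prop := ∀ (l : ℕ) [Fact l.Prime] (S : Type) [Group S] [Finite S] (Q E : Subgroup S) (Γ Γ₀ : Subgroup (MulAut S)),
  l ≠ 2 → Sh l Q E Γ Γ₀ → Rk2 l Q → l = 3 ∧ Nine Q E Γ

/-- [E2] elementary abelian inertial quotient; flags; regularity -/
structure BoxE2 : Prop where
  sq : ∀ (l : ℕ) [Fact l.Prime] (S : Type) [Group S] [Finite S] (Q E : Subgroup S) (Γ Γ₀ : Subgroup (MulAut S)),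
    l ≠ 2 → Sh l Q E Γ Γ₀ → NS S l → ¬ ∀ s ∈ E, s ^ 2 ∈ Ce Q
  flag : ∀ (S Y : Type) [Group S] [Finite S] [Group Y] (G : Subgroup Y) (j : S →* Y) (Q E : Subgroup S)
    (Γ Γ₀ : Subgroup (MulAut S)), Function.Injective j → (∀ s, j s ∈ G) → Sh 3 Q E Γ Γ₀ → NS S 3 → ¬ Flag G (Q.map j)
  reg : ∀ (S : Type) [Group S] [Finite S] (Q E : Subgroup S) (Γ Γ₀ : Subgroup (MulAut S)), Sh 3 Q E Γ Γ₀ → NS S 3 →
    Nine Q E Γ → ∀ u ∈ Q, ∀ v ∈ Q, u ≠ 1 → v ≠ 1 → ∃ s ∈ E, s * u * s⁻¹ = v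

/-- [DG] the over group -/
def BoxDG : Prop := ∀ (l : ℕ) [Fact l.Prime] (K S H : Type) [Group K] [Finite K] [Group S] [Group H] [Finite H]
  (M : Ideal AlgInt) (b : Set (IrrCharacter K)) (Q : Subgroup K) (θ : K → ℂ) (σ : K →* S) (A A₀ : Subgroup (MulAut K))
  (N : Subgroup H) [N.Normal] (π : N →* K) (act : H →* MulAut K), QHyp l M b Q θ σ → AHyp l b Q θ A A₀ → Ovr l N π act →
  BHn l (Nat.card Q) M N → (∀ α ∈ A, ∀ β ∈ act.range, α * β * α⁻¹ ∈ act.range) → ¬ l ^ 2 ∣ (Inn K).relIndex act.range →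
  ∀ α ∈ A ⊓ LA Q θ, PElt l α → α ∈ act.range → ∀ u ∈ Q, α u = u

section lat

variable {R : Type} [Fintype R] [DecidableEq R]

/-- an isometry of finite order which preserves the two lattices -/
structure Iso (B : Matrix R R ℤ) (Λ Ls : AddSubgroup (R → ℤ)) (U : Matrix R R ℤ) : Prop where
  iso : Uᵀ * B * U = B
  fin : ∃ n : ℕ, 0 < n ∧ U ^ n = 1
  mem : ∀ v ∈ Λ, U *ᵥ v ∈ Λ
  mem' : ∀ v ∈ Ls, U *ᵥ v ∈ Ls

/-- the lattice situation: `F = m W`, `β = r U` on `Λ` -/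
structure Lat (B : Matrix R R ℤ) (Λ Ls : AddSubgroup (R → ℤ)) (W U : Matrix R R ℤ) (m r : ℤ) (i : ℕ) : Prop where
  sym : Bᵀ = B
  pos : ∀ v, v ≠ 0 → 0 < v ⬝ᵥ B *ᵥ v
  sat : ∀ c : ℤ, c ≠ 0 → ∀ v, c • v ∈ Λ → v ∈ Λ
  three : ∀ v, (3 : ℤ) • v ∈ Ls
  idx : ∀ u v, u ∉ Ls → v ∈ Ls ∨ u + v ∈ Ls ∨ u - v ∈ Ls
  rk : Fintype.card R ≤ 8
  rk' : Ls = ⊤ ∨ Fintype.card R ≤ 6
  iW : Iso B Λ Ls W
  iU : Iso B Λ Ls U
  com : ∀ v ∈ Λ, U *ᵥ (W *ᵥ v) = W *ᵥ (U *ᵥ v)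
  pos' : 0 < i
  pow : ∀ v ∈ Λ, U ^ 3 ^ i *ᵥ v = W ^ 2 *ᵥ v
  m3 : 3 ∣ m - 1
  m1 : m ≠ 1
  r3 : 3 ∣ r - 1
  rm : r ^ 3 ^ i = m ^ 2
  orb : ∀ (j : ℕ), ∀ u ∈ Λ, u ∈ Ls → ∀ β ∈ Ls, m • W *ᵥ u = u + (3 : ℤ) ^ j • β → ∃ γ, Iso B Λ Ls γ ∧
    (∀ v ∈ Λ, γ *ᵥ (W *ᵥ v) = W *ᵥ (γ *ᵥ v)) ∧ ∃ y, r • U *ᵥ (γ *ᵥ u) = γ *ᵥ u + (3 : ℤ) ^ j • y

/-- the fixed points modulo three -/
def K3 (Λ : AddSubgroup (R → ℤ)) (W : Matrix R R ℤ) : Set (R → ZMod 3) :=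
  {x | ∃ v ∈ Λ, (∃ y, W *ᵥ v = v + (3 : ℤ) • y) ∧ x = fun i => (v i : ZMod 3)}

end lat

/-- [TL] the lattice lemma -/
def BoxTL : Prop := ∀ (R : Type) [Fintype R] [DecidableEq R] (B : Matrix R R ℤ) (Λ Ls : AddSubgroup (R → ℤ))
  (W U : Matrix R R ℤ) (m r : ℤ) (i : ℕ), Lat B Λ Ls W U m r i →
  (K3 Λ W).ncard ≤ 3 ∨ (Ls ≠ ⊤ ∧ 1 + W + W ^ 2 = 0 ∧ (K3 Λ W).ncard ≤ 27)

/-! ### boxes on data -/

section dat

variable {p : ℕ} [Fact p.Prime] {k : Type} [Field k] [CharP k p] {Y : Type} [Group Y] {N : Type} [Fintype N]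
  [DecidableEq N] {ρ : Y →* GL N k} {F : MulAut Y} {G : Subgroup Y} [IsAlgClosed k] {D : Datum p ρ F G}
  {Adm : Matrix D.R D.R ℤ → Prop} {S : Type} [Group S]

/-- central in `G` -/
def Cn (G : Subgroup Y) (z : Y) : Prop := z ∈ G ∧ ∀ y ∈ G, y * z = z * y

/-- the kernel and the diagonal automorphisms have order prime to `l` -/
structure IDX (l : ℕ) (s : Sit D Adm S) : Prop where
  ker : ∀ h : s.H0, s.π h = 1 → ¬ l ∣ orderOf h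
  idx : ∀ x ∈ G, Cn G (x⁻¹ * F x) → ∃ c : ℕ, ¬ l ∣ c ∧ ∃ z, Cn G z ∧ x ^ c * z ∈ s.H0

/-- `z` is of Levi type with a connected centralizer -/
def Lz (D : Datum p ρ F G) (z : Y) : Prop := ∃ (g : Y) (hg : g ∈ G) (hN : g⁻¹ * F g ∈ D.NN),
  z ∈ Z0 (D.conj hg hN) {z} ∧ CC (D.conj hg hN) {z}

/-- the automorphisms which fix `z` have a scalar power -/
def Scz (D : Datum p ρ F G) (Adm : Matrix D.R D.R ℤ → Prop) (n : ℕ) (z : Y) : Prop :=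
  ∀ g ∈ GF F G, ∀ α A, Au D α A → Adm A → g * α z * g⁻¹ = z → ∃ j : ℕ, A ^ n = (p : ℤ) ^ j • 1

end dat

/-- [DIAG] an automorphism of the frame which centralizes the torus is diagonal -/
def BoxDiag : Prop := AllD fun {_} _ _ _ _ {Y} _ _ _ _ _ _ {G} _ X => ∀ α : MulAut Y, Au X α 1 →
  ∃ t ∈ X.T, ∀ y ∈ G, α y = t * y * t⁻¹

/-- [G] the generic argument -/
def BoxG : Prop := AllD fun {p} _ _ _ _ _ _ _ _ _ _ _ _ _ D => ∀ (Adm : Matrix D.R D.R ℤ → Prop) (S : Type) [Group S]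
  (s : Sit D Adm S) (l n e : ℕ), l.Prime → l ≠ 2 → l ≠ p → ¬ l ∣ n → 0 < e → D.Mx ^ n = (p : ℤ) ^ e • 1 → IDX l s →
  ∀ (Q : Subgroup S) (y : S), Loc l ⊤ Q y → Q ≤ Ce Q → Mv l Q → ∀ z : s.H0, orderOf z = l → s.π z ∈ Q → Lz D z →
    ¬ Scz D Adm n z

/-- a statement about the situations inside the adjoint groups; `F` acts as `± r ^ e` times an element of the Weyl group -/
def AllS {C : ChevalleyDatum} {n : ℕ} {M : CoxeterMatrix (Fin n)} (hp : IsType C n M) (d : ℕ)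
    (P : ∀ {r : ℕ} [Fact r.Prime] {k : Type} [Field k] [CharP k r] [IsAlgClosed k] {Mx : Matrix (Fin n) (Fin n) ℤ}
      (_ : XF hp r k Mx) (_ : ℤ) {S : Type} [Group S] (_ : S →* ↥(C.group k)) (_ : Subgroup S), Prop) : Prop :=
  ∀ (r : ℕ) [Fact r.Prime] (k : Type) [Field k] [CharP k r] [IsAlgClosed k] (Mx : Matrix (Fin n) (Fin n) ℤ)
    (X : XF hp r k Mx) (Adm : Matrix (Fin n) (Fin n) ℤ → Prop) (S : Type) [Group S] (s : XS X Adm d S) (e : ℕ) (m : ℤ)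
    (φ : X.D.W), 3 ≠ r → 0 < e → (m = r ^ e ∨ m = -r ^ e) → X.D.Mx = m • X.D.Wm φ → Mx ^ 2 = m ^ 2 • 1 →
    (∀ A, Adm A → ∃ (j : ℕ) (c : ℤ) (ψ : X.D.W), A ^ 2 = (r : ℤ) ^ (2 * j) • 1 ∧ (c = r ^ j ∨ c = -r ^ j) ∧ A = c • X.D.Wm ψ) →
    ∀ (Q E : Subgroup S) (Γ Γ₀ : Subgroup (MulAut S)), Sh 3 Q E Γ Γ₀ → P X m s.ι Q

/-- [T1] toral defect groups, `l = 3`, no diagonal automorphism of order three (`E₇`, `E₈`, `E₆` with `d = 1`) -/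
def BoxT1 : Prop := ∀ {C : ChevalleyDatum} {n : ℕ} {M : CoxeterMatrix (Fin n)} (hp : IsType C n M) (d : ℕ), n ≤ 8 →
  ¬ 3 ∣ d → AllS hp d fun X _ _ _ ι Q => ¬ Toral X.D (Q.map ι)

/-- [T6] toral defect groups, `E₆` with `d = 3` -/
def BoxT6 : Prop := AllS hpE6 3 fun X m _ _ ι Q => 3 ∣ m - 1 →
  (∀ g (hg : g ∈ (⊤ : Subgroup _)) (hN : g⁻¹ * X.F g ∈ X.D.NN), Dl (X.D.conj hg hN) ι.range) → Toral3 X.D (Q.map ι) → Rk2 3 Q

/-! ### over groups -/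

/-- [GL] `GL_n(q)` modulo the central subgroup of order three -/
def BoxGL : Prop := ∀ (F : Type) [Field F] [Fintype F] (n : ℕ) (M : Ideal AlgInt), IsPModular 3 M → 3 ∣ n →
  3 ∣ Fintype.card F - 1 → ¬ 9 ∣ Fintype.card F - 1 → ∀ (H : Type) [Group H] [Finite H] (π : GL (Fin n) F →* H) (N : Subgroup H),
  Function.Surjective π → π.ker ≤ center _ → Nat.card π.ker = 3 → N = (GeneralLinearGroup.det.ker).map π → BHn 3 9 M N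

/-- [GU] `GU_n(q)` modulo the central subgroup of order three -/
def BoxGU : Prop := ∀ (F : Type) [Field F] [Fintype F] (n q : ℕ) (M : Ideal AlgInt), IsPModular 3 M →
  Fintype.card F = q ^ 2 → 3 ∣ n → 3 ∣ q + 1 → ¬ 9 ∣ q + 1 → ∀ (H : Type) [Group H] [Finite H] (π : GU n F q →* H)
  (N : Subgroup H), Function.Surjective π → π.ker ≤ center _ → Nat.card π.ker = 3 →
  N = ((GeneralLinearGroup.det.ker).subgroupOf (GU n F q)).map π → BHn 3 9 M N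

/-- [AD6] the adjoint groups `E₆(q) . 3`, `²E₆(q) . 3` -/
def BoxAd6 : Prop := ∀ (r : ℕ) [Fact r.Prime] (k : Type) [Field k] [CharP k r] [IsAlgClosed k] (Mx : Matrix (Fin 6) (Fin 6) ℤ)
  (X : XF hpE6 r k Mx) (Adm : Matrix (Fin 6) (Fin 6) ℤ → Prop) (S : Type) [Group S] (s : XS X Adm 3 S) (m : ℤ) (φ : X.D.W),
  3 ≠ r → X.D.Mx = m • X.D.Wm φ → 3 ∣ m - 1 → ¬ 9 ∣ m - 1 →
  (∀ g (hg : g ∈ (⊤ : Subgroup _)) (hN : g⁻¹ * X.F g ∈ X.D.NN), Dl (X.D.conj hg hN) s.ι.range) →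
  ∀ M : Ideal AlgInt, IsPModular 3 M → ∀ n, n = 9 ∨ n = 27 → BHn 3 n M (s.ι.range.subgroupOf (GF X.F ⊤))

/-! ### the reduction -/

variable {l : ℕ} [Fact l.Prime] {S : Type} [Group S] [Finite S]

/-- **the reduction**: `𝒟` is a group of automorphisms which is treated by an over group for the orders in `T` -/
theorem row_of_dg (hS : BoxSh) (hP : BoxP2) (h2 : l ≠ 2) (𝒟 : Subgroup (MulAut S)) (T : Set ℕ)
    (hD : ∀ n ∈ T, Dg S l n 𝒟) (h : ∀ (Q E : Subgroup S) (Γ Γ₀ : Subgroup (MulAut S)), Sh l Q E Γ Γ₀ →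
      (Nat.card Q ∈ T → Cd l Q Γ 𝒟) → (Rk2 l Q → l = 3 ∧ Nine Q E Γ) → (l = 3 → Nine Q E Γ → ¬ No9 S) → False) :
    RowO l S := fun K _ _ σ M b Q θ H A A₀ hA => by
  refine Or.inl (by_contra fun hn => ?_)
  obtain ⟨h0, Γ, Γ₀, h1, h3, h4⟩ := hS l K S M b Q θ σ A A₀ ⟨H, hA, hn⟩
  refine h _ _ Γ Γ₀ h1 (fun h5 β hβ h6 ⟨j, hj⟩ _ ⟨u, hu, e⟩ => ?_) (hP l S _ _ Γ Γ₀ h2 h1)
    fun h5 h6 h7 => h7 K σ M b Q θ _ (h4 h5 h6)
  obtain ⟨α, h7, h8, h9⟩ := h3 β hβ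
  rw [← e, ← h9, hD _ (h0 ▸ h5) K σ M b Q θ A A₀ H hA rfl α h7 ⟨j, h8.trans hj⟩ β h6 h9 u hu]

/-- **the reduction** -/
theorem row_of (hS : BoxSh) (hP : BoxP2) (h2 : l ≠ 2) (h9 : l = 3 → No9 S)
    (h : ∀ (Q E : Subgroup S) (Γ Γ₀ : Subgroup (MulAut S)), Sh l Q E Γ Γ₀ → Rk2 l Q) : RowO l S :=
  row_of_dg hS hP h2 ⊥ ∅ (fun _ h => h.elim) fun Q E Γ Γ₀ h1 _ h3 h4 =>
    let ⟨e, h5⟩ := h3 (h Q E Γ Γ₀ h1)
    h4 e h5 (h9 e)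

/-- no shadow -/
theorem row_of_no (hS : BoxSh) (h : ∀ (Q E : Subgroup S) (Γ Γ₀ : Subgroup (MulAut S)), ¬ Sh l Q E Γ Γ₀) : RowO l S :=
  fun K _ _ σ M b Q θ H A A₀ hA => Or.inl (by_contra fun hn =>
    let ⟨_, Γ, Γ₀, h1, _⟩ := hS l K S M b Q θ σ A A₀ ⟨H, hA, hn⟩
    h _ _ Γ Γ₀ h1)

/-- all the generic boxes -/
structure Bx : Prop where
  sh : BoxSh
  mv : BoxMv
  p2 : BoxP2
  e2 : BoxE2
  dg : BoxDG
  g : BoxG
  t1 : BoxT1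
  t6 : BoxT6

/-- the row for the members of a family and the primes with a property -/
def RowAt (C : ℕ → ∀ (S : Type) [Group S], Prop) (P : ℕ → Prop) : Prop :=
  ∀ (l : ℕ) [Fact l.Prime], l ≠ 2 → P l → ∀ (S : Type) [Group S] [Finite S] [IsSimpleGroup S],
    ¬ IsMulCommutative S → C l S → RowO l S

theorem rowOFor_of {C : ℕ → ∀ (S : Type) [Group S], Prop} {P : ℕ → Prop} (h : RowAt C P) (h' : RowAt C fun l => ¬ P l) :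
    RowOFor C := fun l _ h2 S _ _ _ hS hC => (em (P l)).elim (fun e => h l h2 e S hS hC) fun e => h' l h2 e S hS hC

/-- `No9` for a family -/
def No9For (C : ℕ → ∀ (S : Type) [Group S], Prop) : Prop :=
  ∀ (S : Type) [Group S] [Finite S] [IsSimpleGroup S], ¬ IsMulCommutative S → C 3 S → No9 S

end Cfsg.Agent.BH.RO
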