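import Cfsg.Agent.BH.RowO.Ad6L
import Cfsg.Agent.BH.RowO.Defs
import Cfsg.Agent.BZ.L.Bzr
import Cfsg.Agent.KM.Ht.Z
import Cfsg.Agent.KM.Si.L
import Cfsg.Agent.KM.Tor.Kill

/-!
# BH, `RowO`, the box `BoxAd6` from the interface `BoxLie` (helper68)
-/

set_option autoImplicit false
set_option linter.unusedSectionVars false

namespace Cfsg.Agent.BH.RO

namespace A6

open Cfsg Subgroup MulAction Multiplicative Matrix Cfsg.Agent.BZ.Lab Cfsg.Agent.BZ.L Cfsg.Agent.DL Cfsg.Agent.KM Cfsg.Agent.HZ.Gen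

section grp

variable {K : Type} [Group K] [Finite K]

open scoped IsMulCommutative in
/-- invariant extensions of characters -/
theorem exists_inv {Q Q₀ E C : Subgroup K} (hQ : Q ≤ centralizer (Q : Set K)) (h0 : Q₀ ≤ Q) (hE : E ≤ normalizer (Q : Set K))
    (h1 : E ≤ centralizer (Q₀ : Set K)) (hC : C ≤ centralizer (Q : Set K)) (hi : ¬ 3 ∣ C.relIndex E) (θ₀ : Q₀ →* ℂˣ)
    (h3 : ∀ y, θ₀ y ^ 3 = 1) : ∃ θ : Q →* ℂˣ, Inv Q E θ ∧ ∀ y : Q₀, θ (inclusion h0 y) = θ₀ y := by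
  classical
  have : IsMulCommutative Q := ⟨⟨fun a c => Subtype.ext (hQ c.2 a a.2)⟩⟩
  obtain ⟨θ, hθ⟩ := MonoidHom.domRestrict_surjective (M := ℂ) (Q₀.subgroupOf Q) (θ₀.comp (subgroupOfEquivOfLe h0).toMonoidHom)
  let _ := Cor.aY (Cor.cn hE)
  have := Fintype.ofFinite (orbit E θ)
  have e1 : ¬ 3 ∣ Fintype.card (orbit E θ) := fun e => hi (by
    rw [← Nat.card_eq_fintype_card, Nat.card_coe_set_eq, ← index_stabilizer] at e
    refine e.trans (index_dvd_of_le fun g hg => MonoidHom.ext fun y => congrArg θ (Subtype.ext ?_))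
    show (g : K)⁻¹ * y * (g : K)⁻¹⁻¹ = y
    rw [inv_inv, mul_assoc, show (y : K) * g = g * y from hC hg y y.2, inv_mul_cancel_left])
  refine ⟨(∏ x : orbit E θ, x.1) ^ Fintype.card (orbit E θ), fun g hg => (Cor.tr_iff hE ⟨g, hg⟩ _ _).2 fun y => ?_, fun y => ?_⟩
  · rw [MonoidHom.pow_apply, MonoidHom.pow_apply, MonoidHom.finsetProd_apply, MonoidHom.finsetProd_apply]
    exact congrArg (· ^ _) (Equiv.prod_comp (toPerm (⟨g, hg⟩ : E)) fun x : orbit E θ => x.1 y)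
  · have e2 : ∀ x : orbit E θ, x.1 (inclusion h0 y) = θ₀ y := by
      rintro ⟨_, g, rfl⟩
      refine (congrArg θ (Subtype.ext ?_)).trans (DFunLike.congr_fun hθ ⟨inclusion h0 y, y.2⟩)
      show (g : K)⁻¹ * y * (g : K)⁻¹⁻¹ = y
      rw [inv_inv, mul_assoc, h1 g.2 y y.2, inv_mul_cancel_left]
    rw [MonoidHom.pow_apply, MonoidHom.finsetProd_apply, Finset.prod_congr rfl fun x _ => e2 x, Finset.prod_const, Finset.card_univ,
      ← pow_mul, pow_eq_pow_mod _ (h3 y), show Fintype.card (orbit E θ) * Fintype.card (orbit E θ) % 3 = 1 by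
        rw [Nat.mul_mod]; have := Nat.mod_lt (Fintype.card (orbit E θ)) three_pos
        interval_cases e : Fintype.card (orbit E θ) % 3 <;> omega, pow_one]

/-- **small defect groups** -/
theorem res_le {Λ : Type} [AddCommGroup Λ] [Module.Free ℤ Λ] [Module.Finite ℤ Λ] {Z D P Q S : Subgroup K} (o : Ou 3 Z D P Q S)
    (hZ : Z ≤ ⊥) (hQ : Q ≤ centralizer (Q : Set K)) (hD : Nat.card D ≤ 81) (A : normalizer (P : Set K) →* (Λ ≃ₗ[ℤ] Λ))
    (f : Multiplicative Λ →* K) (hk : ∀ v, f (ofAdd v) = 1 ↔ ∃ y, v = (3 : ℤ) • y)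
    (hA : ∀ g v, f (ofAdd (A g v)) = g * f (ofAdd v) * (g : K)⁻¹) (h0 : f.range ≤ Q)
    (h1 : ∀ g, A g = 1 ↔ (g : K) ∈ centralizer (P : Set K)) : D ≤ Q := by
  have : Fact (Nat.Prime 3) := ⟨Nat.prime_three⟩
  by_contra hn
  have R := o.res
  have : (Q.subgroupOf D).Normal := (normal_subgroupOf_iff_le_normalizer R.le).2 o.nq
  obtain ⟨j, hj⟩ := IsPGroup.iff_card.1 (R.pg.to_quotient (Q.subgroupOf D))
  have e1 : 3 ∣ Nat.card (D ⧸ Q.subgroupOf D) := hj ▸ dvd_pow_self 3 fun e => hn (subgroupOf_eq_top.1 (index_eq_one.1 (hj.trans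
    (by rw [e, pow_zero]))))
  obtain ⟨x, hx⟩ := exists_prime_orderOf_dvd_card' 3 e1
  obtain ⟨x, rfl⟩ := QuotientGroup.mk_surjective x
  have e2 : (x : K) ^ 3 ∈ Q := (QuotientGroup.eq_one_iff (x ^ 3)).1 ((QuotientGroup.mk_pow _ _ _).trans (hx ▸ pow_orderOf_eq_one _))
  obtain ⟨c, hc, e3⟩ := R.nrm x x.2 (o.nq x.2)
  have e4 : ((x : K) * c) ^ 3 ∈ centralizer (Q : Set K) := by
    have k := fun {g} (hg : g ∈ D) => (mem_normalizer_iff.1 (Cor.norm_le Q (o.nq hg)) c).1 hc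
    rw [show ((x : K) * c) ^ 3 = x * c * (x : K)⁻¹ * (x * x * c * ((x : K) * x)⁻¹) * (x * x * x * c * ((x : K) * x * x)⁻¹) * x ^ 3 by
      simp only [pow_three, _root_.mul_inv_rev, mul_assoc, inv_mul_cancel_left, inv_mul_cancel, mul_one]]
    exact mul_mem (mul_mem (mul_mem (k x.2) (k (mul_mem x.2 x.2))) (k (mul_mem (mul_mem x.2 x.2) x.2))) (hQ e2)
  have e5 : centralizer (P : Set K) ≤ centralizer (f.range : Set K) := by
    rintro g hg _ ⟨v, rfl⟩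
    have := hA ⟨g, centralizer_le_normalizer _ hg⟩ v
    rw [(h1 _).2 hg] at this
    exact mul_inv_eq_iff_eq_mul.1 this.symm |>.symm
  have e6 : S ≤ normalizer (f.range : Set K) := fun g hg => mem_normalizer_fintype (by
    rintro _ ⟨v, rfl⟩
    exact ⟨_, hA ⟨g, R.sp hg⟩ v⟩)
  have e7 := (h1 _).1 (pure (A.comp (inclusion R.sp)) f hk (fun g => hA _) (by
      have k1 := card_le_of_le h0
      have k2 := card_eq_card_quotient_mul_card_subgroup (Q.subgroupOf D)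
      rw [Nat.card_congr (subgroupOfEquivOfLe R.le).toEquiv] at k2
      have k3 := Nat.mul_le_mul_right (Nat.card Q) (Nat.le_of_dvd Nat.card_pos e1)
      omega) e6 (fun θ₀ e => by
      obtain ⟨θ, k1, k2⟩ := exists_inv hQ h0 (inf_le_left.trans R.sq) (inf_le_right.trans e5) inf_le_right R.reg θ₀ (by
        rintro ⟨_, v, rfl⟩
        rw [← map_pow, ← map_one θ₀]
        exact congrArg θ₀ (Subtype.ext ((map_pow f v 3).symm.trans ((hk _).2 ⟨toAdd v, natCast_zsmul _ 3 |>.symm⟩))))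
      refine R.orb θ (fun z hz => by rw [show z = 1 from Subtype.ext (hZ hz), map_one]) k1 ?_
      rw [show OrbC Q S θ = @orbit _ _ (Cor.aY (Cor.cn R.sq)).toSMul θ from Set.ext fun θ' => ⟨fun ⟨g, g1, g2⟩ =>
        ⟨⟨g, g1⟩, MonoidHom.ext ((Cor.tr_iff R.sq ⟨g, g1⟩ θ θ').1 g2)⟩, fun ⟨g, g1⟩ =>
          ⟨g, g.2, (Cor.tr_iff R.sq g θ θ').2 (DFunLike.congr_fun g1)⟩⟩, ← @index_stabilizer _ _ _ (Cor.aY (Cor.cn R.sq))]
      exact e.trans (index_dvd_of_le fun g hg => MonoidHom.ext fun y =>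
        (k2 _).symm.trans ((DFunLike.congr_fun hg (inclusion h0 y)).trans (k2 y)))) ⟨_, e3⟩ (centralizer_le h0 e4))
  have e8 := Cor.mem_of_norm (G := ↥(S ⊓ centralizer (P : Set K))) R.reg (x := ⟨_, e3, e7⟩) (j := 1) (mem_normalizer_fintype
    fun s hs => ⟨(mul_mem (mul_mem (⟨_, e3, e7⟩ : ↥(S ⊓ centralizer (P : Set K))).2 s.2) (inv_mem ⟨e3, e7⟩)).2,
      (mem_normalizer_iff.1 (Cor.norm_le Q (R.sq e3)) _).1 hs.2⟩) ⟨pow_mem e7 _, e4⟩
  have e9 : (x : K) ∈ Q := R.cen ⟨x.2, by simpa using (centralizer (Q : Set K)).mul_mem e8.2 (inv_mem hc)⟩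
  rw [(QuotientGroup.eq_one_iff x).2 e9, orderOf_one] at hx
  omega

end grp

theorem lg_zero {ι : Type} [Finite ι] (x : ι → ℤ) : ∃ c : ℕ, ∀ r : ℕ, c < r → ∀ i, (r : ℤ) ∣ x i → x i = 0 := by
  obtain ⟨c, hc⟩ := (Set.finite_range fun i => (x i).natAbs).bddAbove
  exact ⟨c, fun r hr i h => Int.eq_zero_of_dvd_of_natAbs_lt_natAbs h ((hc ⟨i, rfl⟩).trans_lt hr)⟩

theorem coch_iff {k R : Type} [Field k] {v v' : R → ℤ} {a : kˣ} : coch v a = coch v' a ↔ ∀ j, (orderOf a : ℤ) ∣ (v' - v) j :=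
  funext_iff.trans (forall_congr' fun _ => zpow_eq_zpow_iff_modEq.trans Int.modEq_iff_dvd)

theorem num {m : ℤ} (h3 : 3 ∣ m - 1) : ∃ d, orderOf (m.natAbs : ZMod 3) = d ∧
    ∀ r n : ℕ, r.Prime → Odd n → orderOf (m.natAbs : ZMod r) = d * n → (r : ℤ) ∣ m ^ n - 1 := by
  have h1 : (m : ZMod 3) = 1 := by exact_mod_cast ((ZMod.intCast_eq_intCast_iff_dvd_sub 1 m 3).2 h3).symm
  refine ⟨_, rfl, fun r n hr hn h => (ZMod.intCast_zmod_eq_zero_iff_dvd _ r).1 ?_⟩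
  have := Fact.mk hr
  have h2 := pow_orderOf_eq_one (m.natAbs : ZMod r)
  rw [Int.cast_sub, Int.cast_pow, Int.cast_one, sub_eq_zero]
  rcases Int.natAbs_eq m with e | e
  · rw [h, ← Int.cast_natCast (R := ZMod 3), ← e, h1, orderOf_one, one_mul, ← Int.cast_natCast, ← e] at h2
    exact h2
  · have e1 : ∀ s : ℕ, (m.natAbs : ZMod s) = -(m : ZMod s) := fun s => by
      conv_rhs => rw [e]
      simp
    rw [e1, e1, h1, show orderOf (-1 : ZMod 3) = 2 from orderOf_eq_prime (by decide) (by decide)] at h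
    rw [e1, h, mul_comm, pow_mul, sq_eq_one_iff] at h2
    rcases h2 with k | k
    · have := Nat.le_of_dvd hn.pos (h ▸ orderOf_dvd_of_pow_eq_one k)
      have := hn.pos
      omega
    · rwa [hn.neg_pow, neg_inj] at k

section dat

variable {p : ℕ} [Fact p.Prime] {k : Type} [Field k] [CharP k p] {Y : Type} [Group Y] {N : Type} [Fintype N]
  [DecidableEq N] {ρ : Y →* GL N k} {F : MulAut Y} {G : Subgroup Y} [IsAlgClosed k] (X : Datum p ρ F G)

/-- the norm -/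
noncomputable def Nw (w : X.W) : Matrix X.R X.R ℤ := ∑ i ∈ Finset.range (Nat.card X.W), X.Wm w ^ i

/-- `r` is large -/
structure Bd (r : ℕ) : Prop where
  nd : Nat.card X.W < r
  w : ∀ u u' w i j, (r : ℤ) ∣ ((X.Wm u - X.Wm u') * Nw X w) i j → ((X.Wm u - X.Wm u') * Nw X w) i j = 0
  rt : ∀ a w j, X.Rt a → (r : ℤ) ∣ (X.wt a ᵥ* Nw X w) j → (X.wt a ᵥ* Nw X w) j = 0

theorem exists_bd : ∃ c, ∀ r, c < r → Bd X r := by
  have := X.finite_roots.to_subtype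
  obtain ⟨c, h⟩ := lg_zero fun x : X.W × X.W × X.W × X.R × X.R => ((X.Wm x.1 - X.Wm x.2.1) * Nw X x.2.2.1) x.2.2.2.1 x.2.2.2.2
  obtain ⟨c', h'⟩ := lg_zero fun x : {a | X.Rt a} × X.W × X.R => (X.wt x.1 ᵥ* Nw X x.2.1) x.2.2
  exact ⟨c + c' + Nat.card X.W, fun r hr => ⟨by omega, fun u u' w i j => h r (by omega) (u, u', w, i, j),
    fun a w j ha => h' r (by omega) (⟨a, ha⟩, w, j)⟩⟩

variable {X}

theorem Bd.conj {r : ℕ} (h : Bd X r) {y : Y} (hy : y ∈ G) (hN : y⁻¹ * F y ∈ X.NN) : Bd (X.conj hy hN) r := by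
  have e : Nw (X.conj hy hN) = Nw X := funext fun w => by rw [Nw, Tor.conj_Wm']; rfl
  exact ⟨h.nd, by rw [e, Tor.conj_Wm']; exact h.w, by rw [e]; exact h.rt⟩

theorem Wm_card (w : X.W) : X.Wm w ^ Nat.card X.W = 1 := (map_pow X.WmHom w _).symm.trans (by rw [pow_card_eq_one', map_one])

theorem W_Nw (w : X.W) : X.Wm w * Nw X w = Nw X w := by
  rw [← sub_eq_zero, ← sub_one_mul, Nw, mul_geom_sum, Wm_card, sub_self]

theorem Nw_fix {w : X.W} {v : X.R → ℤ} (h : X.Wm w *ᵥ v = v) : Nw X w *ᵥ v = (Nat.card X.W : ℤ) • v := by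
  have e : ∀ i : ℕ, X.Wm w ^ i *ᵥ v = v := fun i => by
    induction i with
    | zero => rw [pow_zero, one_mulVec]
    | succ i ih => rw [pow_succ, ← mulVec_mulVec, h, ih]
  rw [Nw, sum_mulVec, Finset.sum_congr rfl fun i _ => e i, Finset.sum_const, Finset.card_range, natCast_zsmul]

theorem mem_Pt {m s : ℕ} {g : GF (F ^ m) G} : g ∈ Pt F G m s X.T ↔ (g : Y) ∈ X.T ∧ ∃ j, g ^ s ^ j = 1 := by
  refine ⟨fun h => ?_, fun h => subset_closure h⟩
  induction h using closure_induction with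
  | mem x hx => exact hx
  | one => exact ⟨one_mem _, 0, one_pow _⟩
  | mul x y _ _ hx hy =>
    obtain ⟨x1, i, x2⟩ := hx
    obtain ⟨y1, j, y2⟩ := hy
    refine ⟨mul_mem x1 y1, i + j, ?_⟩
    rw [Commute.mul_pow (Subtype.ext (X.T_comm x1 y1)), pow_add, pow_mul, x2, mul_comm (s ^ i), pow_mul, y2, one_pow, one_pow, one_mul]
  | inv x _ hx => exact ⟨inv_mem hx.1, hx.2.imp fun j e => by rw [inv_pow, e, inv_one]⟩

/-- the class of the datum -/
theorem cs_of {m : ℤ} {w : X.W} (hM : X.Mx = m • X.Wm w) (h0 : m ≠ 0) :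
    Cs X m.natAbs (2 * Nat.card X.W) (Nat.card X.W + {a | X.Rt a}.ncard + Fintype.card X.R) where
  n0 := Nat.mul_pos two_pos Nat.card_pos
  lq v := ⟨m.sign • X.Wm (v * w), by rw [hM, smul_smul, mul_comm, Int.sign_mul_natAbs, X.Wm_mul, mul_smul_comm], by
    rw [smul_pow, mul_comm 2, pow_mul (X.Wm _), Wm_card, one_pow, mul_comm, pow_mul, ← Int.natAbs_sq, Int.natAbs_sign_of_ne_zero h0]
    simp⟩
  ex a ha := by
    have h1 := X.wt_g ha
    rw [hM, vecMul_smul, ← X.wt_act'] at h1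
    have h2 := X.wt_injective ((map_zsmul _ _ _).trans (h1.trans (map_zsmul _ _ _).symm))
    obtain ⟨v, j, h3⟩ := (X.g_root a ha).act w⁻¹
    obtain ⟨u, i, h4⟩ := id ha
    have h5 := congrFun (congrArg (ChevalleyStructure.CoxeterGeom.rep X.cs X.h v⁻¹) h2) j
    have h6 := congrFun (congrArg (ChevalleyStructure.CoxeterGeom.rep X.cs X.h u⁻¹) h2) i
    rw [map_smul, map_smul, Pi.smul_apply, Pi.smul_apply, smul_eq_mul, smul_eq_mul] at h5 h6
    rw [show X.act w⁻¹ (X.g a) = _ from h3, Tits.Roots.rep_inv_apply, Tits.Roots.sr_self, mul_one] at h5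
    rw [show ChevalleyStructure.CoxeterGeom.rep X.cs X.h u⁻¹ a = _ by rw [h4, Tits.Roots.rep_inv_apply], Tits.Roots.sr_self, mul_one] at h6
    exact Nat.dvd_antisymm (Int.natCast_dvd.1 ⟨_, by rw [Nat.cast_pow]; exact h5⟩) (Int.dvd_natCast.1 ⟨_, by rw [Nat.cast_pow]; exact h6.symm⟩)
  w := by omega
  rt := by omega
  rk := by omega

variable {m : ℤ} {w : X.W} {r : ℕ} {P : Subgroup (GF F G)}

/-- the setting -/
structure Sg (X : Datum p ρ F G) (m : ℤ) (w : X.W) (r : ℕ) (P : Subgroup (GF F G)) : Prop where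
  mx : X.Mx = m • X.Wm w
  rp : r.Prime
  ne : r ≠ p
  rm : (r : ℤ) ∣ m - 1
  bd : Bd X r
  mem : ∀ g, g ∈ P ↔ (g : Y) ∈ X.T ∧ ∃ j, g ^ r ^ j = 1

namespace Sg

variable (h : Sg X m w r P)
include h

theorem fx {v : X.R → ℤ} (hv : X.Wm w *ᵥ v = v) {a : kˣ} (ha : (orderOf a : ℤ) ∣ m - 1) : X.τ (coch v a) ∈ GF F G :=
  ⟨X.T_le_G (X.τ_mem _), (X.F_τ _).trans (by
    rw [mon_coch, h.mx, smul_mulVec, hv, coch_zsmul, zpow_eq_zpow_iff_modEq.2 (Int.modEq_iff_dvd.2 ha).symm, zpow_one]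
    rfl)⟩

theorem zero {B : Matrix X.R X.R ℤ} (e : B * Nw X w = 0) {v : X.R → ℤ} (hv : X.Wm w *ᵥ v = v) : B *ᵥ v = 0 := by
  have h1 := congrArg (· *ᵥ v) e
  simp only [← mulVec_mulVec, Nw_fix hv, mulVec_smul, zero_mulVec] at h1
  exact (smul_eq_zero.1 h1).resolve_left (Nat.cast_ne_zero.2 Nat.card_pos.ne')

theorem col (j : X.R) : X.Wm w *ᵥ (Nw X w *ᵥ Pi.single j 1) = Nw X w *ᵥ Pi.single j 1 := by rw [mulVec_mulVec, W_Nw]

theorem eq_of {u u' : X.W} (e : ∀ v, X.Wm w *ᵥ v = v → ∀ i, (r : ℤ) ∣ ((X.Wm u - X.Wm u') *ᵥ v) i) {v : X.R → ℤ}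
    (hv : X.Wm w *ᵥ v = v) : X.Wm u *ᵥ v = X.Wm u' *ᵥ v := by
  rw [← sub_eq_zero, ← sub_mulVec]
  refine h.zero (Matrix.ext fun i j => h.bd.w u u' w i j ?_) hv
  have := e _ (h.col j) i
  rwa [mulVec_mulVec, mulVec_single_one] at this

theorem memP {ζ : kˣ} (hζ : orderOf ζ = r) {v : X.R → ℤ} (hv : X.Wm w *ᵥ v = v) :
    (⟨X.τ (coch v ζ), h.fx hv (hζ ▸ h.rm)⟩ : GF F G) ∈ P :=
  (h.mem _).2 ⟨X.τ_mem _, 1, Subtype.ext (by rw [pow_one, coe_pow, ← map_pow, ← map_pow, ← hζ, pow_orderOf_eq_one, map_one, map_one]; rfl)⟩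

/-- the action of the normaliser -/
theorem act (g : normalizer (P : Set (GF F G))) : ∃ u : X.W, (∀ v, X.Wm w *ᵥ v = v → X.Wm w *ᵥ (X.Wm u *ᵥ v) = X.Wm u *ᵥ v ∧
    ∀ a, X.τ (coch (X.Wm u *ᵥ v) a) = g * X.τ (coch v a) * ((g : GF F G) : Y)⁻¹) ∧
    ∀ t ∈ P, ∀ c, X.τ c = t → (g : GF F G) * X.τ c * ((g : GF F G) : Y)⁻¹ = X.τ (mon (X.Wm u) c) := by
  obtain ⟨ζ, hζ⟩ := Tor.exists_prim p k fun e => h.ne ((Nat.prime_dvd_prime_iff_eq Fact.out h.rp).1 e).symm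
  have h0 : ∀ a : P, (g : GF F G) * a * (g : GF F G)⁻¹ ∈ P := fun a => (mem_normalizer_iff.1 g.2 _).1 a.2
  obtain ⟨c, hc, n, ⟨u, hn⟩, e, e'⟩ := X.exists_conj_form (s := fun a : P => ((a : GF F G) : Y))
    (t := fun a : P => (((g : GF F G) * a * (g : GF F G)⁻¹ : GF F G) : Y)) (fun a => ((h.mem _).1 a.2).1) (fun a => ((h.mem _).1 (h0 a)).1)
    (g : GF F G).2.1 fun a => by push_cast; group
  have h1 : ∀ t ∈ P, ∀ c, X.τ c = t → (g : GF F G) * X.τ c * ((g : GF F G) : Y)⁻¹ = X.τ (mon (X.Wm u) c) := fun t ht c k => by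
    rw [← X.conj_τ hn, k, e ⟨t, ht⟩, mul_inv_cancel_right]
    rfl
  have h2 : ∀ v, X.Wm w *ᵥ v = v → X.Wm w *ᵥ (X.Wm u *ᵥ v) = X.Wm u *ᵥ v := fun v hv => by
    rw [mulVec_mulVec, ← X.Wm_mul]
    refine h.eq_of (fun v hv i => ?_) hv
    have k1 : F _ = _ := ((g : GF F G) * ⟨_, h.fx hv (hζ ▸ h.rm)⟩ * (g : GF F G)⁻¹).2.2
    rw [coe_mul, coe_mul, coe_inv, h1 _ (h.memP hζ hv) _ rfl, X.F_τ, mon_coch, mon_coch, h.mx, smul_mulVec, coch_zsmul,
      zpow_eq_zpow_iff_modEq.2 (Int.modEq_iff_dvd.2 (hζ ▸ h.rm)).symm, zpow_one] at k1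
    rw [sub_mulVec, X.Wm_mul, ← mulVec_mulVec, ← hζ]
    exact coch_iff.1 (X.τ_inj k1).symm i
  refine ⟨u, fun v hv => ⟨h2 v hv, fun a => ?_⟩, h1⟩
  have h3 : ∀ b ∈ X.Sz (Set.range fun a : P => (((g : GF F G) * a * (g : GF F G)⁻¹ : GF F G) : Y)), X.wt b ⬝ᵥ (X.Wm u *ᵥ v) = 0 :=
    fun b hb => by
      have k1 : X.wt b ᵥ* Nw X w = 0 := funext fun j => h.bd.rt b w j hb.1 (by
        have k2 := hb.2 (X.τ (coch (Nw X w *ᵥ Pi.single j 1) ζ))
          ⟨⟨_, (mem_normalizer_iff''.1 g.2 _).1 (h.memP hζ (h.col j))⟩, by push_cast; group⟩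
        rw [X.χ_τ, chr_coch, Units.val_eq_one, ← orderOf_dvd_iff_zpow_eq_one, hζ, mulVec_single_one] at k2
        exact k2)
      have k2 := congrArg (· ⬝ᵥ (X.Wm u *ᵥ v)) k1
      simp only [← dotProduct_mulVec, Nw_fix (h2 v hv), dotProduct_smul, zero_dotProduct] at k2
      exact (smul_eq_zero.1 k2).resolve_left (Nat.cast_ne_zero.2 Nat.card_pos.ne')
  rw [e', show c * n * X.τ (coch v a) * (c * n)⁻¹ = c * (n * X.τ (coch v a) * n⁻¹) * c⁻¹ by group, X.conj_τ hn, mon_coch,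
    Ht.cen_comm_Z0 X _ (X.S_le_cen _ hc) (Ht.mem_Z0 h3 a), mul_inv_cancel_right]

theorem fix {u : X.W} (hu : ∀ v, X.Wm w *ᵥ v = v → X.Wm u *ᵥ v = v) {t : GF F G} (ht : t ∈ P) {c : X.R → kˣ} (e : X.τ c = t) :
    mon (X.Wm u) c = c := by
  have h1 : X.Wm u * Nw X w = Nw X w := Matrix.ext fun i j => by
    have := congrFun (hu _ (h.col j)) i
    rwa [mulVec_mulVec, mulVec_single_one, mulVec_single_one] at this
  have h2 : ∀ i : ℕ, mon (X.Mx ^ i) c = c := fun i => by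
    rw [mon_pow]
    exact Function.iterate_fixed (X.τ_inj ((X.F_τ c).symm.trans (e ▸ t.2.2))) i
  let n := Nat.card X.W
  have h3 : mon (Nw X w) c ^ m ^ n = c ^ ∑ i ∈ Finset.range n, m ^ (n - i) := by
    rw [← mon_zsmul, Nw, Finset.smul_sum, Si.Lb.mon_sum]
    refine (Finset.prod_congr rfl fun i hi => ?_).trans (funext fun j => (Finset.prod_apply _ _ _).trans (zpow_sum' _ (c j) _).symm)
    show _ = c ^ m ^ (n - i)
    rw [← pow_sub_mul_pow m (show i ≤ n from (Finset.mem_range.1 hi).le), mul_smul, ← smul_pow, ← h.mx, mon_zsmul, h2]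
  obtain ⟨j, hj⟩ := ((h.mem t).1 ht).2
  have h4 : c ^ r ^ j = 1 := X.τ_inj (by rw [map_pow, e, ← coe_pow, hj, map_one]; rfl)
  have h5 : (mon (X.Wm u) c / c) ^ ∑ i ∈ Finset.range n, m ^ (n - i) = 1 := by
    rw [div_zpow, ← map_zpow, ← h3, map_zpow, ← mon_mul, h1, div_self']
  have h6 : (mon (X.Wm u) c / c) ^ r ^ j = 1 := by rw [div_pow, ← map_pow, h4, map_one, div_one]
  obtain ⟨a, b, h7⟩ : IsCoprime ((r : ℤ) ^ j) (∑ i ∈ Finset.range n, m ^ (n - i)) :=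
    ((Nat.prime_iff_prime_int.1 h.rp).coprime_iff_not_dvd.2 fun k => by
      have k1 : (r : ℤ) ∣ ∑ i ∈ Finset.range n, (m ^ (n - i) - 1) :=
        Finset.dvd_sum fun i _ => h.rm.trans (sub_one_dvd_pow_sub_one m _)
      rw [Finset.sum_sub_distrib, dvd_sub_right k, Finset.sum_const, Finset.card_range, nsmul_one, Int.natCast_dvd_natCast] at k1
      exact (Nat.le_of_dvd Nat.card_pos k1).not_gt h.bd.nd).pow_left
  rw [← div_eq_one, ← zpow_one (_ / c), ← h7, _root_.zpow_add, mul_comm a, mul_comm b, _root_.zpow_mul, _root_.zpow_mul, h5,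
    ← Nat.cast_pow, zpow_natCast, h6, _root_.one_zpow, _root_.one_zpow, mul_one]

/-- **the defect group is the torus part** -/
theorem le (h3 : 3 ≠ p) (hm : 3 ∣ m - 1) {Z D Q S : Subgroup (GF F G)} (hQ : ∀ g, g ∈ Q ↔ (g : Y) ∈ X.T ∧ ∃ j, g ^ 3 ^ j = 1)
    (o : Ou 3 Z D P Q S) (hZ : Z ≤ ⊥) (hD : Nat.card D ≤ 81) : D ≤ Q := by
  have := X.amb.finite_GF G
  obtain ⟨ω, hω⟩ := Tor.exists_prim p k fun e => h3 ((Nat.prime_dvd_prime_iff_eq Fact.out Nat.prime_three).1 e).symm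
  obtain ⟨ζ, hζ⟩ := Tor.exists_prim p k fun e => h.ne ((Nat.prime_dvd_prime_iff_eq Fact.out h.rp).1 e).symm
  let Λ : Submodule ℤ (X.R → ℤ) := LinearMap.eqLocus (X.Wm w).mulVecLin LinearMap.id
  choose u hu hu' using h.act
  let L : normalizer (P : Set (GF F G)) → Module.End ℤ Λ := fun g => (X.Wm (u g)).mulVecLin.restrict fun v hv => (hu g v hv).1
  have hL : ∀ g (v : Λ) a, X.τ (coch (L g v) a) = g * X.τ (coch v a) * ((g : GF F G) : Y)⁻¹ := fun g v => (hu g v v.2).2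
  let L' : normalizer (P : Set (GF F G)) →* Module.End ℤ Λ :=
    { toFun := L
      map_one' := LinearMap.ext fun v => Subtype.ext (coch_inj (k := k) fun a => X.τ_inj ((hL 1 v a).trans (by simp)))
      map_mul' := fun g g' => LinearMap.ext fun v => Subtype.ext (coch_inj (k := k) fun a => X.τ_inj (by
        rw [Module.End.mul_apply, hL, hL, hL]
        push_cast
        group)) }
  let f : Multiplicative Λ →* GF F G := MonoidHom.mk' (fun v => ⟨X.τ (coch (toAdd v : Λ) ω), h.fx (toAdd v).2 (hω ▸ hm)⟩)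
    fun v v' => Subtype.ext ((congrArg X.τ (coch_add _ _ ω)).trans (map_mul _ _ _))
  refine res_le o hZ (fun x hx y hy => Subtype.ext (X.T_comm ((hQ y).1 hy).1 ((hQ x).1 hx).1)) hD
    ((LinearMap.GeneralLinearGroup.generalLinearEquiv ℤ Λ).toMonoidHom.comp L'.toHomUnits) f (fun v => ?_)
    (fun g v => Subtype.ext (hL g v ω)) ?_ fun g => ⟨fun e t ht => Subtype.ext ?_, fun e => LinearEquiv.ext fun v => Subtype.ext ?_⟩
  · have e1 : f (ofAdd v) = 1 ↔ ∀ j, (3 : ℤ) ∣ (v : X.R → ℤ) j := by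
      rw [Subtype.ext_iff]
      refine (map_eq_one_iff _ X.τ_inj).trans (funext_iff.trans (forall_congr' fun j => ?_))
      exact orderOf_dvd_iff_zpow_eq_one.symm.trans (by rw [hω]; rfl)
    refine e1.trans ⟨fun e => ?_, fun ⟨y, e⟩ j => e ▸ dvd_mul_right _ _⟩
    choose y hy using e
    have e2 : (v : X.R → ℤ) = (3 : ℤ) • y := funext hy
    refine ⟨⟨y, smul_right_injective _ (three_ne_zero (α := ℤ)) ?_⟩, Subtype.ext e2⟩
    simp only [← map_smul, ← e2]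
    exact v.2
  · rintro _ ⟨v, rfl⟩
    exact (hQ _).2 ⟨X.τ_mem _, 1, Subtype.ext (by
      show X.τ _ ^ 3 ^ 1 = 1
      rw [pow_one, ← map_pow, ← map_pow, ← hω, pow_orderOf_eq_one, map_one, map_one])⟩
  · obtain ⟨c, hc⟩ := (X.mem_T _).1 ((h.mem t).1 ht).1
    have e1 := hu' g t ht c hc
    rw [h.fix (fun v hv => congrArg Subtype.val (LinearEquiv.congr_fun e ⟨v, hv⟩)) ht hc, hc] at e1
    exact (mul_inv_eq_iff_eq_mul.1 e1).symm
  · refine (h.eq_of (u := u g) (u' := 1) (fun v hv i => ?_) v.2).trans (by rw [X.Wm_one, one_mulVec]; rfl)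
    have e1 := (hu g v hv).2 ζ
    rw [← show _ = _ * X.τ (coch v ζ) from congrArg Subtype.val (e _ (h.memP hζ hv)), coe_mul, mul_inv_cancel_right] at e1
    rw [sub_mulVec, X.Wm_one, one_mulVec, ← hζ]
    exact coch_iff.1 (X.τ_inj e1).symm i

end Sg

/-- **blocks with small defect groups** -/
theorem small (hL : BoxLie) {m : ℤ} {φ : X.W} (hM : X.Mx = m • X.Wm φ) (hq : ∃ f, 0 < f ∧ m.natAbs = p ^ f) (h3 : 3 ≠ p)
    (hm : 3 ∣ m - 1) {M : Ideal AlgInt} (hP : IsPModular 3 M) {B : Set (IrrCharacter (GF F G))} {D : Subgroup (GF F G)}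
    (hB : IsPBlock M B) (hD : IsDefectGroup 3 M B D) (hz : BK.HZ 3 B) (hc : Nat.card D ≤ 81) : BK.Ab D := by
  have : Fact (Nat.Prime 3) := ⟨Nat.prime_three⟩
  obtain ⟨d, d1, d2⟩ := num hm
  have hN : Nq p m.natAbs d 3 := ⟨Nat.prime_three, h3, hq, d1⟩
  obtain ⟨c, h0⟩ := exists_bd X
  obtain ⟨N', h1⟩ := boxGeo X 3 hP.1 h3
  obtain ⟨n, ⟨hn, h2⟩, ⟨α, k1, k2⟩, ⟨r, k3⟩, k4⟩ := ((Lg.prime.and (Lg.gt (c + 2))).and (h1.and ((Bz.exists_nr Fact.out hN).and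
    (hL p _ d 3 _ _ hN)))).ex
  have := X.amb.finite_GF G
  have := (X.pow hn.pos).amb.finite_GF G
  have := Fintype.ofFinite (GF F G)
  have := Fintype.ofFinite (GF (F ^ n) G)
  have k5 := Bz.gf_le F G n
  obtain ⟨e, -, e1, e2, e3, e4⟩ := boxW_of boxSt (inclusion k5) (k2 r k3.rp k3.mr).toGl hP (inclusion_injective k5) (fun g =>
    ⟨fun e => ⟨⟨g, g.2.1, (k1 g).symm.trans (congrArg Subtype.val e)⟩, rfl⟩, by
      rintro ⟨x, rfl⟩
      exact Subtype.ext ((k1 _).trans x.2.2)⟩) B D hB hD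
  obtain ⟨y, hy, hN', D', S, k6, o⟩ := k4 r k3 X (cs_of hM (by rintro rfl; omega)) _ N' α M ⟨k1, k2⟩ hP ⊥ _ bot_le e1 e2 (by
    rintro _ ⟨ξ, hξ, rfl⟩ -
    rw [(e4 ξ hξ).1, hz ξ hξ])
  have k7 := d2 r n k3.rp (hn.odd_of_ne_two (by omega)) k3.ord
  have h : Sg ((X.conj hy hN').pow hn.pos) (m ^ n) ((X.pr (y⁻¹ * F y) * φ) ^ n) r (Pt F G n r (X.conj hy hN').T) :=
    ⟨by
      refine Eq.trans ?_ (congrArg _ (map_pow (X.conj hy hN').WmHom _ n).symm)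
      show (X.Wm _ * X.Mx) ^ n = m ^ n • (X.conj hy hN').Wm _ ^ n
      rw [Tor.conj_Wm', hM, Matrix.mul_smul, ← X.Wm_mul, smul_pow], k3.rp, fun e => by
        obtain ⟨f, f0, hf⟩ := hq
        have e5 : (r : ℤ) ∣ m ^ n := dvd_pow (Int.natCast_dvd.2 (hf ▸ e ▸ dvd_pow_self r f0.ne')) hn.ne_zero
        exact k3.rp.not_dvd_one (Int.natCast_dvd_natCast.1 ((dvd_sub_right e5).1 k7)), k7,
      let b := (h0 r (by have := k3.mr; omega)).conj hy hN'
      ⟨b.nd, b.w, b.rt⟩, fun _ => mem_Pt⟩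
  obtain ⟨x, hx⟩ := TID.Red.conj_defect hP e1 e3 k6
  have k8 := h.le h3 (hm.trans (sub_one_dvd_pow_sub_one m n)) (fun _ => mem_Pt) o ((closure_le _).2 fun g hg => Subtype.ext hg.1) (by
    rw [← hx, card_map_of_injective (MulAut.conj x).injective, card_map_of_injective (inclusion_injective k5)]
    exact hc)
  have k9 := BK.ab_of_defect hP e1 k6 (fun a ha b hb => Subtype.ext
    ((X.conj hy hN').T_comm (mem_Pt.1 (k8 ha)).1 (mem_Pt.1 (k8 hb)).1)) e3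
  exact fun a ha b hb => inclusion_injective k5 (by rw [map_mul, map_mul]; exact k9 _ ⟨a, ha, rfl⟩ _ ⟨b, hb, rfl⟩)

end dat

end A6

open Cfsg Subgroup Cfsg.Agent.KM in
/-- **[AD6]** -/
theorem boxAd6_of (hL : BZ.L.BoxLie) : BoxAd6 := by
  intro r _ k _ _ _ Mx X Adm S _ s m φ h3 hM hm _ _ M hP n hn B D hB hD he _ hc
  have := X.finite
  obtain ⟨i, -, hi⟩ := DL.PP.exists_ex X.D_qs (0 : Fin 6)
  refine A6.small hL hM ⟨_, Nat.pos_of_ne_zero hi, ((A6.cs_of hM (by rintro rfl; omega)).ex _ (Tits.Roots.isRoot_sr ..)).symm⟩ h3 hm hP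
    hB hD (BK.eq_iff_hz.1 he) ?_
  have h1 := Nat.le_of_dvd three_pos (s.idx (by decide))
  rw [show s.ov.hom.range = s.ι.range.subgroupOf _ from Subgroup.ext fun _ => s.ov.mem_range] at h1
  have h2 := relIndex_le_of_le_right (H := s.ι.range.subgroupOf (DL.GF X.F ⊤)) (le_top (a := D)) (by
    rw [relIndex_top_right]
    exact index_ne_zero_of_finite)
  have h4 := card_mul_index ((D ⊓ s.ι.range.subgroupOf (DL.GF X.F ⊤)).subgroupOf D)
  rw [Nat.card_congr (subgroupOfEquivOfLe inf_le_left).toEquiv, hc, inf_subgroupOf_left] at h4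
  rw [relIndex_top_right] at h2
  have h5 := Nat.mul_le_mul_left n (h2.trans h1)
  rw [← h4]
  exact h5.trans (by omega)

end Cfsg.Agent.BH.RO
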