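import Cfsg.Agent.BH.RowO.Defs
import Cfsg.Agent.KM.Tor.BF

/-!
# BH (S4524), `RowO`: the box [E2] (lead)
-/

set_option autoImplicit false
set_option linter.unusedSectionVars false

namespace Cfsg.Agent.BH.RO

open Cfsg Subgroup Cfsg.Agent.TO
open Cfsg.Agent.KM.Tor (Loc Flag St)

namespace E2

variable {l : ℕ} [hl : Fact l.Prime] {S : Type} [Group S] [Finite S] {Q E : Subgroup S} {Γ Γ₀ : Subgroup (MulAut S)}

theorem pelt_iff {G : Type} [Group G] {x : G} : PElt l x ↔ ∃ k : ℕ, x ^ l ^ k = 1 :=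
  ⟨fun ⟨k, hk⟩ => ⟨k, hk ▸ pow_orderOf_eq_one x⟩, fun ⟨_, hk⟩ =>
    let ⟨j, _, e⟩ := (Nat.dvd_prime_pow hl.out).1 (orderOf_dvd_of_pow_eq_one hk)
    ⟨j, e⟩⟩

theorem pelt_inv {G : Type} [Group G] {x : G} (h : PElt l x) : PElt l x⁻¹ :=
  let ⟨k, hk⟩ := h
  ⟨k, (orderOf_inv x).trans hk⟩

theorem pelt_conj {G : Type} [Group G] {x : G} (h : PElt l x) (g : G) : PElt l (g⁻¹ * x * g) := by
  obtain ⟨k, hk⟩ := pelt_iff.1 h
  refine pelt_iff.2 ⟨k, ?_⟩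
  have := conj_pow (a := g⁻¹) (b := x) (i := l ^ k)
  rw [inv_inv] at this
  rw [this, hk, mul_one, inv_mul_cancel]

/-- the elements of `Γ₀` act with an order prime to `l` -/
theorem reg_pow (h : Sh l Q E Γ Γ₀) {d : MulAut S} (hd : d ∈ Γ₀) : ∃ m : ℕ, ¬ l ∣ m ∧ ∀ u ∈ Q, (d ^ m) u = u := by
  obtain ⟨a, m, h1, h2⟩ := Nat.exists_eq_pow_mul_and_not_dvd (orderOf_pos d).ne' l hl.out.ne_one
  refine ⟨m, h1, h.c0 _ (pow_mem hd m) (pelt_iff.2 ⟨a, ?_⟩)⟩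
  rw [← pow_mul, mul_comm, ← h2, pow_orderOf_eq_one]

theorem zpow_fix {d : MulAut S} {u : S} (h : d u = u) (n : ℤ) : (d ^ n) u = u :=
  show d ^ n ∈ MulAction.stabilizer (MulAut S) u from zpow_mem (show d ∈ MulAction.stabilizer (MulAut S) u from h) n

theorem conj_mem (h : Sh l Q E Γ Γ₀) {s u : S} (hs : s ∈ E) (hu : u ∈ Q) : s * u * s⁻¹ ∈ Q :=
  (h.nrm _ ((h.inn s).2 hs) u).2 hu

theorem act_mem (h : Sh l Q E Γ Γ₀) {x : MulAut S} (hx : x ∈ Γ) {e : S} (he : e ∈ E) : x e ∈ E := by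
  refine (h.inn _).1 ?_
  have : MulAut.conj (x e) = x * MulAut.conj e * x⁻¹ := MulEquiv.ext fun g => by
    simp [MulAut.conj_apply, MulAut.mul_apply]
  rw [this]
  exact mul_mem (mul_mem hx ((h.inn e).2 he)) (inv_mem hx)

theorem comm_mem (h : Sh l Q E Γ Γ₀) {x γ : MulAut S} (hx : x ∈ Γ) (hγ : γ ∈ Γ) : γ⁻¹ * x * γ * x⁻¹ ∈ Γ₀ := by
  have := h.normal
  have h1 : Nat.card (Γ ⧸ Γ₀.subgroupOf Γ) = l := h.index
  have h2 : IsCyclic (Γ ⧸ Γ₀.subgroupOf Γ) := isCyclic_of_prime_card h1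
  let π := QuotientGroup.mk' (Γ₀.subgroupOf Γ)
  have h3 : π ((⟨γ, hγ⟩ : Γ)⁻¹ * ⟨x, hx⟩ * ⟨γ, hγ⟩ * (⟨x, hx⟩ : Γ)⁻¹) = 1 := by
    rw [map_mul, map_mul, map_mul, map_inv, map_inv, mul_assoc (π _)⁻¹,
      (IsCyclic.isMulCommutative (α := Γ ⧸ Γ₀.subgroupOf Γ)).is_comm.comm (π ⟨x, hx⟩), inv_mul_cancel_left, mul_inv_cancel]
  exact mem_subgroupOf.1 ((QuotientGroup.eq_one_iff _).1 h3)

theorem conj_not (h : Sh l Q E Γ Γ₀) {x γ : MulAut S} (hx : x ∈ Γ) (hγ : γ ∈ Γ) (h0 : x ∉ Γ₀) : γ⁻¹ * x * γ ∉ Γ₀ := fun e =>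
  h0 (by
    have h1 := mul_mem (inv_mem (comm_mem h hx hγ)) e
    rwa [mul_inv_rev, inv_inv, inv_mul_cancel_right] at h1)

/-- the conjugates of an `l`-element act as the element up to `E` -/
theorem exists_cj (h : Sh l Q E Γ Γ₀) (hN : NS S l) {x γ : MulAut S} (hx : x ∈ Γ) (hp : PElt l x) (hγ : γ ∈ Γ) :
    ∃ s ∈ E, ∀ u ∈ Q, (γ⁻¹ * x * γ) u = s * x u * s⁻¹ := by
  have h1 := comm_mem h hx hγ
  obtain ⟨j, s, hs⟩ := hN _ _ (pelt_conj hp γ) (pelt_inv hp)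
  obtain ⟨m, h2, h3⟩ := reg_pow h h1
  set d := γ⁻¹ * x * γ * x⁻¹ with hd
  have h4 : s ∈ E := (h.inn s).1 (hs ▸ pow_mem (h.le h1) _)
  have h5 : Nat.Coprime m (l ^ j) := (Nat.Coprime.pow_left j ((Nat.Prime.coprime_iff_not_dvd hl.out).2 h2)).symm
  obtain ⟨a, b, e⟩ := Nat.isCoprime_iff_coprime.2 h5
  have h6 : d = MulAut.conj (s ^ b) * (d ^ m) ^ a := by
    rw [map_zpow, hs, ← zpow_natCast, ← zpow_natCast, ← zpow_mul, ← zpow_mul, ← zpow_add, add_comm, mul_comm, mul_comm _ b, e,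
      zpow_one]
  refine ⟨s ^ b, zpow_mem h4 b, fun u hu => ?_⟩
  have h7 : γ⁻¹ * x * γ = d * x := by rw [hd, inv_mul_cancel_right]
  rw [h7, MulAut.mul_apply, h6, MulAut.mul_apply, zpow_fix (h3 _ ((h.nrm x hx u).2 hu)) a, MulAut.conj_apply]

/-- the `l`-elements outside `Γ₀` preserve the orbits of `E` -/
theorem exists_orb (hM : BoxMv) (h : Sh l Q E Γ Γ₀) (hN : NS S l) {x : MulAut S} (hx : x ∈ Γ) (h0 : x ∉ Γ₀) (hp : PElt l x)
    {u : S} (hu : u ∈ Q) : ∃ s ∈ E, x u = s * u * s⁻¹ := by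
  obtain ⟨γ, hγ, e⟩ := ((hM l S Q E Γ Γ₀ h).2.2.2.1 x hx h0 hp).2.2 u hu
  obtain ⟨s, hs, h1⟩ := exists_cj h hN hx hp hγ
  have h2 := h1 u hu
  rw [MulAut.mul_apply, MulAut.mul_apply, e, MulAut.inv_apply_self] at h2
  refine ⟨s⁻¹, inv_mem hs, ?_⟩
  calc x u = s⁻¹ * (s * x u * s⁻¹) * s⁻¹⁻¹ := by group
    _ = _ := by rw [← h2]

theorem eq_one_of_sq (h2 : l ≠ 2) (h : IsPGroup l Q) {u : S} (hu : u ∈ Q) (e : u = u⁻¹) : u = 1 := by
  obtain ⟨k, hk⟩ := h ⟨u, hu⟩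
  have h1 : u ^ l ^ k = 1 := congrArg Subtype.val hk
  have h3 : u ^ 2 = 1 := by rw [sq]; exact mul_eq_one_iff_eq_inv.2 e
  have h4 : Nat.Coprime (l ^ k) 2 := Nat.Coprime.pow_left k ((Nat.coprime_primes hl.out Nat.prime_two).2 h2)
  exact orderOf_eq_one_iff.1 (Nat.eq_one_of_dvd_coprimes h4 (orderOf_dvd_of_pow_eq_one h1) (orderOf_dvd_of_pow_eq_one h3))

section sq

variable (h : Sh l Q E Γ Γ₀) (hq : ∀ s ∈ E, s ^ 2 ∈ Ce Q)
include h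

theorem qc {u v : S} (hu : u ∈ Q) (hv : v ∈ Q) : u * v = v * u := mem_centralizer_iff.1 (h.ab hv) u hu

include hq

theorem cc {s u : S} (hs : s ∈ E) (hu : u ∈ Q) : s * (s * u * s⁻¹) * s⁻¹ = u := by
  have h1 := mem_centralizer_iff.1 (hq s hs) u hu
  calc s * (s * u * s⁻¹) * s⁻¹ = s ^ 2 * u * (s ^ 2)⁻¹ := by rw [sq]; group
    _ = u := by rw [← h1, mul_inv_cancel_right]

theorem ci {s u : S} (hs : s ∈ E) (hu : u ∈ Q) : s⁻¹ * u * s = s * u * s⁻¹ := by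
  nth_rewrite 1 [← cc h hq hs hu]
  group

theorem cm {s t u : S} (hs : s ∈ E) (ht : t ∈ E) (hu : u ∈ Q) :
    s * (t * u * t⁻¹) * s⁻¹ = t * (s * u * s⁻¹) * t⁻¹ := by
  have h1 := ci h hq (mul_mem hs ht) hu
  have h2 := ci h hq hs hu
  have h3 := ci h hq ht (conj_mem h hs hu)
  calc s * (t * u * t⁻¹) * s⁻¹ = s * t * u * (s * t)⁻¹ := by group
    _ = t⁻¹ * (s⁻¹ * u * s) * t := by rw [← h1]; group
    _ = _ := by rw [h2, h3]

/-- a common eigenvector -/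
theorem exists_eig {c : S} (hc : c ∈ E) (h0 : ∃ u ∈ Q, c * u * c⁻¹ ≠ u) (T : Finset S) :
    ∃ u ∈ Q, u ≠ 1 ∧ c * u * c⁻¹ = u⁻¹ ∧ ∀ s ∈ T, s ∈ E → s * u * s⁻¹ = u ∨ s * u * s⁻¹ = u⁻¹ := by
  classical
  induction T using Finset.induction_on with
  | empty =>
    obtain ⟨u, hu, e⟩ := h0
    refine ⟨u * (c * u * c⁻¹)⁻¹, mul_mem hu (inv_mem (conj_mem h hc hu)), fun e' => e (mul_inv_eq_one.1 e').symm, ?_,
      fun s hs => absurd hs (Finset.notMem_empty s)⟩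
    calc c * (u * (c * u * c⁻¹)⁻¹) * c⁻¹ = c * u * c⁻¹ * (c * (c * u * c⁻¹) * c⁻¹)⁻¹ := by group
      _ = _ := by rw [cc h hq hc hu, mul_inv_rev u, inv_inv]
  | insert a T _ ih =>
    obtain ⟨u, hu, h1, h2, h3⟩ := ih
    by_cases h4 : a ∈ E → a * u * a⁻¹ = u ∨ a * u * a⁻¹ = u⁻¹
    · exact ⟨u, hu, h1, h2, fun s hs => (Finset.mem_insert.1 hs).elim (fun e => e ▸ h4) (h3 s)⟩
    push Not at h4
    obtain ⟨ha, -, h5⟩ := h4
    have h6 := conj_mem h ha hu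
    have h7 : ∀ s ∈ E, s * (u * (a * u * a⁻¹)) * s⁻¹ = s * u * s⁻¹ * (a * (s * u * s⁻¹) * a⁻¹) := fun s hs => by
      rw [← cm h hq hs ha hu]; group
    have h8 : u⁻¹ * (a * u⁻¹ * a⁻¹) = (u * (a * u * a⁻¹))⁻¹ := by
      rw [qc h hu h6]; group
    refine ⟨u * (a * u * a⁻¹), mul_mem hu h6, fun e => h5 (eq_inv_of_mul_eq_one_right e), by rw [h7 c hc, h2, h8],
      fun s hs hE => (Finset.mem_insert.1 hs).elim (fun e => Or.inl ?_) fun e => (h3 s e hE).imp (fun e' => ?_) fun e' => ?_⟩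
    · rw [e, h7 a ha, cc h hq ha hu, qc h hu h6]
    · rw [h7 s hE, e']
    · rw [h7 s hE, e', h8]

end sq

theorem sq (hM : BoxMv) (h2 : l ≠ 2) (h : Sh l Q E Γ Γ₀) (hN : NS S l) : ¬ ∀ s ∈ E, s ^ 2 ∈ Ce Q := fun hq => by
  obtain ⟨-, -, -, h1, -, x, hx, h0, hp, -⟩ := hM l S Q E Γ Γ₀ h
  obtain ⟨⟨u₀, a1, a2⟩, a3, a4⟩ := h1 x hx h0 hp
  by_cases hc : ∀ e ∈ E, ∀ u ∈ Q, x e * u * (x e)⁻¹ = e * u * e⁻¹
  · obtain ⟨γ, hγ, e⟩ := a4 u₀ a1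
    obtain ⟨s, hs, h3⟩ := exists_cj h hN hx hp hγ
    have h4 : ∀ n : ℕ, ∀ u ∈ Q, ((γ⁻¹ * x * γ) ^ n) u = s ^ n * (x ^ n) u * (s ^ n)⁻¹ := fun n => by
      induction n with
      | zero => intro u _; simp
      | succ n ih =>
        intro u hu
        have h5 : (x ^ n) u ∈ Q := (h.nrm _ (pow_mem hx n) u).2 hu
        rw [pow_succ', MulAut.mul_apply, ih u hu, h3 _ (conj_mem h (pow_mem hs n) h5), map_mul, map_mul, map_inv,
          hc _ (pow_mem hs n) _ ((h.nrm x hx _).2 h5), pow_succ' x, MulAut.mul_apply, pow_succ' s]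
        group
    have h5 : ∀ u ∈ Q, s * u * s⁻¹ = u := fun u hu => by
      have h6 := h4 l u hu
      have h7 := conj_pow (a := γ⁻¹) (b := x) (i := l)
      rw [inv_inv] at h7
      rw [h7, MulAut.mul_apply, MulAut.mul_apply, a3 _ ((h.nrm γ hγ u).2 hu), MulAut.inv_apply_self, a3 u hu] at h6
      obtain ⟨k, hk⟩ := hl.out.odd_of_ne_two h2
      have h8 := mem_centralizer_iff.1 (pow_mem (hq s hs) k) u hu
      rw [hk, pow_succ', pow_mul] at h6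
      calc s * u * s⁻¹ = s * (u * (s ^ 2) ^ k * ((s ^ 2) ^ k)⁻¹) * s⁻¹ := by rw [mul_inv_cancel_right]
        _ = s * (s ^ 2) ^ k * u * (s * (s ^ 2) ^ k)⁻¹ := by rw [h8]; group
        _ = u := h6.symm
    have h6 := h3 u₀ a1
    rw [MulAut.mul_apply, MulAut.mul_apply, e, MulAut.inv_apply_self, h5 _ ((h.nrm x hx _).2 a1)] at h6
    exact a2 h6.symm
  · push Not at hc
    obtain ⟨e, he, v, hv, h3⟩ := hc
    have := Fintype.ofFinite S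
    have h4 := act_mem h hx he
    obtain ⟨u, hu, h5, h6, h7⟩ := exists_eig h hq (mul_mem (inv_mem he) h4) ⟨v, hv, fun e' => h3 (by
      nth_rewrite 2 [← e']; group)⟩ Finset.univ
    obtain ⟨s, hs, h8⟩ := exists_orb hM h hN hx h0 hp hu
    have h9 : x e * x u * (x e)⁻¹ = x (e * u * e⁻¹) := by rw [map_mul, map_mul, map_inv]
    have h10 : x e * u * (x e)⁻¹ = e * u * e⁻¹ := by
      rcases h7 s (Finset.mem_univ _) hs with b | b <;> rw [b] at h8 <;>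
        rcases h7 e (Finset.mem_univ _) he with c | c <;> rw [c] at h9 ⊢
      · rwa [h8] at h9
      · rwa [map_inv, h8] at h9
      · rw [h8] at h9
        exact inv_injective (by rw [← h9]; group)
      · rw [map_inv, h8] at h9
        exact inv_injective (by rw [← h9]; group)
    refine h5 (eq_one_of_sq h2 h.pg hu ?_)
    rw [← h6]
    calc u = e⁻¹ * (e * u * e⁻¹) * e := by group
      _ = _ := by rw [← h10]; group

theorem flag (hM : BoxMv) {Y : Type} [Group Y] {G : Subgroup Y} {j : S →* Y} (hj : Function.Injective j) (hG : ∀ s, j s ∈ G)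
    (h : Sh 3 Q E Γ Γ₀) (hN : NS S 3) : ¬ Flag G (Q.map j) := by
  have : Fact (Nat.Prime 3) := ⟨Nat.prime_three⟩
  rintro ⟨V₁, V₂, -, -, -, a1, a2, a3, a4⟩
  refine sq hM (by norm_num) h hN fun s hs => ?_
  have hn : E ≤ normalizer (Q : Set S) := fun t ht => mem_normalizer_iff.2 fun y => (h.nrm _ ((h.inn t).2 ht) y).symm
  have hn' : ∀ t ∈ E, j t ∈ normalizer (Q.map j : Set Y) := fun t ht => le_normalizer_map j ⟨t, hn ht, rfl⟩
  have hi : Function.Injective (j.comp Q.subtype) := hj.comp Subtype.val_injective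
  obtain ⟨ρ, hρ⟩ : ∃ ρ : E →* MulAut Q, ∀ (t : E) (d : Q), (ρ t d : S) = t * d * (t : S)⁻¹ :=
    ⟨Q.normalizerMonoidHom.comp (inclusion hn), fun _ _ => rfl⟩
  have e : ∀ (t : E) (d : Q), j.comp Q.subtype (ρ t d) = j t * j.comp Q.subtype d * (j t)⁻¹ := fun t d => by
    change j (ρ t d : S) = _
    rw [hρ, map_mul, map_mul, map_inv]
    rfl
  let _ : CommGroup Q := { (inferInstance : Group Q) with mul_comm := fun x y => Subtype.ext (qc h x.2 y.2) }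
  have b1 : ∀ t, ∀ v ∈ V₁.comap (j.comp Q.subtype), ρ t v ∈ V₁.comap (j.comp Q.subtype) := fun t v hv =>
    mem_comap.2 (e t v ▸ (a1 _ (hG _) (hn' t t.2)).1 _ hv)
  have b2 : ∀ t, ∀ v ∈ V₂.comap (j.comp Q.subtype), ρ t v ∈ V₂.comap (j.comp Q.subtype) := fun t v hv =>
    mem_comap.2 (e t v ▸ (a1 _ (hG _) (hn' t t.2)).2 _ hv)
  obtain ⟨H₁, c1, c2⟩ := KM.Tor.BF.step ρ (V := ⊥) (fun t v hv => by rw [mem_bot.1 hv, map_one]; exact one_mem _) b1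
    fun d hd e he h1 => by
      have h2 := a2 _ hd _ he fun h2 => h1 (hi (h2.trans (map_one _).symm))
      rw [← map_inv, ← map_mul, ← map_mul] at h2
      exact h2.imp (fun h3 => hi (h3.trans (map_one _).symm))
        (Or.imp (fun h3 => hi (h3.trans (map_one _).symm)) fun h3 => hi (h3.trans (map_one _).symm))
  obtain ⟨H₂, d1, d2⟩ := KM.Tor.BF.step ρ b1 b2 fun d hd e he h1 => by
    have h2 := a3 _ hd _ he h1
    rwa [← map_inv, ← map_mul, ← map_mul] at h2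
  obtain ⟨H₃, f1, f2⟩ := KM.Tor.BF.step ρ (W := {d | d ^ 3 = 1}) b2
    (fun t w (hw : w ^ 3 = 1) => show ρ t w ^ 3 = 1 by rw [← map_pow, hw, map_one]) fun d hd e he h1 => by
      have h3 : ∀ d : Q, d ^ 3 = 1 → j.comp Q.subtype d ∈ {d | d ∈ Q.map j ∧ d ^ 3 = 1} := fun d hd =>
        ⟨⟨d, d.2, rfl⟩, by rw [← map_pow, hd, map_one]⟩
      have h2 := a4 _ (h3 d hd) _ (h3 e he) h1
      rwa [← map_inv, ← map_mul, ← map_mul] at h2
  have g : ∀ H : Subgroup E, H.index ∣ 2 → (⟨s, hs⟩ : E) ^ 2 ∈ H := fun H hH => by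
    rcases (Nat.dvd_prime Nat.prime_two).1 hH with e | e
    · rw [index_eq_one.1 e]; exact mem_top _
    · exact H.sq_mem_of_index_two e _
  set t : E := ⟨s, hs⟩ ^ 2 with ht
  obtain ⟨m, h3, h4⟩ := reg_pow h (h.inn0 t t.2)
  have h5 : ρ t ^ m = 1 := MulEquiv.ext fun d => Subtype.ext (by
    have h6 := h4 d d.2
    rw [← map_pow, MulAut.conj_apply] at h6
    rw [← map_pow, hρ]
    exact h6)
  have h6 : ∀ v ∈ V₁.comap (j.comp Q.subtype), ρ t v = v := fun v hv => mul_inv_eq_one.1 (mem_bot.1 (c2 t (g _ c1) v hv))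
  have h7 : ∀ v ∈ V₂.comap (j.comp Q.subtype), ρ t v = v := fun v hv =>
    KM.Tor.BF.fix Nat.prime_three h.pg h3 h5 (h6 _ (d2 t (g _ d1) v hv))
  have h8 := KM.Tor.BF.fix_all Nat.prime_three h.pg h3 h5 fun v hv =>
    KM.Tor.BF.fix Nat.prime_three h.pg h3 h5 (h7 _ (f2 t (g _ f1) v hv))
  refine mem_centralizer_iff.2 fun d hd => ?_
  have h9 := hρ t ⟨d, hd⟩
  rw [h8] at h9
  exact eq_mul_inv_iff_mul_eq.1 h9

/-- the orbits of `E` have at least five elements -/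
theorem five (hM : BoxMv) (h : Sh 3 Q E Γ Γ₀) (hN : NS S 3) (h9 : Nine Q E Γ) {u : S} (hu : u ∈ Q) (h1 : u ≠ 1) :
    5 ≤ {v | ∃ s ∈ E, s * u * s⁻¹ = v}.ncard := by
  have : Fact (Nat.Prime 3) := ⟨Nat.prime_three⟩
  obtain ⟨-, -, -, h2, -, x, hx, h0, hp, -⟩ := hM 3 S Q E Γ Γ₀ h
  obtain ⟨⟨b, a1, a2⟩, -, -⟩ := h2 x hx h0 hp
  obtain ⟨γ, hγ, e⟩ := h9.tr u hu b a1 h1 fun e => a2 (by rw [e, map_one])
  have b1 : γ⁻¹ * x * γ ∈ Γ := mul_mem (mul_mem (inv_mem hγ) hx) hγ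
  have b2 := conj_not h hx hγ h0
  have b3 := pelt_conj hp γ
  have b4 : (γ⁻¹ * x * γ) u ≠ u := fun e' => a2 (by
    rw [MulAut.mul_apply, MulAut.mul_apply, e] at e'
    rw [← MulAut.apply_inv_self S γ (x b), e', e])
  generalize γ⁻¹ * x * γ = y at b1 b2 b3 b4
  have b5 : y (y (y u)) = u := by
    have := (h2 y b1 b2 b3).2.1 u hu
    rwa [pow_three] at this
  have c1 : y u ∈ Q := (h.nrm y b1 u).2 hu
  obtain ⟨s, hs, d1⟩ := exists_orb hM h hN b1 b2 b3 hu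
  obtain ⟨t, ht, d2⟩ := exists_orb hM h hN b1 b2 b3 c1
  obtain ⟨n, hn, d3⟩ := h9.neg
  have n1 : y (y u) ≠ u := fun e' => b4 (by rw [e'] at b5; exact b5)
  have n2 : y (y u) ≠ y u := fun e' => b4 (y.injective e')
  have n3 : u⁻¹ ≠ u := fun e' => h1 (eq_one_of_sq (by norm_num) h.pg hu e'.symm)
  have n4 : u⁻¹ ≠ y u := fun e' => n1 (by rw [← e', map_inv, ← e', inv_inv])
  have n5 : u⁻¹ ≠ y (y u) := fun e' => n4 (by
    have h3 := congrArg y e'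
    rw [b5, map_inv] at h3
    exact inv_eq_iff_eq_inv.2 (inv_eq_iff_eq_inv.1 h3 ▸ (inv_inv u).symm ▸ rfl))
  have n6 : (y u)⁻¹ ≠ u := fun e' => n4 (inv_eq_iff_eq_inv.1 e').symm
  have n7 : (y u)⁻¹ ≠ y u := fun e' => n3 (y.injective (by rw [map_inv, e']))
  have n8 : (y u)⁻¹ ≠ y (y u) := fun e' => n4 (y.injective (by rw [map_inv, e']))
  have n9 : (y u)⁻¹ ≠ u⁻¹ := fun e' => b4 (inv_injective e')
  have h3 : ({(y u)⁻¹, u⁻¹, y (y u), y u, u} : Set S).ncard = 5 := by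
    rw [Set.ncard_insert_of_notMem (by simp only [Set.mem_insert_iff, Set.mem_singleton_iff]; tauto),
      Set.ncard_insert_of_notMem (by simp only [Set.mem_insert_iff, Set.mem_singleton_iff]; tauto),
      Set.ncard_insert_of_notMem (by simp only [Set.mem_insert_iff, Set.mem_singleton_iff]; tauto), Set.ncard_pair b4]
  rw [← h3]
  refine Set.ncard_le_ncard ?_
  rintro _ (rfl | rfl | rfl | rfl | rfl)
  · exact ⟨n * s, mul_mem hn hs, by rw [← d3 _ c1, d1]; group⟩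
  · exact ⟨n, hn, d3 u hu⟩
  · exact ⟨t * s, mul_mem ht hs, by rw [d2, d1]; group⟩
  · exact ⟨s, hs, d1.symm⟩
  · exact ⟨1, one_mem _, by group⟩

theorem reg (hM : BoxMv) (h : Sh 3 Q E Γ Γ₀) (hN : NS S 3) (h9 : Nine Q E Γ) {u v : S} (hu : u ∈ Q) (hv : v ∈ Q)
    (h1 : u ≠ 1) (h2 : v ≠ 1) : ∃ s ∈ E, s * u * s⁻¹ = v := by
  have : Fact (Nat.Prime 3) := ⟨Nat.prime_three⟩
  by_contra h0
  have h3 : Disjoint {w | ∃ s ∈ E, s * u * s⁻¹ = w} {w | ∃ s ∈ E, s * v * s⁻¹ = w} := Set.disjoint_left.2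
    fun w ⟨s, hs, e⟩ ⟨t, ht, e'⟩ => h0 ⟨t⁻¹ * s, mul_mem (inv_mem ht) hs, by
      calc t⁻¹ * s * u * (t⁻¹ * s)⁻¹ = t⁻¹ * (s * u * s⁻¹) * t := by group
        _ = v := by rw [e, ← e']; group⟩
  have h4 : {w | ∃ s ∈ E, s * u * s⁻¹ = w} ∪ {w | ∃ s ∈ E, s * v * s⁻¹ = w} ⊆ (Q : Set S) := by
    rintro _ (⟨s, hs, rfl⟩ | ⟨s, hs, rfl⟩)
    · exact conj_mem h hs hu
    · exact conj_mem h hs hv
  have h5 := Set.ncard_le_ncard h4
  have h6 : (Q : Set S).ncard = 9 := h9.card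
  have h7 := five hM h hN h9 hu h1
  have h8 := five hM h hN h9 hv h2
  rw [Set.ncard_union_eq h3] at h5
  omega

end E2

/-- **[E2]** -/
theorem boxE2_of (hM : BoxMv) : BoxE2 where
  sq _ _ _ _ _ _ _ _ _ h2 h hN := E2.sq hM h2 h hN
  flag _ _ _ _ _ _ _ _ _ _ _ hj hG h hN := E2.flag hM hj hG h hN
  reg _ _ _ _ _ _ _ h hN h9 _ hu _ hv h1 h2 := E2.reg hM h hN h9 hu hv h1 h2

end Cfsg.Agent.BH.RO
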