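import Cfsg.Agent.BH.RowO.Defs
import Cfsg.Agent.Blocks.PPart

/-!
# BH (S4524), `RowO`: the box `BoxMv` (helper58)
-/

set_option autoImplicit false

namespace Cfsg.Agent.BH.RO

open Cfsg Subgroup Cfsg.Agent.TO
open Cfsg.Agent.KM.Tor (Loc)

variable {l : ℕ} [hl : Fact l.Prime]

section grp

variable {X : Type} [Group X]

theorem eq_one_of_pow {x : X} {k n : ℕ} (h1 : x ^ l ^ k = 1) (h2 : x ^ n = 1) (hn : ¬ l ∣ n) : x = 1 :=
  orderOf_eq_one_iff.1 (Nat.eq_one_of_dvd_coprimes (Nat.Coprime.pow_left k (hl.out.coprime_iff_not_dvd.2 hn))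
    (orderOf_dvd_of_pow_eq_one h1) (orderOf_dvd_of_pow_eq_one h2))

/-- an `l`-element of `H` outside of a normal subgroup of index `l` -/
theorem exists_pelt_notMem [Finite X] {H N : Subgroup X} [N.Normal] (hN : N.index = l) (hH : ¬ l ∣ H.index) :
    ∃ x ∈ H, x ∉ N ∧ PElt l x := by
  obtain ⟨h, h1, h2⟩ := SetLike.not_le_iff_exists.1 (mt index_dvd_of_le (hN ▸ hH : ¬ N.index ∣ H.index))
  obtain ⟨x, y, e, -, ⟨k, h3⟩, h4⟩ := Blocks.PPart.exists_isPPart l (⟨h, h1⟩ : H)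
  have h5 : (y : X) ∈ N := (QuotientGroup.eq_one_iff _).1 (eq_one_of_pow (l := l) (k := 1)
    (by rw [pow_one, ← hN]; exact pow_card_eq_one') (by
      rw [← QuotientGroup.mk_pow, ← coe_pow, pow_orderOf_eq_one, coe_one, QuotientGroup.mk_one]) h4)
  exact ⟨x, x.2, fun h6 => h2 ((show (x : X) * y = h from congrArg Subtype.val e) ▸ mul_mem h6 h5), k, (orderOf_coe x).trans h3⟩

/-- an `l`-element is conjugate into a subgroup of index prime to `l` -/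
theorem exists_conj_mem [Finite X] {H : Subgroup X} (hH : ¬ l ∣ H.index) {x : X} (hx : PElt l x) :
    ∃ g, g⁻¹ * x * g ∈ H := by
  classical
  obtain ⟨k, hk⟩ := pElt_iff.1 hx
  have := Fintype.ofFinite (X ⧸ H)
  obtain ⟨c, hc⟩ := Equiv.Perm.exists_fixed_point_of_prime (p := l) (n := k) (σ := MulAction.toPermHom X (X ⧸ H) x)
    (by rwa [← Nat.card_eq_fintype_card]) (by rw [← map_pow, hk, map_one])
  obtain ⟨g, rfl⟩ := QuotientGroup.mk_surjective c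
  exact ⟨g, by rw [mul_assoc]; exact QuotientGroup.eq.1 hc.symm⟩

/-- an abelian `l`-group with one subgroup of order `l` -/
theorem exists_gen [Finite X] {Q : Subgroup X} (hQ : IsPGroup l Q) (hab : Q ≤ Ce Q)
    (h : ∀ u ∈ Q, ∀ v ∈ Q, orderOf u = l → orderOf v = l → v ∈ zpowers u) : ∃ t ∈ Q, Q ≤ zpowers t := by
  obtain ⟨t, ht, hm⟩ := Set.exists_max_image (Q : Set X) orderOf (Set.toFinite _) ⟨1, one_mem Q⟩
  refine ⟨t, ht, fun w hw => ?_⟩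
  obtain ⟨k, hk⟩ := pElt_iff.1 (pElt_of_mem hQ hw)
  obtain ⟨m, h1⟩ := pElt_of_mem hQ ht
  induction k generalizing w with
  | zero => rw [pow_zero, pow_one] at hk; exact hk ▸ one_mem _
  | succ k ih =>
    obtain ⟨j, hj⟩ := mem_powers_iff_mem_zpowers.2 (ih _ (pow_mem hw l) (by rw [← pow_mul, ← pow_succ', hk]))
    by_cases h2 : w = 1
    · exact h2 ▸ one_mem _
    obtain ⟨n, h3⟩ := pElt_of_mem hQ hw
    have h4 : l ∣ orderOf w := h3 ▸ dvd_pow_self l fun e => h2 (orderOf_eq_one_iff.1 (by rw [h3, e, pow_zero]))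
    by_cases h5 : l ∣ j
    · obtain ⟨j, rfl⟩ := h5
      have h6 : (w * (t ^ j)⁻¹) ^ l = 1 := by
        rw [(show Commute w (t ^ j)⁻¹ from hab (inv_mem (pow_mem ht j)) w hw).mul_pow, ← show t ^ (l * j) = w ^ l from hj,
          inv_pow, ← pow_mul, mul_comm j, mul_inv_cancel]
      rw [← mul_mem_cancel_right (inv_mem (npow_mem_zpowers t j))]
      by_cases h7 : w * (t ^ j)⁻¹ = 1
      · exact h7 ▸ one_mem _
      have h8 : l ∣ orderOf t := h1 ▸ dvd_pow_self l fun e => h2 (orderOf_eq_one_iff.1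
        (le_antisymm ((hm w hw).trans_eq (by rw [h1, e, pow_zero])) (orderOf_pos w)))
      exact zpowers_le.2 (npow_mem_zpowers t _) (h _ (pow_mem ht _) _ (mul_mem hw (inv_mem (pow_mem ht j)))
        (orderOf_pow_orderOf_div (orderOf_pos t).ne' h8) (orderOf_eq_prime h6 h7))
    · have h6 : orderOf (w ^ l) = orderOf t := by
        rw [← show t ^ j = w ^ l from hj]
        exact Nat.Coprime.orderOf_pow (h1 ▸ Nat.Coprime.pow_left m (hl.out.coprime_iff_not_dvd.2 h5))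
      rw [orderOf_pow_of_dvd hl.out.ne_zero h4] at h6
      exact absurd (h6 ▸ Nat.div_lt_self (orderOf_pos w) hl.out.one_lt) (not_lt.2 (hm w hw))

/-- the restriction to an invariant subgroup -/
def resQ {Q : Subgroup X} {Γ : Subgroup (MulAut X)} (h : ∀ α ∈ Γ, ∀ x, α x ∈ Q ↔ x ∈ Q) : Γ →* MulAut Q where
  toFun α :=
    { toFun := fun u => ⟨α.1 u, (h α α.2 u).2 u.2⟩
      invFun := fun u => ⟨α.1⁻¹ u, (h _ (inv_mem α.2) u).2 u.2⟩
      left_inv := fun u => Subtype.ext (α.1.symm_apply_apply u)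
      right_inv := fun u => Subtype.ext (α.1.apply_symm_apply u)
      map_mul' := fun a b => Subtype.ext (map_mul α.1 (a : X) b) }
  map_one' := rfl
  map_mul' _ _ := rfl

omit hl in
theorem resQ_eq_one {Q : Subgroup X} {Γ : Subgroup (MulAut X)} (h : ∀ α ∈ Γ, ∀ x, α x ∈ Q ↔ x ∈ Q) {α : Γ} :
    resQ h α = 1 ↔ ∀ u ∈ Q, α.1 u = u :=
  ⟨fun e u hu => congrArg Subtype.val (DFunLike.congr_fun e (⟨u, hu⟩ : Q)),
    fun e => MulEquiv.ext fun u => Subtype.ext (e u u.2)⟩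

end grp

variable {S : Type} [Group S] [Finite S] {Q E : Subgroup S} {Γ Γ₀ : Subgroup (MulAut S)}

theorem Sh.fix (h : Sh l Q E Γ Γ₀) {t : S} (ht : t ∈ Q) : ∃ β ∈ Γ, β ∉ Γ₀ ∧ PElt l β ∧ β t = t := by
  have := h.normal
  obtain ⟨x, h1, h2, k, h3⟩ := exists_pelt_notMem (N := Γ₀.subgroupOf Γ) h.index (h.orb t ht)
  exact ⟨x, x.2, h2, ⟨k, (orderOf_coe x).trans h3⟩, h1⟩

theorem Sh.moves (h : Sh l Q E Γ Γ₀) {β : MulAut S} (h1 : β ∈ Γ) (h2 : β ∉ Γ₀) : ∃ u ∈ Q, β u ≠ u := by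
  by_contra h3
  push Not at h3
  have := h.normal
  obtain ⟨α, a1, a2, u, a3, a4⟩ := h.nc
  obtain ⟨j, hj⟩ := mem_powers_of_prime_card (G := Γ ⧸ Γ₀.subgroupOf Γ) (p := l) h.index
    (g := QuotientGroup.mk ⟨β, h1⟩) (mt (QuotientGroup.eq_one_iff _).1 h2) (g' := QuotientGroup.mk ⟨α, a1⟩)
  have a5 : ((⟨β, h1⟩ : Γ) ^ j)⁻¹ * ⟨α, a1⟩ ∈ Γ₀.subgroupOf Γ := QuotientGroup.eq.1 hj
  obtain ⟨x, y, e, -, ⟨k, a6⟩, a7⟩ := Blocks.PPart.exists_isPPart l (⟨_, a5⟩ : Γ₀.subgroupOf Γ)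
  have a8 : resQ h.nrm ⟨α, a1⟩ = resQ h.nrm y := by
    have b1 := congrArg (resQ h.nrm) (show x.1 * y.1 = (⟨β, h1⟩ ^ j)⁻¹ * ⟨α, a1⟩ from congrArg Subtype.val e)
    rw [map_mul, map_mul, map_inv, map_pow, (resQ_eq_one h.nrm (α := ⟨β, h1⟩)).2 h3,
      (resQ_eq_one h.nrm).2 (h.c0 _ x.2 ⟨k, (orderOf_coe _).trans ((orderOf_coe x).trans a6)⟩), one_pow, inv_one,
      one_mul, one_mul] at b1
    exact b1.symm
  obtain ⟨n, a9⟩ := pElt_iff.1 a2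
  refine a4 ((resQ_eq_one h.nrm (α := ⟨α, a1⟩)).1 (eq_one_of_pow (k := n) ?_ ?_ a7) u a3)
  · rw [← map_pow, show (⟨α, a1⟩ : Γ) ^ l ^ n = 1 from Subtype.ext a9, map_one]
  · rw [a8, ← map_pow, ← coe_pow, pow_orderOf_eq_one, coe_one, map_one]

/-- **[MV]** -/
theorem boxMv : BoxMv := by
  intro l hl S _ _ Q E Γ Γ₀ h
  have := h.normal
  refine ⟨fun t ht => ?_, ?_, ?_, fun β h1 h2 h3 => ⟨h.moves h1 h2, h.c0 _ ?_ ?_, fun t ht => ?_⟩, fun _ => h.fix, ?_⟩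
  · obtain ⟨β, h1, h2, h3, h4⟩ := h.fix ht
    exact ⟨β, by rintro ⟨s, rfl⟩; exact h2 (h.inn0 s ((h.inn s).1 h1)), h3, h4⟩
  · obtain ⟨y, -, -, h1, -⟩ := h.loc 1 (one_mem _) ⟨0, by rw [orderOf_one, pow_zero]⟩
    exact ⟨y, h1⟩
  · by_contra h1
    push Not at h1
    obtain ⟨t, h2, h3⟩ := exists_gen h.pg h.ab h1
    obtain ⟨β, h4, h5, -, h6⟩ := h.fix h2
    obtain ⟨u, h7, h8⟩ := h.moves h4 h5
    obtain ⟨n, rfl⟩ := h3 h7
    exact h8 (by rw [map_zpow, h6])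
  · exact h.index ▸ pow_index_mem (Γ₀.subgroupOf Γ) ⟨β, h1⟩
  · obtain ⟨k, hk⟩ := pElt_iff.1 h3
    exact pElt_iff.2 ⟨k, by rw [← pow_mul, mul_comm, pow_mul, hk, one_pow]⟩
  · obtain ⟨k, hk⟩ := h3
    obtain ⟨γ, h4⟩ := exists_conj_mem (h.orb t ht) (x := ⟨β, h1⟩) ⟨k, (orderOf_coe _).symm.trans hk⟩
    exact ⟨γ, γ.2, γ.1.symm_apply_eq.1 h4⟩
  · obtain ⟨β, h1, h2, h3, -⟩ := h.fix (one_mem Q)
    obtain ⟨y, s, h4, h5, h6, h7⟩ := h.loc β h1 h3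
    exact ⟨_, mul_mem (h.le (h.inn0 s h4)) h1, fun h8 => h2 ((mul_mem_cancel_left (h.inn0 s h4)).1 h8), h7, y, h5, h6⟩

end Cfsg.Agent.BH.RO
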