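import Cfsg.Agent.BH.RowO.Mv
import Cfsg.Agent.BH.Reg.A
import Cfsg.Agent.S0908

/-!
# BH (S4524), `RowO`: the box `BoxSh` (helper58)
-/

set_option autoImplicit false

namespace Cfsg.Agent.BH.RO

open Cfsg Subgroup Cfsg.Agent Cfsg.Agent.TO Cfsg.Agent.KM.BK Cfsg.Agent.Characters Cfsg.Agent.BHZ.Nil
open Cfsg.Agent.H591.Reynolds (IsStab)

variable {l : ℕ} [hl : Fact l.Prime] {M : Ideal AlgInt}

section Ovg

variable {G : Type} [Group G] [Finite G] {N : Subgroup G} [hN : N.Normal] {b : Set (IrrCharacter N)} {Q : Subgroup G}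
  {θ : G → ℂ}

/-- **index a power of `l`**: a defect group which fixes the root -/
theorem exists_D (R : Root l M N b Q θ) (hT : N ⊔ In Q θ = ⊤) (hi : ∃ k, N.index = l ^ k) :
    ∃ (B : Set (IrrCharacter G)) (D : Subgroup G), IsPBlock M B ∧ cov B N = b ∧ IsDefectGroup l M B D ∧
      D ≤ In Q θ ∧ D ⊓ N = Q ∧ N ⊔ D = ⊤ := by
  have := Fintype.ofFinite G
  have := Fintype.ofFinite N
  have hM := R.can.hM
  have hs : ∀ g : G, ∀ χ ∈ b, ∀ χ' : IrrCharacter N,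
      (∀ n : N, (χ' : N → ℂ) n = (χ : N → ℂ) ⟨g * n * g⁻¹, hN.conj_mem n n.2 g⟩) → χ' ∈ b := fun g χ h1 χ' h2 =>
    Cov.mem_Fn.1 ((funext h2 : (χ' : N → ℂ) = χ ∘ MulAut.conjNormal g) ▸ (Cov.stab_top R.can hT g _).2 (Cov.mem_Fn.2 h1))
  obtain ⟨B, ⟨hB, a1⟩, a2⟩ := S0966.result l M hM N hi b R.can.hb
  obtain rfl := Reg.cov_eq hM hB R.can.hb (fun g => iff_of_true (mem_top g) (hs g)) (covH_iff.2 a1)
  obtain ⟨c, a3, -, a4⟩ := Reg.key1 hM hB R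
  obtain ⟨E, hE⟩ := H592.Defect.exists_defectGroup l hM a3.1
  obtain ⟨a5, a6, -⟩ := S0970.result l M hM N _ R.can.hb hs B hB a1 (fun B' h1 h2 => (a2 B' ⟨h1, h2⟩) ▸ le_rfl) _ (a4 E hE)
  have a7 : Q ≤ E.map (In Q θ).subtype ⊓ N := fun u hu => ⟨⟨⟨u, Reg.le_In R hu⟩, S0912.result l M hM c a3.1 E hE
    (Lib.Cores.le_pCore (N := Q.subgroupOf (In Q θ)) ⟨fun x hx g => (g.2.1 x).2 hx⟩
      (Cov.pg_D R.le R.can).comap_subtype hu), rfl⟩, R.le hu⟩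
  refine ⟨B, _, hB, rfl, a4 E hE, map_subtype_le E, (eq_of_le_of_card_ge a7 (le_of_eq ?_)).symm, ?_⟩
  · rw [← Nat.card_congr (subgroupOfEquivOfLe R.le).toEquiv, ← Nat.card_congr (subgroupOfEquivOfLe inf_le_right).toEquiv,
      S0908.result l M hM _ R.can.hb _ a6, S0908.result l M hM _ R.can.hb _ R.can.hD]
  · obtain ⟨k, hk⟩ := hi
    rw [sup_comm, ← index_eq_one]
    exact Nat.eq_one_of_dvd_coprimes (Nat.Coprime.pow_left k (hl.out.coprime_iff_not_dvd.2 a5))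
      (hk ▸ index_dvd_of_le le_sup_right) dvd_rfl

/-- a regular element of `N` which is centralized by the defect group -/
theorem exists_y (hM : IsPModular l M) {B : Set (IrrCharacter G)} {D : Subgroup G} (hB : IsPBlock M B)
    (hD : IsDefectGroup l M B D) (hi : ∃ k, N.index = l ^ k) : ∃ y ∈ N, ¬ l ∣ orderOf y ∧ (∀ d ∈ D, d * y = y * d) ∧
      ∀ P ≤ N, IsPGroup l P → (∀ x ∈ P, x * y = y * x) → Nat.card P ≤ Nat.card (D ⊓ N : Subgroup G) := by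
  obtain ⟨y, hy, T, rfl⟩ := hD
  obtain ⟨k, hk⟩ := hi
  have a1 : ¬ l ∣ orderOf y := H614.Spin.isPRegular_of_isDefectClass hM hB hy
  refine ⟨y, (QuotientGroup.eq_one_iff _).1 (eq_one_of_pow (k := k) (by rw [← hk]; exact pow_card_eq_one')
    (by rw [← QuotientGroup.mk_pow, pow_orderOf_eq_one, QuotientGroup.mk_one]) a1), a1, ?_, fun P h1 h2 h3 => ?_⟩
  · rintro _ ⟨w, -, rfl⟩
    exact mem_centralizer_singleton_iff.1 w.2
  obtain ⟨U, hU⟩ := (h2.comap_subtype (K := centralizer {y})).exists_le_sylow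
  obtain ⟨g, rfl⟩ := MulAction.exists_smul_eq (centralizer ({y} : Set G)) U T
  refine Nat.card_le_card_of_injective (fun x => ⟨g * x * (g : G)⁻¹,
    ⟨g * ⟨x, mem_centralizer_singleton_iff.2 (h3 x x.2)⟩ * g⁻¹,
      smul_mem_pointwise_smul _ (MulAut.conj g) _ (hU x.2), rfl⟩, hN.conj_mem _ (h1 x.2) g⟩) fun x x' e => ?_
  exact Subtype.ext ((MulAut.conj (g : G)).injective (congrArg Subtype.val e))

end Ovg

variable {K : Type} [Group K] [Finite K] {b : Set (IrrCharacter K)} {Q : Subgroup K} {θ : K → ℂ}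

omit hl [Finite K] in
theorem LA_iso {K' : Type} [Group K'] (e : K ≃* K') {E : Subgroup K'} {θ' : K' → ℂ} {α : MulAut K} {α' : MulAut K'}
    (h1 : ∀ g, e g ∈ E ↔ g ∈ Q) (h2 : ∀ g, θ' (e g) = θ g) (h3 : ∀ g, α' (e g) = e (α g)) :
    α' ∈ LA E θ' ↔ α ∈ LA Q θ := by
  rw [Cov.mem_LA, Cov.mem_LA, e.surjective.forall, e.surjective.forall]
  simp only [h1, h2, h3]

omit hl in
/-- the group `K ⋊ ⟨α⟩` with the root -/
theorem exists_root (h : Can l M b Q θ) {α : MulAut K} (hα : α ∈ LA Q θ) :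
    ∃ (H : Type) (_ : Group H) (_ : Finite H) (N : Subgroup H) (_ : N.Normal) (e : K ≃* N) (a : H) (D : Subgroup H)
      (θ' : H → ℂ), Root l M N (H649.blkMap e b) D θ' ∧ a ∈ In D θ' ∧ N ⊔ In D θ' = ⊤ ∧ N.index = orderOf α ∧
      (∀ g, a * e g * a⁻¹ = e (α g)) ∧ (∀ g, (e g : H) ∈ D ↔ g ∈ Q) ∧ ∀ g, (e g : H) ∈ In D θ' ↔ g ∈ In Q θ := by
  obtain ⟨H, _, _, N, _, e, a, ha, hx, hi, -⟩ := Cov.exists_frame α
  have e2 : ((Q.map e.toMonoidHom).map N.subtype).subgroupOf N = Q.map e.toMonoidHom :=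
    comap_map_eq_self_of_injective N.subtype_injective _
  have e0 : ∀ x, x ∉ N → extendByZero N (fun n => θ (e.symm n)) x = 0 := fun x hx =>
    Core.extendByZero_of_notMem _ _ hx
  have e1 : ∀ g, extendByZero N (fun n => θ (e.symm n)) (e g) = θ g := fun g =>
    (Core.extendByZero_of_mem N _ (e g).2).trans (congrArg θ (e.symm_apply_apply g))
  have e3 : ∀ g, e g ∈ ((Q.map e.toMonoidHom).map N.subtype).subgroupOf N ↔ g ∈ Q := fun g => by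
    rw [e2]
    exact mem_map_iff_mem e.injective
  have hD := map_subtype_le (Q.map e.toMonoidHom)
  have e5 := (Reg.mem_In_iff hD e0 a).2 ((LA_iso e e3 e1 fun g => Subtype.ext (ha g)).2 hα)
  refine ⟨H, inferInstance, inferInstance, N, inferInstance, e, a, _, _, ⟨hD, e0, ?_⟩, e5,
    top_le_iff.1 fun x _ => ?_, hi, ha, e3, fun g => (Reg.mem_In_sub hD e0 _).trans (LA_iso (α := MulAut.conj g)
      (α' := MulAut.conj (e g)) (θ' := fun n => extendByZero N (fun n => θ (e.symm n)) n) e e3 e1 fun x => by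
        simp only [MulAut.conj_apply, map_mul, map_inv])⟩
  · rw [e2, Cov.ext_coe]
    exact Cov.can_map e h
  · obtain ⟨g, k, rfl⟩ := hx x
    exact mul_mem_sup (e g).2 (pow_mem e5 k)

/-- **an `l`-automorphism which fixes the root fixes a defect class representative** -/
theorem exists_loc (h : Can l M b Q θ) {α : MulAut K} (hα : α ∈ LA Q θ) (ho : PElt l α) :
    ∃ y, ∃ k ∈ In Q θ, KM.Tor.Loc l ⊤ Q y ∧ (MulAut.conj k * α) y = y ∧ PElt l (MulAut.conj k * α) := by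
  obtain ⟨H, _, _, N, _, e, a, Q', θ', R, a1, a2, a3, a4, a5, a6⟩ := exists_root h hα
  obtain ⟨B, D, hB, -, hD, b1, b2, b3⟩ := exists_D R a2 (a3 ▸ ho)
  obtain ⟨y, c1, c2, c3, c4⟩ := exists_y (N := N) h.hM hB hD (a3 ▸ ho)
  obtain ⟨y, hy⟩ := e.surjective ⟨y, c1⟩
  obtain rfl : (e y : H) = _ := congrArg Subtype.val hy
  obtain ⟨n, d1, d, d2, rfl⟩ := mem_sup_of_normal_left.1 (b3 ▸ mem_top a : a ∈ N ⊔ D)
  obtain ⟨k, hk⟩ := e.surjective ⟨n, d1⟩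
  obtain rfl : (e k : H) = _ := congrArg Subtype.val hk
  let i : K →* H := N.subtype.comp e.toMonoidHom
  have hi : Function.Injective i := N.subtype_injective.comp e.injective
  have d3 : ∀ g, i ((MulAut.conj k⁻¹ * α) g) = d * i g * d⁻¹ := fun g => by
    rw [MulAut.mul_apply, MulAut.conj_apply, map_mul, map_mul, inv_inv, map_inv, ← show i k * d * i g * (i k * d)⁻¹ =
      i (α g) from a4 g]
    group
  have d4 : ∀ (j : ℕ) g, i (((MulAut.conj k⁻¹ * α) ^ j) g) = d ^ j * i g * (d ^ j)⁻¹ := fun j => by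
    induction j with
    | zero => exact fun g => by simp
    | succ j ih => exact fun g => by rw [pow_succ, MulAut.mul_apply, ih, d3, pow_succ]; group
  refine ⟨y, k⁻¹, inv_mem ((a6 k).1 ((mul_mem_cancel_right (b1 d2)).1 a1)), ⟨le_top, h.pg, mem_top y,
    by rwa [← orderOf_injective i hi], fun u hu => hi ?_, fun P _ h1 h2 h3 => ?_⟩, hi ?_, ?_⟩
  · rw [map_mul, map_mul]
    exact c3 _ (b2.ge ((a5 u).2 hu)).1
  · refine (eq_of_le_of_card_ge h2 ?_).ge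
    have d5 : Q.map i = Q' := le_antisymm (map_le_iff_le_comap.2 fun u hu => (a5 u).2 hu) fun u hu =>
      ⟨e.symm ⟨u, R.le hu⟩, (a5 _).1 (by rwa [e.apply_symm_apply]), congrArg Subtype.val (e.apply_symm_apply _)⟩
    rw [← card_map_of_injective (K := P) hi, ← card_map_of_injective (K := Q) hi, d5, ← b2]
    refine c4 _ (map_le_iff_le_comap.2 fun u _ => (e u).2) (h1.map i) ?_
    rintro _ ⟨u, hu, rfl⟩
    exact (map_mul i u y).symm.trans ((congrArg i (h3 u hu)).trans (map_mul i y u))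
  · rw [d3, show d * i y = i y * d from c3 d d2, mul_inv_cancel_right]
  · obtain ⟨j, hj⟩ := H592.Defect.isPGroup_of_isDefectGroup hD ⟨d, d2⟩
    exact pElt_iff.2 ⟨j, MulEquiv.ext fun g => hi (by
      rw [d4, show d ^ l ^ j = 1 from congrArg Subtype.val hj, one_mul, inv_one, mul_one, MulAut.one_apply])⟩

/-- passing to a central quotient -/
theorem loc_map {S : Type} [Group S] {σ : K →* S} (h1 : Function.Surjective σ) (h2 : σ.ker ≤ center K) {y : K}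
    (h : KM.Tor.Loc l ⊤ Q y) : KM.Tor.Loc l ⊤ (Q.map σ) (σ y) := by
  refine ⟨le_top, h.pg.map σ, mem_top _, reg_map h.reg, ?_, fun P _ a1 a2 a3 => ?_⟩
  · rintro _ ⟨d, hd, rfl⟩
    rw [← map_mul, ← map_mul, h.comm d hd]
  · obtain ⟨P', b1, b2, rfl⟩ := exists_lift_pgroup h1 h.pg a1 a2
    refine map_mono (h.syl P' le_top b1 b2 fun x hx => ?_)
    obtain ⟨n, hn⟩ := b1 ⟨x, hx⟩
    exact comm_of_coprime h2 (congrArg Subtype.val hn) h.reg (a3 _ ⟨x, hx, rfl⟩)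

/-- the group theoretic shadow if `Q = 3²` -/
theorem pure_of_nine {S : Type} [Group S] {σ : K →* S} {E : Subgroup S} {Γ : Subgroup (MulAut S)}
    (H : QHyp 3 M b Q θ σ) (h : Nine (Q.map σ) E Γ) (hn : ∀ α ∈ Γ, ∀ x, α x ∈ Q.map σ ↔ x ∈ Q.map σ) :
    Pure 3 S (Γ ⊔ Inn S) (Q.map σ) := by
  have : Fact (Nat.Prime 3) := ⟨Nat.prime_three⟩
  have : Finite S := Finite.of_surjective σ H.surj
  have hP := H.pg
  have syl : ∀ P : Subgroup S, IsPGroup 3 P → Q.map σ ≤ P → P ≤ KK 3 (Q.map σ) → P = Q.map σ :=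
    fun _ => cent_syl H.can.hM H.hb H.can.hD H.surj H.ker.le
  have into : ∀ u ∈ KK 3 (Q.map σ), PElt 3 u → ∃ g : S, g * u * g⁻¹ ∈ Q.map σ := by
    intro u hu hpu
    obtain ⟨n, hn⟩ := pElt_iff.1 hpu
    obtain ⟨U, hU⟩ := ((hP.map σ).comap_subtype (K := KK 3 (Q.map σ))).exists_le_sylow
    obtain ⟨T, hT⟩ := ((isPGroup_zpowers_of_pow hn).comap_subtype (K := KK 3 (Q.map σ))).exists_le_sylow
    have h3 : (U : Subgroup (KK 3 (Q.map σ))).map (KK 3 (Q.map σ)).subtype = Q.map σ :=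
      syl _ (U.isPGroup'.map _) (fun d hd => ⟨⟨d, self_le_KK _ hd⟩, hU hd, rfl⟩) (map_subtype_le _)
    obtain ⟨g, hg⟩ := MulAction.exists_smul_eq (KK 3 (Q.map σ)) T U
    exact ⟨g, h3.le ⟨g * ⟨u, hu⟩ * g⁻¹, by
      rw [← hg]
      exact smul_mem_pointwise_smul _ (MulAut.conj g) _ (hT (mem_zpowers u)), rfl⟩⟩
  refine ⟨by decide, le_sup_right, hP.map σ, fun hc => ?_, syl,
    fun _ => cent_rad H.can.hM H.hb H.can.hD H.surj H.ker.le, fun u hu v hv hpu hpv hu1 hv1 => ?_, fun u hu hpu => ?_,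
    fun _ u hu v hv hu1 hv1 => ?_⟩
  · obtain ⟨t, ht⟩ := hc.exists_ofOrder_eq_natCard
    have a1 := orderOf_dvd_of_pow_eq_one (show t ^ 3 = 1 from Subtype.ext (h.cube t t.2))
    rw [ht, h.card] at a1
    exact absurd a1 (by decide)
  · obtain ⟨g, e⟩ := into u hu hpu
    obtain ⟨g', e'⟩ := into v hv hpv
    obtain ⟨α, hα, h3⟩ := h.tr _ e _ e' (mt conj_eq_one_iff.1 hu1) (mt conj_eq_one_iff.1 hv1)
    refine ⟨(MulAut.conj g')⁻¹ * α * MulAut.conj g, mul_mem (mul_mem (inv_mem (mem_sup_right ⟨g', rfl⟩))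
      (mem_sup_left hα)) (mem_sup_right ⟨g, rfl⟩), ?_⟩
    rw [MulAut.mul_apply, MulAut.mul_apply, MulAut.conj_apply, h3, MulAut.conj_inv_apply]
    group
  · obtain ⟨g, e⟩ := into u hu hpu
    exact conj_eq_one_iff.1 (conj_pow.symm.trans (h.cube _ e))
  · obtain ⟨α, hα, h3⟩ := h.tr u hu v hv hu1 hv1
    exact ⟨α, mem_sup_left hα, hn α hα, h3⟩

/-- **[SH]** -/
theorem boxSh : BoxSh := by
  intro l hl K S _ _ _ M b Q θ σ A A₀ ⟨H, hA, hn⟩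
  obtain ⟨f, f1, f2, -⟩ := H.exists_dn
  have cpp : CentPP l σ := ⟨H.ker.le, by rw [H.ker]; exact H.zp⟩
  have inj : ∀ u ∈ Q, ∀ v ∈ Q, σ u = σ v → u = v := fun u hu v hv e => by
    obtain ⟨n, h1⟩ := H.pg ⟨u * v⁻¹, mul_mem hu (inv_mem hv)⟩
    exact mul_inv_eq_one.1 (cpp.eq_one (by rw [map_mul, map_inv, e, mul_inv_cancel]) (congrArg Subtype.val h1))
  have f3 : ∀ k, f (MulAut.conj k) = MulAut.conj (σ k) := fun k => MulEquiv.ext (H.surj.forall.2 fun g => by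
    rw [← f1]; simp)
  have fo : ∀ α, PElt l (f α) ↔ PElt l α := fun α => by rw [PElt, PElt, orderOf_injective f f2]
  have hc : Nat.card (Q.map σ) = Nat.card Q := (Nat.card_congr (Equiv.ofBijective (σ.subgroupMap Q)
    ⟨fun u v e => Subtype.ext (inj u u.2 v v.2 (congrArg Subtype.val e)), σ.subgroupMap_surjective Q⟩)).symm
  have nrm : ∀ α ∈ (A ⊓ LA Q θ).map f, ∀ x, α x ∈ Q.map σ ↔ x ∈ Q.map σ := by
    rintro _ ⟨α, hα, rfl⟩ x
    refine ⟨fun ⟨y, hy, e⟩ => ⟨α⁻¹ y, ((inv_mem hα.2 : α⁻¹ ∈ LA Q θ).1 y).2 hy, (f α).injective ?_⟩, ?_⟩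
    · rw [← f1, MulAut.apply_inv_self, e]
    · rintro ⟨y, hy, rfl⟩
      exact ⟨α y, (hα.2.1 y).2 hy, f1 α y⟩
  have inn0 : ∀ s ∈ (In Q θ).map σ, MulAut.conj s ∈ (A₀ ⊓ LA Q θ).map f := by
    rintro _ ⟨k, hk, rfl⟩
    exact ⟨MulAut.conj k, ⟨hA.inn ⟨k, rfl⟩, hk⟩, f3 k⟩
  have le := map_mono (f := f) (inf_le_inf_right (LA Q θ) hA.le)
  have hAn := (normal_subgroupOf_iff hA.le).1 hA.normal
  refine ⟨hc, (A ⊓ LA Q θ).map f, (A₀ ⊓ LA Q θ).map f, ⟨H.pg.map σ, ?_, nrm, le, (normal_subgroupOf_iff le).2 ?_, ?_,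
    fun s => ⟨?_, fun h => le (inn0 s h)⟩, inn0, ?_, ?_, ?_, ?_, ?_⟩, ?_, ?_⟩
  · rintro _ ⟨u, hu, rfl⟩ _ ⟨v, hv, rfl⟩
    rw [← map_mul, ← map_mul, H.can.ab hu v hv]
  · rintro _ _ ⟨β, hβ, rfl⟩ ⟨γ, hγ, rfl⟩
    exact ⟨γ * β * γ⁻¹, ⟨hAn β γ hβ.1 hγ.1, mul_mem (mul_mem hγ.2 hβ.2) ((LA Q θ).inv_mem hγ.2)⟩, by
      rw [map_mul, map_mul, map_inv]⟩
  · have := hA.normal
    have a1 : (A ⊓ LA Q θ).subgroupOf A ⊔ A₀.subgroupOf A = ⊤ := top_le_iff.1 fun α _ => by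
      obtain ⟨g, hg⟩ := H.can.frat (hA.stab α.2)
      have a2 : MulAut.conj g ∈ A₀ := hA.inn ⟨g, rfl⟩
      rw [← inv_mul_cancel_left (⟨_, hA.le a2⟩ : A) α]
      exact mul_mem (inv_mem (mem_sup_right a2)) (mem_sup_left ⟨mul_mem (hA.le a2) α.2, hg⟩)
    rw [relIndex_map_map_of_injective _ _ f2, show A₀ ⊓ LA Q θ = A₀ ⊓ (A ⊓ LA Q θ) by
      rw [← inf_assoc, inf_of_le_left hA.le], inf_relIndex_right, ← relIndex_subgroupOf (inf_le_left (a := A)),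
      ← relIndex_sup_right, a1, relIndex_top_right]
    exact hA.index
  · rintro ⟨α, hα, e⟩
    obtain ⟨k, rfl⟩ := H.surj s
    exact ⟨k, (f2 (e.trans (f3 k).symm) ▸ hα.2 : MulAut.conj k ∈ LA Q θ), rfl⟩
  · rintro _ ⟨α, hα, rfl⟩ h1 _ ⟨u, hu, rfl⟩
    rw [← f1, hA.c0 α hα ((fo α).1 h1) u hu]
  · rintro _ ⟨u, hu, rfl⟩
    rw [← relIndex_comap, relIndex, show ((FixE (σ u)).comap f).subgroupOf (A ⊓ LA Q θ) =
      (FixE u).subgroupOf (A ⊓ LA Q θ) from Subgroup.ext fun α => ⟨fun e => inj _ ((α.2.2.1 u).2 hu) u hu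
        ((f1 α u).trans e), fun e => (f1 α u).symm.trans (congrArg σ e)⟩]
    exact hA.orbQ u hu
  · rintro _ ⟨α, hα, rfl⟩ _ ⟨⟨u, hu, rfl⟩, h1⟩
    rw [← f1, hA.cz α hα u ⟨hu, fun t ht => mul_inv_eq_iff_eq_mul.1 (inj _ ((ht.1 u).2 hu) u hu (by
      rw [MulAut.conj_apply, map_mul, map_mul, h1 _ ⟨t, ht, rfl⟩, map_inv, mul_inv_cancel_right]))⟩]
  · by_contra a1
    push Not at a1
    exact hn fun α hα h1 u hu => inj _ ((hα.2.1 u).2 hu) u hu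
      ((f1 α u).trans (a1 _ ⟨α, hα, rfl⟩ ((fo α).2 h1) _ ⟨u, hu, rfl⟩))
  · rintro _ ⟨α, hα, rfl⟩ h1
    obtain ⟨y, k, a1, a2, a3, a4⟩ := exists_loc H.can hα.2 ((fo α).1 h1)
    refine ⟨σ y, σ k, ⟨k, a1, rfl⟩, loc_map H.surj H.ker.le a2, ?_, ?_⟩
    · rw [← f3, ← map_mul, ← f1, a3]
    · rwa [← f3, ← map_mul, fo]
  · rintro _ ⟨α, hα, rfl⟩
    exact ⟨α, hα, (orderOf_injective f f2 α).symm, f1 α⟩
  · rintro rfl h9
    obtain ⟨_, ⟨t, ht, rfl⟩, a1⟩ := h9.neg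
    exact ⟨H, hc.symm.trans h9.card, pure_of_nine H h9 nrm, t, ht, fun d hd => inj _ ((ht.1 d).2 hd) _ (inv_mem hd) (by
      rw [MulAut.conj_apply, map_mul, map_mul, map_inv, map_inv, a1 _ ⟨d, hd, rfl⟩])⟩

end Cfsg.Agent.BH.RO
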