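import Cfsg.Agent.BH.RowO.Defs
import Cfsg.Agent.BH.RowO.GL1
import Cfsg.Agent.BZ.L.Cl.Dat
import Cfsg.Agent.KM.A.Tor
import Cfsg.Agent.BH.PB
import Cfsg.Agent.LThreeMB.QuoMap
import Cfsg.Agent.LieClassical.GUOrder
import Cfsg.Agent.ClassicalGeometry.GUBasic

/-!
# BH, `RowO`: `boxGL`, `boxGU` (helper83)
-/

set_option autoImplicit false
set_option linter.unusedSectionVars false
set_option maxHeartbeats 400000

namespace Cfsg.Agent.BH.RO

open Cfsg Subgroup Matrix Cfsg.Agent.DL Cfsg.Agent.BZ.Lab Cfsg.Agent.BZ.Cl Cfsg.Agent.KM Cfsg.Agent.KM.BK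
open Cfsg.Agent.TO.X.Cn (Pi1)

namespace Gl

section dom

open Cfsg.Agent.Blocks.Basic Cfsg.Agent.Blocks.Local Cfsg.Agent.H649
open Cfsg.Agent.H644.CentralQuot (defl infl isPBlock_defl)

variable {p : ℕ} [Fact p.Prime] {M : Ideal AlgInt} {Y : Type} [Group Y] [Finite Y]

theorem dom_quot (hM : IsPModular p M) {U : Subgroup Y} [U.Normal] (hU : U ≤ center Y) (hp : IsPGroup p U)
    {b : Set (IrrCharacter (Y ⧸ U))} (hb : IsPBlock M b) {D : Subgroup (Y ⧸ U)} (hD : IsDefectGroup p M b D) (hE : EQ p b) :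
    ∃ B : Set (IrrCharacter Y), IsPBlock M B ∧ IsDefectGroup p M B (D.comap (QuotientGroup.mk' U)) ∧ HZr p U B := by
  have := isPrime_of_isPModular hM
  have := Fintype.ofFinite Y
  obtain ⟨θ, hθ⟩ := isPBlock_nonempty hb
  have hB : IsPBlock M (blockOf M (infl U θ : Y → ℂ)) := isPBlock_blockOf _
  have h1 : defl U (blockOf M (infl U θ : Y → ℂ)) = b :=
    isPBlock_eq_of_mem (isPBlock_defl hM hU hp hB) hb (mem_blockOf_self (infl U θ)) hθ
  generalize blockOf M (infl U θ : Y → ℂ) = B at hB h1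
  subst h1
  obtain ⟨E, hE'⟩ := H644.exists_isDefectGroup hM hB
  obtain ⟨x, hx⟩ := TID.Red.conj_defect hM hb (H658.isDefectGroup_defl hM hU hp hB hE').2 hD
  obtain ⟨y, rfl⟩ := QuotientGroup.mk'_surjective U x
  have h3 := isDefectGroup_conj hE' y
  refine ⟨B, hB, ?_, fun χ hχ h => ?_⟩
  · have h2 : (E.map (MulAut.conj y).toMonoidHom).map (QuotientGroup.mk' U) = D := by
      rw [← hx, Subgroup.map_map, Subgroup.map_map]
      rfl
    rwa [← h2, comap_map_eq_self (by rw [QuotientGroup.ker_mk']; exact (H658.isDefectGroup_defl hM hU hp hB h3).1)]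
  · obtain ⟨ψ, rfl⟩ := exists_infl U χ h
    exact (PB.height_infl hM hB hU hp hχ).symm.trans (eq_iff_hz.1 hE ψ hχ)

/-- **domination** -/
theorem dom (hM : IsPModular p M) {G : Type} [Group G] [Finite G] (π : Y →* G) (hπ : Function.Surjective π)
    (hU : π.ker ≤ center Y) (hp : IsPGroup p π.ker) {b : Set (IrrCharacter G)} (hb : IsPBlock M b)
    {D : Subgroup G} (hD : IsDefectGroup p M b D) (hE : EQ p b) :
    ∃ B : Set (IrrCharacter Y), IsPBlock M B ∧ IsDefectGroup p M B (D.comap π) ∧ HZr p π.ker B := by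
  let e := (QuotientGroup.quotientKerEquivOfSurjective π hπ).symm
  obtain ⟨B, hB, h1, h2⟩ := dom_quot hM hU hp (isPBlock_blkMap (e := e) hb) (isDefectGroup_blkMap (e := e) hD) (by
    rintro _ ⟨χ, hχ, rfl⟩ _ ⟨ψ, hψ, rfl⟩
    have h3 := hE χ hχ ψ hψ
    unfold nu at h3 ⊢
    rwa [charDegree_irrMap, charDegree_irrMap])
  refine ⟨B, hB, ?_, h2⟩
  rwa [MulEquiv.toMonoidHom_eq_coe, map_equiv_eq_comap_symm, comap_comap] at h1

end dom

/-- the order of the defect group -/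
theorem card_le {G H F : Type} [Group G] [Finite G] [Group H] [Field F] (π : G →* H) (hπ : Function.Surjective π)
    (hk : Nat.card π.ker = 3) (d : G →* Fˣ) {t : ℕ} (ht : ¬ 9 ∣ t) (hd : ∀ g, d g ^ t = 1) {D : Subgroup H} (hD : IsPGroup 3 D)
    (h9 : Nat.card (D ⊓ d.ker.map π : Subgroup H) = 9) : Nat.card (D.comap π) ≤ 81 := by
  have : Fact (Nat.Prime 3) := ⟨Nat.prime_three⟩
  have h1 : IsPGroup 3 (D.comap π) := hD.comap_of_ker_isPGroup π (IsPGroup.of_card (n := 1) hk)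
  let d' := d.comp (D.comap π).subtype
  have h2 : d'.range ≤ rootsOfUnity 3 F := by
    rintro _ ⟨g, rfl⟩
    obtain ⟨a, ha⟩ := IsPGroup.iff_orderOf.1 (h1.of_surjective _ d'.rangeRestrict_surjective) (d'.rangeRestrict g)
    rw [← orderOf_coe, MonoidHom.coe_rangeRestrict] at ha
    rw [mem_rootsOfUnity, ← orderOf_dvd_iff_pow_eq_one, ha]
    refine (pow_dvd_pow 3 (Nat.lt_succ_iff.1 (lt_of_not_ge fun e => ht ?_))).trans (pow_one 3).dvd
    exact (pow_dvd_pow 3 e).trans (ha ▸ orderOf_dvd_of_pow_eq_one (hd g))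
  have h3 : Nat.card d'.ker ≤ 27 := by
    rw [← card_map_of_injective (subtype_injective _)]
    refine (card_le_of_le (K := (D ⊓ d.ker.map π).comap π) ?_).trans_eq (by rw [LThreeMB.QuoMap.card_comap π hπ, hk, h9])
    rintro _ ⟨g, hg, rfl⟩
    exact ⟨g.2, g, hg, rfl⟩
  have h4 := (card_le_of_le h2).trans (card_rootsOfUnity F 3)
  rw [← d'.ker.index_mul_card, index_ker]
  exact Nat.mul_le_mul h4 h3

variable {p : ℕ} [Fact p.Prime] {k : Type} [Field k] [CharP k p] [IsAlgClosed k] {Y : Type} [Group Y] {N : Type} [Fintype N]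
  [DecidableEq N] {ρ : Y →* GL N k} {F : MulAut Y} {G : Subgroup Y} {J : Type} [Fintype J] [DecidableEq J]
  {X : Datum p ρ F G} {θ : Y →* GL J k} {μ : J → X.R → ℤ} {f : ℕ} {e : ℤ} (h : Nt X θ μ f e) (hi : Function.Injective θ)
  (hb : Function.Bijective fun (c : X.R → kˣ) j => chr (μ j) c) (hP : Pi1 X 1) (hL : ∀ s : ℕ, s.Prime → s ≠ 2 → Tor.Lev X s)
include h hi hb hP hL

/-- the finite group lies in the class -/
theorem fa [Fintype (GF F G)] : FA (p ^ f) e (θ.comp (GF F G).subtype) where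
  fo := h.fo hP hL
  eq := h.eq
  inj := hi.comp (subtype_injective _)
  fn s hs h1 h3 A _ _ ι hA hc := by
    have hp : s ≠ p := fun e1 => h1 (e1 ▸ dvd_pow_self s h.f0.ne')
    obtain ⟨y, hy, hN, h4, -⟩ := Tor.exists_frame hP hs hp (Nat.coprime_one_right s) (hL s hs h3)
      (Z := Set.range fun a => (ι a : Y)) (Set.finite_range _) (by rintro _ ⟨a, rfl⟩; exact (ι a).2.1)
      (by rintro _ ⟨a, rfl⟩; exact ⟨a, (ι a).2.2.symm⟩)
      (by rintro _ ⟨a, rfl⟩; exact (hA a).imp fun j e1 => by rw [← coe_pow, ← map_pow, e1, map_one, coe_one])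
      (by rintro _ ⟨a, rfl⟩ _ ⟨b, rfl⟩; rw [← coe_mul, ← map_mul, hc, map_mul, coe_mul])
    have h5 : ∀ a, ∃ c, X.τ c = y⁻¹ * ι a * y := fun a => (X.mem_T _).1 (Nodes.Reps.mem_cj.1 (h4 ⟨a, rfl⟩))
    choose γ hγ using h5
    let γ' : A →* (X.R → kˣ) := MonoidHom.mk' γ fun a b => X.τ_inj (by rw [map_mul, hγ, hγ, hγ, map_mul, coe_mul]; group)
    have hm : ∀ (g : GF F G) (c : X.R → kˣ), X.τ c = y⁻¹ * g * y →
        mt (θ.comp (GF F G).subtype) (θ y) g = diagonal fun j => ((chr (μ j) c : kˣ) : k) := fun g c e1 => by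
      rw [← h.dg, e1, map_mul, map_mul, map_inv]
      show (((θ y)⁻¹ * θ g * (θ y)⁻¹⁻¹ : GL J k) : Matrix J J k) = _
      rw [inv_inv]
    obtain ⟨σ, hσ⟩ := h.fr
    have key : ∀ j j', (θ (y⁻¹ * F y) : Matrix J J k) j j' ≠ 0 → ∀ c c', y⁻¹ * F (y * X.τ c * y⁻¹) * y = X.τ c' →
        chr (μ j) c' = chr (μ (σ j')) c ^ e := fun j j' e1 c c' e2 => by
      rw [← chr_zsmul, ← hσ, ← chr_mon]
      refine h.conj j j' e1 ?_
      rw [← e2, ← X.F_τ, map_mul, map_mul, map_inv]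
      group
    have kw : ∀ j j', (θ (y⁻¹ * F y) : Matrix J J k) j j' ≠ 0 → (chr (μ j)).comp γ' = (chr (μ (σ j'))).comp γ' ^ e := fun j j' e1 =>
      MonoidHom.ext fun a => key j j' e1 (γ a) (γ a) (by
        rw [hγ, show y * (y⁻¹ * ι a * y) * y⁻¹ = ι a by group, (mem_GF.1 (ι a).2).2])
    refine ⟨θ y, fun j => (chr (μ j)).comp γ', fun a => hm _ _ (hγ a), fun i => ?_, fun φ k2 => ?_⟩
    · obtain ⟨j, hj⟩ := col_ne (ρ := θ) (h := 1) (y⁻¹ * F y) (σ.symm i)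
      exact ⟨j, (kw j _ (by simpa [BZ.Cl.mt] using hj)).trans (by rw [Equiv.apply_symm_apply])⟩
    · obtain ⟨c, e4⟩ := hb.2 fun j => φ ((chr (μ j)).comp γ')
      have e6 : ∀ j, chr (μ j) c = φ ((chr (μ j)).comp γ') := congrFun e4
      obtain ⟨c', hc'⟩ := (X.mem_T _).1 (X.conj_mem_T hN ((X.mem_T _).2 ⟨_, (X.F_τ c).symm⟩))
      have e8 : y⁻¹ * F (y * X.τ c * y⁻¹) * y = X.τ c' := by
        rw [hc', map_mul, map_mul, map_inv]
        group
      have e9 : c' = c := hb.1 (funext fun j => by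
        obtain ⟨j', hj'⟩ : ∃ j', (θ (y⁻¹ * F y) : Matrix J J k) j j' ≠ 0 := by
          by_contra! e11
          have := congrFun (congrFun (θ (y⁻¹ * F y)).mul_inv j) j
          rw [one_apply_eq, mul_apply] at this
          simp only [e11, zero_mul, Finset.sum_const_zero, zero_ne_one] at this
        show chr (μ j) c' = chr (μ j) c
        rw [key j j' hj' c c' e8, e6, e6, kw j j' hj', k2])
      refine ⟨⟨y * X.τ c * y⁻¹, mem_GF.2 ⟨G.mul_mem (G.mul_mem hy (X.T_le_G (X.τ_mem c))) (G.inv_mem hy), ?_⟩⟩, (hm _ c (by group)).trans ?_⟩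
      · rw [e9] at e8
        exact (show _ = y * (y⁻¹ * F (y * X.τ c * y⁻¹) * y) * y⁻¹ by group).trans (by rw [e8])
      · exact congrArg diagonal (funext fun j => by rw [e6])

/-- **the theorem for a datum** -/
theorem ab_dat (h3 : (3 : ℤ) ∣ e - 1) {H : Type} [Group H] [Finite H] (ι : H →* Y) (hι : Function.Injective ι) (hr : ι.range = GF F G)
    {M : Ideal AlgInt} (hM : IsPModular 3 M) {B : Set (IrrCharacter H)} {D Z : Subgroup H} (hB : IsPBlock M B) (hD : IsDefectGroup 3 M B D)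
    (hz : ∀ z ∈ Z, ι z ∈ center Y) (hZ : IsPGroup 3 Z) (hH : HZr 3 Z B) (h81 : Nat.card D ≤ 81) : Ab D := by
  have hp : 3 ≠ p := fun e1 => by
    have h1 : (3 : ℤ) ∣ e := by
      have : ((3 : ℕ) : ℤ) ∣ (p ^ f : ℕ) := Int.natCast_dvd_natCast.2 (e1.dvd.trans (dvd_pow_self p h.f0.ne'))
      rcases h.eq with e2 | e2 <;> rw [e2]
      · exact this
      · exact this.neg_right
    omega
  obtain ⟨N₀, B₀, M₀, h0, h1⟩ := boxGeo X 3 hM.1 hp
  obtain ⟨m, k1, k2, k3⟩ := Nat.exists_prime_gt_modEq_one (B₀ + 3 + 2 * Fintype.card J) h0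
  obtain ⟨α, k4, k5⟩ := h1 m k1 (by omega) k3
  have := (X.pow k1.pos).amb.finite_GF G
  have := Fintype.ofFinite H
  have := Fintype.ofFinite (GF (F ^ m) G)
  have k6 : ∀ x, ι x ∈ GF F G := fun x => hr ▸ ⟨x, rfl⟩
  let j : H →* GF (F ^ m) G := ι.codRestrict _ fun x => inf_le_inf_left G (fix_le_fix_pow m) (k6 x)
  have C := fa (h.pow k1.pos) hi hb hP hL
  rw [pow_mul] at C
  obtain ⟨r, k7, R⟩ := Nm.pr (c := 2) (q := p ^ f) (l := 3) (m := m) (n := Fintype.card J)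
    ⟨Nat.one_lt_pow h.f0.ne' (Fact.out : p.Prime).one_lt, hM.1, by decide, fun e1 => hp ((Nat.prime_dvd_prime_iff_eq hM.1 Fact.out).1
      (hM.1.dvd_of_dvd_pow e1)), by decide, k1, by omega, by omega, fun r _ e1 e2 _ _ => (Nat.coprime_primes e1 Nat.prime_two).2 e2⟩ one_pos
  have hj : Function.Injective j := fun a b e1 => hι (congrArg Subtype.val e1)
  have h2 : ∀ x, α (j x) = j x := fun x => Subtype.ext ((k4 _).trans (k6 x).2)
  obtain ⟨E, -, e1, e2, e3, e4⟩ := boxW j (k5 r R.rp k7).toGl hM hj (fun g => ⟨fun e1 =>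
    let ⟨x, hx⟩ : (g : Y) ∈ ι.range := hr ▸ ⟨g.2.1, (k4 g).symm.trans (congrArg Subtype.val e1)⟩
    ⟨x, Subtype.ext hx⟩, fun ⟨x, hx⟩ => hx ▸ h2 x⟩) B D hB hD
  have h4 : Z.map j ≤ center _ := by
    rintro _ ⟨z, e5, rfl⟩
    exact mem_center_iff.2 fun g => Subtype.ext (mem_center_iff.1 (hz z e5) g)
  refine Ab.of_map hj (main3 C R (h3.trans (sub_one_dvd_pow_sub_one e m)) hM (k5 r R.rp k7) e1 e2 e3
    (fun g => ⟨fun ⟨x, e5, e6⟩ => ⟨x, e5, α.injective ((h2 x).trans e6)⟩, fun ⟨x, e5, e6⟩ => ⟨x, e5, e6 ▸ (h2 x).symm⟩⟩) h4 (hZ.map _) ?_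
    (by rwa [card_map_of_injective hj]))
  rintro _ ⟨ξ, hξ, rfl⟩ ho
  obtain ⟨e5, c, e6, e7⟩ := e4 ξ hξ
  rw [e5]
  refine hH ξ hξ fun z e8 => ?_
  obtain ⟨ω, hω⟩ := HZ.Gen.exists_omega (E ξ).2 (Z.map j).subtype fun a => h4 a.2
  have e9 := hω ⟨_, z, e8, rfl⟩
  have e10 : (ω ⟨_, z, e8, rfl⟩ : ℂ) = 1 := mul_right_cancel₀ (Characters.Core.isIrr_apply_one_ne_zero (E ξ).2) (by
    rw [← e9, mul_one, one_mul]
    exact ho _ ⟨z, e8, rfl⟩)
  simpa using HZ.Gen.ker_of_inner ξ.2 (mem_center_iff.2 fun g => hι (by rw [map_mul, map_mul, mem_center_iff.1 (hz z e8)]))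
    (fun g => by simpa [e10] using e9 (j g)) (e7.trans_ne (Nat.cast_ne_zero.2 fun e11 => e6 (e11 ▸ dvd_zero m))) 1

omit h hi hb hP hL

open Cfsg.Agent.KZ.Dat Cfsg.Agent.ODD.C2 Cfsg.Agent.ODD.C2.GlA Cfsg.Agent.Nodes.RootsA Cfsg.Agent.KM.A

/-- the data of type `A` -/
theorem bhn_A {n : ℕ} (hk : ∀ a : k, ∃ j, 0 < j ∧ a ^ p ^ j = a) (he : 0 < f) {α : MulAut (GL (Fin (n + 1)) k)}
    {g : (Fin n → ℤ) → Fin n → ℤ} {B : Matrix (Fin (n + 1)) (Fin (n + 1)) ℤ} (S : (smA n).Sy (csA n) (isCartan n) α g B)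
    (h1 : e = (p ^ f : ℕ) ∨ e = -((p ^ f : ℕ) : ℤ)) (σ : Equiv.Perm (Fin (n + 1))) (h2 : (p : ℤ) ^ f • B = e • spm σ 1)
    (h3 : (3 : ℤ) ∣ e - 1) {G₀ F₀ : Type} [Group G₀] [Finite G₀] [Field F₀] (ι : G₀ →* GL (Fin (n + 1)) k) (hι : Function.Injective ι)
    (hr : ι.range = GF (α * frP _ p k f) (GA n k)) (hz : ∀ z ∈ center G₀, ι z ∈ center _) (d : G₀ →* F₀ˣ) {t : ℕ} (ht : ¬ 9 ∣ t)
    (hd : ∀ g, d g ^ t = 1) {M : Ideal AlgInt} (hM : IsPModular 3 M) {H : Type} [Group H] [Finite H] (π : G₀ →* H)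
    (hπ : Function.Surjective π) (hc : π.ker ≤ center _) (h4 : Nat.card π.ker = 3) : BHn 3 9 M (d.ker.map π) := fun b D hb hD hE _ h9 => by
  have : Fact (Nat.Prime 3) := ⟨Nat.prime_three⟩
  have hp : IsPGroup 3 π.ker := IsPGroup.of_card (n := 1) h4
  obtain ⟨B', k1, k2, k3⟩ := dom hM π hπ hc hp hb hD hE
  have k4 : Nt (datA hk he S) (MonoidHom.id _) (fun j => (Pi.single j 1 : Fin (n + 1) → ℤ)) f e :=
    { f0 := he
      eq := h1
      ker := fun g _ hg y _ => by rw [show g = 1 from hg, mul_one, one_mul]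
      dg := fun c => (datA_τ hk he S c).trans (congrArg diagonal (funext fun a => congrArg _ (DL.chr_single a c).symm))
      fr := ⟨σ.symm, fun j => by
        show (Pi.single j 1 : Fin (n + 1) → ℤ) ᵥ* ((p : ℤ) ^ f • B) = e • (Pi.single (σ.symm j) 1 : Fin (n + 1) → ℤ)
        rw [h2, vecMul_smul, single_one_vecMul]
        refine congrArg _ (funext fun i => ?_)
        rw [row_apply, spm_apply, Pi.single_apply]
        exact if_congr (by rw [eq_comm, Equiv.eq_symm_apply]) rfl rfl⟩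
      bas := ⟨id, (2 : ℤ) • (1 : Matrix (Fin (n + 1)) (Fin (n + 1)) ℤ), by
        show (Matrix.of fun i : Fin (n + 1) => (Pi.single i 1 : Fin (n + 1) → ℤ)) * ((2 : ℤ) • (1 : Matrix (Fin (n + 1)) (Fin (n + 1)) ℤ)) =
          (2 : ℤ) • (1 : Matrix (Fin (n + 1)) (Fin (n + 1)) ℤ)
        rw [Matrix.mul_smul, Matrix.mul_one]
        exact congrArg _ (Matrix.ext fun i j => by simp [one_apply, Pi.single_apply, eq_comm]), fun j => Or.inr ⟨j, Or.inl rfl⟩⟩ }
  have k6 : Function.Bijective fun (c : Fin (n + 1) → kˣ) (j : Fin (n + 1)) => chr (Pi.single j 1) c := by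
    simp only [DL.chr_single]
    exact Function.bijective_id
  have k5 := ab_dat k4 Function.injective_id k6 (pi1_A hk he S) (fun s _ _ => lev_A hk he S s) h3 ι hι hr hM k1 k2 (fun z e1 => hz z (hc e1)) hp k3
    (card_le π hπ h4 d ht hd (Blocks.Basic.isPGroup_of_isDefectGroup hD) h9)
  rw [← map_comap_eq_self_of_surjective hπ D]
  exact k5.map π

end Gl

open Cfsg.Agent.KZ.Dat Cfsg.Agent.ODD.C2 Cfsg.Agent.ODD.C2.GlA

/-- **[GL]** -/
theorem boxGL : BoxGL := by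
  rintro F _ _ n M hM - h3 h9 H _ _ π _ hπ hc h4 rfl
  obtain _ | n := n
  · rw [Nat.card_unique] at h4
    omega
  classical
  have := finite_WA (n := n)
  obtain ⟨p, _, e, k, _, _, _, f, hk, he, hF⟩ := hasL F
  refine Gl.bhn_A hk he (smA n).sy_one (Or.inl rfl) 1 (by rw [spm_one, Nat.cast_pow]) ?_ (GeneralLinearGroup.map f) (glmap_inj f)
    (range_L f hF) (fun z hz => GeneralLinearGroup.map_center_le f hz) _ h9 (fun g => ?_) hM π hπ hc h4
  · rw [← hF, ← Nat.cast_pred Fintype.card_pos]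
    exact Int.natCast_dvd_natCast.2 h3
  · rw [← Fintype.card_units]
    exact pow_card_eq_one

/-- **[GU]** -/
theorem boxGU : BoxGU := by
  rintro F _ _ n q M hM hq - h3 h9 H _ _ π _ hπ hc h4 rfl
  obtain _ | n := n
  · rw [Nat.card_unique] at h4
    omega
  obtain ⟨p, _, e, k, _, _, _, f, hk, he, rfl⟩ := hasU F hq
  refine Gl.bhn_A hk he syG (Or.inr rfl) Fin.revPerm Mx_U ?_ (jU f hk he)
    ((MulAut.conj _).injective.comp ((glmap_inj f).comp Subtype.val_injective)) (range_U f hk he hq) (fun z hz => ?_)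
    (LieClassical.GUOrder.detGU (n + 1) F (p ^ e)) h9 (fun g => ?_) hM π hπ hc h4
  · rw [← neg_add', dvd_neg]
    exact_mod_cast h3
  · have h1 : (z : GL (Fin (n + 1)) F) ∈ center _ := by
      obtain ⟨c, -, rfl⟩ := (ClassicalGeometry.GUBasic.mem_center_GU_iff hq (Nat.succ_pos n) z).1 hz
      exact GeneralLinearGroup.mem_center_iff_val_mem_range_scalar.2 ⟨c, rfl⟩
    exact (inferInstance : (center (GL (Fin (n + 1)) k)).Normal).conj_mem _ (GeneralLinearGroup.map_center_le f h1) _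
  · exact (LieClassical.GUOrder.range_detGU hq (Nat.succ_pos n)).le ⟨g, rfl⟩

end Cfsg.Agent.BH.RO
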