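import Cfsg.Agent.BH.RowO.Defs
import Cfsg.Agent.TO.L2.Main
import Cfsg.Agent.H60.LThreeFour.Main
import Cfsg.Agent.H133.USixTwo
import Cfsg.Agent.TwoESix.SheetMain
import Cfsg.Agent.KFacts.Mult.TwESixTwo

/-!
# BH (S4524), `RowO`: the exceptional covers of `L₃(4)`, `U₆(2)`, `²E₆(2)` have no outer `3`-automorphisms (helper67)
-/

set_option autoImplicit false
set_option linter.unusedSectionVars false

namespace Cfsg.Agent.BH.RO.XCp

open Cfsg Subgroup Cfsg.Agent.TO Cfsg.Agent.KFacts.MulDef Cfsg.Agent.KFacts.MulTwo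

section gen

variable {K S : Type} [Group K] [Group S]

/-- `δ` does not lift to a perfect double cover -/
def NL (δ : MulAut S) : Prop := ∀ (L : Type) [Group L] [Finite L] (π : L →* S) (c : L), Dbl π c →
  ∀ α : MulAut L, ¬ ∀ x, π (α x) = δ (π x)

theorem map_center (α : MulAut K) {z : K} (hz : z ∈ center K) : α z ∈ center K := mem_center_iff.2 fun g => by
  obtain ⟨g, rfl⟩ := α.surjective g
  rw [← map_mul, ← map_mul, mem_center_iff.1 hz]

/-- the squares of the central elements -/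
def Sq (K : Type) [Group K] : Subgroup K where
  carrier := {x | ∃ y ∈ center K, y * y = x}
  one_mem' := ⟨1, one_mem _, mul_one 1⟩
  mul_mem' := by
    rintro _ _ ⟨a, ha, rfl⟩ ⟨b, hb, rfl⟩
    refine ⟨a * b, mul_mem ha hb, ?_⟩
    rw [mul_assoc, ← mul_assoc b, mem_center_iff.1 ha b]
    simp only [mul_assoc]
  inv_mem' := by
    rintro _ ⟨a, ha, rfl⟩
    exact ⟨a⁻¹, inv_mem ha, (mul_inv_rev a a).symm⟩

theorem descend [Finite K] {σ : K →* S} (hK : commutator K = ⊤) (hs : Function.Surjective σ) (hk : σ.ker = center K)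
    (hc : IsCyclic (center K)) (h2 : IsPGroup 2 (center K)) (h0 : center K ≠ ⊥) {δ : MulAut S} (h : NL δ)
    (α : MulAut K) : ¬ ∀ x, σ (α x) = δ (σ x) := fun hα => by
  have hle : Sq K ≤ center K := fun _ ⟨a, ha, e⟩ => e ▸ mul_mem ha ha
  have hN : (Sq K).Normal := ⟨fun n hn g => by
    rw [mem_center_iff.1 (hle hn) g, mul_inv_cancel_right]
    exact hn⟩
  have hm : ∀ (β : MulAut K), ∀ x ∈ Sq K, β x ∈ Sq K := fun β _ ⟨a, ha, e⟩ =>
    ⟨β a, map_center β ha, by rw [← map_mul, e]⟩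
  obtain ⟨z, hz⟩ := hc.exists_generator
  have hz2 : z.1 ∉ Sq K := fun ⟨a, ha, e⟩ => h0 (by
    obtain ⟨n, hn⟩ := hz ⟨a, ha⟩
    obtain ⟨k, hk⟩ := h2 z
    have h3 : z ^ (2 * n - 1) = 1 := by
      rw [zpow_sub_one, two_mul, zpow_add, mul_inv_eq_one]
      exact Subtype.ext ((congrArg (fun x : center K => x.1 * x.1) hn).trans e)
    have h4 : ((2 ^ k : ℕ) : ℤ).gcd (2 * n - 1) = 1 := by
      rw [← Int.isCoprime_iff_gcd_eq_one, Nat.cast_pow]
      exact IsCoprime.pow_left ⟨n, -1, by push_cast; ring⟩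
    have h5 : z = 1 := by
      have h6 := Int.dvd_gcd (orderOf_dvd_iff_zpow_eq_one.2 (show z ^ ((2 ^ k : ℕ) : ℤ) = 1 by rw [zpow_natCast, hk]))
        (orderOf_dvd_iff_zpow_eq_one.2 h3)
      rw [h4] at h6
      exact orderOf_eq_one_iff.1 (Nat.dvd_one.1 (by exact_mod_cast h6))
    refine eq_bot_iff.2 fun x hx => ?_
    obtain ⟨m, hm⟩ := hz ⟨x, hx⟩
    rw [h5] at hm
    simpa using (congrArg Subtype.val hm).symm)
  have hzz : (z.1 : K ⧸ Sq K) * (z.1 : K ⧸ Sq K) = 1 := (QuotientGroup.eq_one_iff (z.1 * z.1)).2 ⟨z.1, z.2, rfl⟩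
  refine h (K ⧸ Sq K) (QuotientGroup.lift (Sq K) σ (hle.trans hk.ge)) (z.1 : K ⧸ Sq K)
    ⟨⟨fun e => hz2 ((QuotientGroup.eq_one_iff _).1 e), hzz, fun x => ?_, ?_⟩, fun y => ?_, fun x => ?_⟩
    (QuotientGroup.congr (Sq K) (Sq K) α (le_antisymm (map_le_iff_le_comap.2 (hm α)) fun x hx =>
      ⟨α⁻¹ x, hm _ x hx, α.apply_symm_apply x⟩)) fun x => ?_
  · obtain ⟨x, rfl⟩ := QuotientGroup.mk_surjective x
    rw [← QuotientGroup.mk_mul, ← QuotientGroup.mk_mul, mem_center_iff.1 z.2 x]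
  · have h3 := map_commutator (⊤ : Subgroup K) ⊤ (QuotientGroup.mk' (Sq K))
    rw [← commutator_def, hK, map_top_of_surjective _ (QuotientGroup.mk'_surjective _)] at h3
    exact h3.symm
  · obtain ⟨x, rfl⟩ := hs y
    exact ⟨x, rfl⟩
  · obtain ⟨x, rfl⟩ := QuotientGroup.mk_surjective x
    refine ⟨fun e => ?_, ?_⟩
    · obtain ⟨n, hn⟩ := hz ⟨x, hk.le e⟩
      have h3 : (x : K ⧸ Sq K) = (z.1 : K ⧸ Sq K) ^ n := by
        rw [← QuotientGroup.mk_zpow]
        exact congrArg _ (congrArg Subtype.val hn).symm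
      rw [h3]
      rcases Int.even_or_odd' n with ⟨m, rfl | rfl⟩
      · exact .inl (by rw [zpow_mul, zpow_two, hzz, one_zpow])
      · exact .inr (by rw [zpow_add_one, zpow_mul, zpow_two, hzz, one_zpow, one_mul])
    · rintro (e | e)
      · rw [e, map_one]
      · rw [e]
        exact hk.ge z.2
  · obtain ⟨x, rfl⟩ := QuotientGroup.mk_surjective x
    exact hα x

theorem NL.conj {δ : MulAut S} (h : NL δ) (γ : MulAut S) : NL (γ * δ * γ⁻¹) := fun L _ _ π c hd α hα =>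
  h L (γ⁻¹.toMonoidHom.comp π) c ⟨hd.toCtr, γ⁻¹.surjective.comp hd.surj, fun x =>
    (map_eq_one_iff γ⁻¹ γ⁻¹.injective).trans (hd.ker x)⟩ α fun x => by simp [hα x]

theorem sylow_three {O : Type} [Group O] [Finite O] (h9 : ¬ 9 ∣ Nat.card O) {b d : O} {k : ℕ} (hb : b ^ 3 ^ k = 1)
    (h1 : b ≠ 1) (hd : d ^ 3 = 1) : ∃ (g : O) (n : ℤ), g * d * g⁻¹ = b ^ n := by
  have : Fact (Nat.Prime 3) := ⟨Nat.prime_three⟩
  have pg : ∀ (x : O) (k : ℕ), x ^ 3 ^ k = 1 → IsPGroup 3 (zpowers x) := fun x k hx => by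
    obtain ⟨j, -, hj⟩ := (Nat.dvd_prime_pow Nat.prime_three).1 (orderOf_dvd_of_pow_eq_one hx)
    exact IsPGroup.of_card (by rw [Nat.card_zpowers, hj])
  obtain ⟨P, hP⟩ := (pg b k hb).exists_le_sylow
  obtain ⟨Q, hQ⟩ := (pg d 1 (by rwa [pow_one])).exists_le_sylow
  obtain ⟨g, hg⟩ := MulAction.exists_smul_eq O Q P
  have h2 : zpowers b = P := by
    obtain ⟨j, hj⟩ := IsPGroup.iff_card.1 P.isPGroup'
    obtain ⟨i, hi⟩ := IsPGroup.iff_card.1 (pg b k hb)
    refine eq_of_le_of_card_ge hP ?_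
    have h3 : j < 2 := by
      by_contra h
      exact h9 (((pow_dvd_pow 3 (not_lt.1 h)).trans hj.symm.dvd).trans (card_subgroup_dvd_card _))
    have h4 : i ≠ 0 := by
      rintro rfl
      exact h1 (orderOf_eq_one_iff.1 (by rw [← Nat.card_zpowers, hi, pow_zero]))
    rw [hj, hi]
    exact Nat.pow_le_pow_right (by norm_num) (by omega)
  have h3 : g * d * g⁻¹ ∈ zpowers b := by
    rw [h2, ← hg]
    rw [Sylow.coe_subgroup_smul]
    exact smul_mem_pointwise_smul d (MulAut.conj g) (Q : Subgroup O) (hQ (mem_zpowers d))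
  obtain ⟨n, hn⟩ := h3
  exact ⟨g, n, hn.symm⟩

theorem eq_one_of {σ : K →* S} (hK : commutator K = ⊤) (hk : σ.ker = center K) {α : MulAut K}
    (h : ∀ x, σ (α x) = σ x) : α = 1 := by
  have h1 : ∀ x, x⁻¹ * α x ∈ center K := fun x => hk.le (by rw [MonoidHom.mem_ker, map_mul, map_inv, h, inv_mul_cancel])
  let f : K →* center K := MonoidHom.mk' (fun x => ⟨_, h1 x⟩) fun x y => Subtype.ext (by
    show (x * y)⁻¹ * α (x * y) = x⁻¹ * α x * (y⁻¹ * α y)
    rw [← mul_assoc, ← mem_center_iff.1 (h1 x) y⁻¹, map_mul, mul_inv_rev]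
    simp only [mul_assoc])
  have h2 : commutator K ≤ f.ker := commutator_le.2 fun a _ b _ => by
    rw [MonoidHom.mem_ker, map_commutatorElement, commutatorElement_eq_one_iff_mul_comm]
    exact Subtype.ext (mem_center_iff.1 (f b).2 _)
  refine MulEquiv.ext fun x => ?_
  have h3 : f x = 1 := h2 (hK ▸ mem_top x)
  exact (inv_mul_eq_one.1 (congrArg Subtype.val h3)).symm

theorem xc_of [Finite S] (h9 : ¬ 9 ∣ (Inn S).index) {δ : MulAut S} (h3 : δ ^ 3 = 1) (h : NL δ) : XC S := by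
  rintro K _ _ σ hq hs hk hc h2 h0 α ⟨k, hα⟩
  have hK : commutator K = ⊤ := hq.1.commutator_eq_top
  have hm : ∀ β : MulAut K, (center K).map β = center K := fun β =>
    le_antisymm (fun _ ⟨a, ha, e⟩ => e ▸ map_center β ha) fun x hx => ⟨β⁻¹ x, map_center _ hx, β.apply_symm_apply x⟩
  let e : K ⧸ center K ≃* S := (QuotientGroup.quotientMulEquivOfEq hk.symm).trans
    (QuotientGroup.quotientKerEquivOfSurjective σ hs)
  have he : ∀ x : K, e x = σ x := fun _ => rfl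
  let β : MulAut S := (e.symm.trans (QuotientGroup.congr _ _ α (hm α))).trans e
  have hβ : ∀ x, σ (α x) = β (σ x) := fun x => by
    show _ = e (QuotientGroup.congr _ _ α (hm α) (e.symm (σ x)))
    rw [← he x, e.symm_apply_apply]
    rfl
  have hn : ∀ (n : ℕ) x, σ ((α ^ n) x) = (β ^ n) (σ x) := fun n => by
    induction n with
    | zero => exact fun _ => rfl
    | succ n ih => exact fun x => by rw [pow_succ, pow_succ, MulAut.mul_apply, MulAut.mul_apply, ih, hβ]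
  have hb : β ^ 3 ^ k = 1 := MulEquiv.ext fun y => by
    obtain ⟨x, rfl⟩ := hs y
    rw [← hn, ← hα, pow_orderOf_eq_one]
    rfl
  by_cases h1 : β ∈ Inn S
  · obtain ⟨y, hy⟩ := h1
    obtain ⟨x, rfl⟩ := hs y
    refine ⟨x, inv_mul_eq_one.1 (eq_one_of hK hk fun g => ?_)⟩
    simp [hβ, ← hy, mul_assoc]
  exfalso
  have hN : (Inn S).Normal := inferInstance
  obtain ⟨g, n, hg⟩ := sylow_three (O := MulAut S ⧸ Inn S) h9 (b := β) (d := δ) (k := k)
    (by rw [← QuotientGroup.mk_pow, hb]; rfl) (fun e => h1 ((QuotientGroup.eq_one_iff _).1 e))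
    (by rw [← QuotientGroup.mk_pow, h3]; rfl)
  obtain ⟨γ, rfl⟩ := QuotientGroup.mk_surjective g
  obtain ⟨m, hm'⟩ : ∃ m : ℕ, β ^ n = β ^ m := by
    obtain ⟨m, hm⟩ := (mem_powers_iff_mem_zpowers (x := β) (y := β ^ n)).2 ⟨n, rfl⟩
    exact ⟨m, hm.symm⟩
  rw [← QuotientGroup.mk_zpow, hm', ← QuotientGroup.mk_mul, ← QuotientGroup.mk_inv, ← QuotientGroup.mk_mul, eq_comm,
    QuotientGroup.eq] at hg
  obtain ⟨y, hy⟩ := hg
  obtain ⟨x, rfl⟩ := hs y
  refine descend hK hs hk hc h2 h0 (h.conj γ) (α ^ m * MulAut.conj x) fun g => ?_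
  rw [← inv_mul_eq_iff_eq_mul.1 hy.symm |>.symm, MulAut.mul_apply, MulAut.mul_apply, hn]
  simp

theorem xc_congr {S' : Type} [Group S'] (h : XC S) (e : S ≃* S') : XC S' := fun K _ _ σ hq hs hk =>
  h K (e.symm.toMonoidHom.comp σ) hq (e.symm.surjective.comp hs) (by
    rw [← hk]
    exact Subgroup.ext fun x => map_eq_one_iff e.symm e.symm.injective)

theorem fix {L : Type} [Group L] {π : L →* S} {c : L} (hd : Dbl π c) {α : MulAut L} {δ : MulAut S}
    (h : ∀ x, π (α x) = δ (π x)) {z : L} (hz : π z = 1) : α z = z := by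
  rcases (hd.ker z).1 hz with rfl | rfl
  · exact map_one α
  · exact ((hd.ker _).1 (by rw [h, hz, map_one])).resolve_left fun e => hd.ne (α.injective (e.trans (map_one α).symm))

end gen

section l34

open Cfsg.Agent.SporadicA.FieldFour Cfsg.Agent.ONType.Psl Cfsg.Agent.H60.LThreeFour
open Cfsg.Agent.OddHalf.D9.L34Mult (CE)

theorem dm3 : dm * dm * dm = 1 ∧ dm' * dm' * dm' = 1 := by decide +kernel

theorem del3 (x : PSL3) : del (del (del x)) = x := by
  obtain ⟨g, rfl⟩ := QuotientGroup.mk_surjective x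
  refine congrArg (QuotientGroup.mk : SL3 → PSL3) (Subtype.ext ?_ : del0 (del0 (del0 g)) = g)
  show dm * (dm * (dm * g.1 * dm') * dm') * dm' = g.1
  calc _ = (dm * dm * dm) * g.1 * (dm' * dm' * dm') := by simp only [mul_assoc]
    _ = _ := by rw [dm3.1, dm3.2, one_mul, mul_one]

/-- the diagonal automorphism -/
def dl : MulAut PSL3 := ⟨⟨del, fun x => del (del x), del3, del3⟩, del.map_mul⟩

theorem del_h : del hh = hh := congrArg (QuotientGroup.mk : SL3 → PSL3) (Subtype.ext (by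
  show dm * hm * dm' = hm
  decide +kernel) : del0 H = H)

theorem del_t12 : del (t 1 2 1) = t 1 2 1 := congrArg (QuotientGroup.mk : SL3 → PSL3) (Subtype.ext (by
  show dm * tm 1 2 1 * dm' = tm 1 2 1
  decide +kernel) : del0 (T 1 2 1) = T 1 2 1)

theorem nl_dl : NL dl := fun L _ _ π c hd α hα => by
  have C : CE π := ⟨hd.surj, fun k hk m => by
    rcases (hd.ker k).1 hk with rfl | rfl
    · rw [one_mul, mul_one]
    · exact hd.cen m⟩
  have hα' : ∀ x, π (α x) = del (π x) := hα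
  have h0 : π (α.toMonoidHom C.h) = hh := (hα' _).trans (by rw [C.map_h, del_h])
  have h1 : ∀ j : Fin 3, 0 ≠ j → ∀ u, α (C.x 0 j u) = C.x 0 j (ω * u) := fun j hj u =>
    C.x_map α.toMonoidHom (.inl h0) hj hj ((hα' _).trans (by rw [C.map_x 0 j hj, del_t hj]))
  have h2 : α (C.x 1 2 1) = C.x 1 2 1 :=
    C.x_map α.toMonoidHom (.inl h0) (by decide) (by decide) ((hα' _).trans (by rw [C.map_x 1 2 (by decide), del_t12]))
  have h3 : ∀ s, C.g s = C.g (ω * s) := fun s => by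
    rw [← fix hd hα (C.g_map s)]
    simp only [CE.g, CE.K, ONType.Comm.cm, map_mul, map_inv, h1 1 (by decide), h1 2 (by decide), h2, mul_one]
  have h4 : ∀ z, π z = 1 → z * z = 1 := fun z hz => by
    rcases (hd.ker z).1 hz with rfl | rfl
    · exact mul_one 1
    · exact hd.sq
  have h5 : C.g 1 = C.g ω := h3 1
  have h6 : C.g ω = C.g ω2 := h3 ω
  have h7 := C.g_w2
  rw [C.f_eq_g, h4 _ (C.g_map _), mul_one, ← h6, ← h5, h4 _ (C.g_map _)] at h7
  obtain ⟨s, hs⟩ := C.exists_g_ne_one hd.perf (Nat.card_eq_two_iff.2 ⟨1, ⟨c, (hd.ker c).2 (.inr rfl)⟩,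
    fun e => hd.ne (congrArg Subtype.val e).symm, Set.eq_univ_of_forall fun x =>
      ((hd.ker x).1 x.2).imp Subtype.ext Subtype.ext⟩)
  refine hs ?_
  cases s
  exacts [C.g_zero, h7, h5.symm.trans h7, (h5.trans h6).symm.trans h7]

end l34

section u62

open Cfsg.Agent.H133.USixTwo Cfsg.Agent.ClassicalGeometry.PSUAutCount Cfsg.Agent.LieClassical.SUBasic
open Cfsg.Agent.ClassicalGeometry.UnitAutBasic (pr pr_surjective)
open scoped Matrix

theorem dlt3 {F : Type} [Field F] [Fintype F] {ω : F} (h0 : ω ≠ 0) (h3 : ω ^ 3 = 1) : dlt ω h0 h3 ^ 3 = 1 := by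
  refine MulEquiv.ext fun x => ?_
  obtain ⟨g, rfl⟩ := pr_surjective x
  have h1 : ∀ v : Fin 6 → F, gm (H133.USixTwo.Dg ω h0 h3) *ᵥ (gm (H133.USixTwo.Dg ω h0 h3) *ᵥ
      (gm (H133.USixTwo.Dg ω h0 h3) *ᵥ v)) = v := fun v => by
    rw [gm_Dg, gm_Dg, gm_Dg]
    funext i
    linear_combination (v i) * dv_cube h3 i
  rw [pow_three', MulAut.mul_apply, MulAut.mul_apply, dlt_pr, dlt_pr, dlt_pr]
  refine congrArg (pr 6 F 2) (LieClassical.HermSiegel.ext_act fun v => ?_)
  conv_lhs => rw [← h1 v]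
  refine ((act_dlt _ _).trans (congrArg _ ((act_dlt _ _).trans (congrArg _ (act_dlt _ _))))).trans (h1 _)

end u62

section te62

open Cfsg.Agent.TwoESix.Cox10 Cfsg.Agent.TwoESix.Lift Cfsg.Agent.TwoESix.Cover Cfsg.Agent.R01.Lifts

/-- the rotation of the arms -/
def rot (i : Fin 10) : Fin 10 := pAB (pAC i)

theorem rot3 : ∀ i, rot (rot (rot i)) = i := by decide

theorem rot_ev {G : Type} [Group G] {s : Fin 10 → G} (hl : M10.IsLiftable s) (hs : ev s spider ^ 10 = 1) :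
    M10.IsLiftable (fun i => s (rot i)) ∧ ev (fun i => s (rot i)) spider ^ 10 = 1 ∧
      ev (fun i => s (rot i)) W321 ^ 9 = ev s W213 ^ 9 ∧ ev (fun i => s (rot i)) W231 ^ 9 = ev s W321 ^ 9 ∧
      ev (fun i => s (rot i)) W213 ^ 9 = ev s W231 ^ 9 := by
  have l1 := lift_perm hl lab_pAB
  have s1 := spider_pAB hl hs
  refine ⟨lift_perm l1 lab_pAC, spider_pAC l1 s1, ?_, ?_, ?_⟩
  · refine (congrArg (· ^ 9) (ev_comp (fun i => s (pAB i)) pAC _)).trans ?_
    rw [pow9_eq l1 chkAC1, W213_eq l1 s1, ev_comp, pow9_eq hl chkAB3, W213_eq hl hs]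
  · refine (congrArg (· ^ 9) (ev_comp (fun i => s (pAB i)) pAC _)).trans ?_
    rw [pow9_eq l1 chkAC2, W231_eq l1 s1, ev_comp, pow9_eq hl chkAB2]
  · refine (congrArg (· ^ 9) (ev_comp (fun i => s (pAB i)) pAC _)).trans ?_
    rw [pow9_eq l1 chkAC3, W321_eq l1 s1, ev_comp, pow9_eq hl chkAB1]

theorem exists_rot {E : Type} [Group E] [Finite HB] {e : Fin 10 → E} (he : Good e) (hgen : closure (Set.range e) = ⊤)
    (hc : Nat.card HB ≤ Nat.card E) : ∃ δ : MulAut E, δ ^ 3 = 1 ∧ NL δ := by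
  obtain ⟨a1, a2, a3, a4, a5⟩ := rot_ev he.lift he.spider
  have he' : Good fun i => e (rot i) := ⟨a1, a2, a3.trans he.e213, a4.trans he.e321, a5.trans he.e231⟩
  have hgen' : closure (Set.range fun i => e (rot i)) = ⊤ := by
    rw [← hgen]
    exact congrArg _ (Function.Surjective.range_comp (fun i => ⟨rot (rot i), rot3 i⟩) e)
  let f := MulEquiv.ofBijective _ (toHom_bijective he hgen hc)
  let δ : MulAut E := f.symm.trans (MulEquiv.ofBijective _ (toHom_bijective he' hgen' hc))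
  have hδ : ∀ i, δ (e i) = e (rot i) := fun i => by
    show toHom he' (f.symm (e i)) = _
    rw [← toHom_s0 he i, show toHom he (s0 i) = f (s0 i) from rfl, f.symm_apply_apply, toHom_s0]
  refine ⟨δ, MulEquiv.toMonoidHom_injective (MonoidHom.eq_of_eqOn_dense hgen ?_), fun L _ _ π c hd α hα => ?_⟩
  · rintro _ ⟨i, rfl⟩
    show (δ ^ 3) (e i) = e i
    rw [pow_three', MulAut.mul_apply, MulAut.mul_apply, hδ, hδ, hδ, rot3]
  have X : Ext π c := ⟨hd.surj, hd.sq, hd.ne, hd.ker, fun x => (hd.cen x).symm⟩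
  obtain ⟨m, hm, hl, hs⟩ := exists_cox X he
  obtain ⟨b1, b2, b3, b4, b5⟩ := rot_ev hl hs
  have hk : ∀ w : List (Fin 10), ev e w ^ 9 = 1 → π (ev m w ^ 9) = 1 := fun w hw => by
    rw [map_pow, ev_map, funext hm, hw]
  have h1 : ∀ i, α (m i) = m (rot i) ∨ α (m i) = m (rot i) * c := fun i => by
    refine ((hd.ker ((m (rot i))⁻¹ * α (m i))).1 (by rw [map_mul, map_inv, hα, hm, hm, hδ, inv_mul_cancel])).imp
      (fun e => (inv_mul_eq_one.1 e).symm) fun e => inv_mul_eq_iff_eq_mul.1 e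
  have h2 : ∀ i j, adj i j = true → (α (m i) = m (rot i) ↔ α (m j) = m (rot j)) := by
    have k : ∀ i j, adj i j = true → α (m i) = m (rot i) → α (m j) = m (rot j) := fun i j h e => by
      refine (h1 j).resolve_right fun e' => hd.ne ?_
      have k1 := congrArg α (braid hl h)
      have k2 := braid b1 h
      simp only [map_mul, e, e'] at k1 k2
      have k3 : m (rot j) * c * m (rot i) * (m (rot j) * c) = m (rot j) * m (rot i) * m (rot j) := by
        rw [mul_assoc (m (rot j)) c, hd.cen, ← mul_assoc, ← mul_assoc, mul_assoc _ c, hd.cen, ← mul_assoc, mul_assoc _ c,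
          hd.sq, mul_one]
      rw [k3, ← k2, ← mul_assoc, mul_assoc _ c, hd.cen, ← mul_assoc] at k1
      exact mul_eq_left.1 k1
    exact fun i j h => ⟨k i j h, k j i (adj_symm i j h)⟩
  have h3 : ∀ w : List (Fin 10), ev e w ^ 9 = 1 → ev m w ^ 9 = ev (fun i => α (m i)) w ^ 9 := fun w hw => by
    rw [← fix hd hα (hk w hw), map_pow]
    exact congrArg (· ^ 9) (ev_map α.toMonoidHom m w)
  have c1 := h3 _ he.e321
  have c2 := h3 _ he.e231
  have c3 := h3 _ he.e213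
  have h4 : ev m W321 ^ 9 = ev m W213 ^ 9 ∧ ev m W231 ^ 9 = ev m W321 ^ 9 := by
    by_cases h : α (m 3) = m (rot 3)
    · rw [funext (all_nodes (fun i => α (m i) = m (rot i)) (fun i j a => (h2 i j a).1) h)] at c1 c2
      exact ⟨c1.trans b3, c2.trans b4⟩
    · rw [funext fun i => (h1 i).resolve_left (all_nodes (fun i => ¬ α (m i) = m (rot i))
        (fun i j a => mt (h2 i j a).2) h i), ev7_mul_z X _ rfl] at c1 c2 c3
      rw [b3] at c1
      rw [b4] at c2
      rw [b5, c2, c1, mul_assoc, mul_assoc, hd.sq, mul_one] at c3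
      exact absurd (mul_eq_left.1 c3.symm) hd.ne
  obtain ⟨m', hm', hg⟩ : ∃ m' : Fin 10 → L, (∀ i, π (m' i) = e i) ∧ Good m' := by
    rcases (hd.ker _).1 (hk _ he.e321) with h | h
    · exact ⟨m, hm, hl, hs, h, h4.2.trans h, h4.1.symm.trans h⟩
    · refine ⟨fun i => m i * c, fun i => by rw [map_mul, X.mapz, mul_one, hm], lift_mul_z X hl, spider_mul_z X hs,
        ?_, ?_, ?_⟩ <;> rw [ev7_mul_z X _ rfl]
      · rw [h, hd.sq]
      · rw [h4.2, h, hd.sq]
      · rw [← h4.1, h, hd.sq]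
  have h5 := toHom_surjective hg (KFacts.Mult.TwESixLift.closure_eq_top (π := π) (fun x hx => mem_center_iff.2 fun g => by
    rcases (hd.ker x).1 hx with rfl | rfl
    · rw [one_mul, mul_one]
    · exact (hd.cen g).symm) hd.perf (by rw [funext hm']; exact hgen))
  obtain ⟨y, hy⟩ := h5 c
  have h6 : π.comp (toHom hg) = toHom he := PresentedGroup.ext fun i => by
    show π (toHom hg (s0 i)) = toHom he (s0 i)
    rw [toHom_s0, toHom_s0, hm']
  have h7 : toHom he y = 1 := by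
    rw [← h6, MonoidHom.comp_apply, hy, X.mapz]
  rw [(injective_iff_map_eq_one _).1 (toHom_bijective he hgen hc).1 y h7, map_one] at hy
  exact hd.ne hy.symm

end te62

end Cfsg.Agent.BH.RO.XCp

namespace Cfsg.Agent.BH.RO

open Cfsg Cfsg.Lie XCp

/-- **`L₃(4)`** -/
theorem xc_l34 {F : Type} [Field F] [Fintype F] (hF : Fintype.card F = 4) :
    XC (Matrix.ProjectiveSpecialLinearGroup (Fin 3) F) := by
  obtain ⟨e⟩ := SporadicA.FieldFour.nonempty_psl_equiv (n := Fin 3) F hF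
  refine xc_congr (xc_of (δ := dl) ?_ (MulEquiv.ext del3) nl_dl) e
  rw [TO.L2.out_L34 SporadicA.FieldFour.F4.card_eq]
  decide

/-- **`U₆(2)`** -/
theorem xc_u62 {F : Type} [Field F] [Fintype F] (hF : Fintype.card F = 2 ^ 2) : XC (PSU 6 F 2) := by
  obtain ⟨ω, hω⟩ := SporadicStructure.UnitTwo.exists_omega hF
  have h0 : ω ≠ 0 := by
    rintro rfl
    simp at hω
  have h3 : ω ^ 3 = 1 := by linear_combination (ω - 1) * hω
  refine xc_of (δ := H133.USixTwo.dlt ω h0 h3) ?_ (dlt3 h0 h3) fun L _ _ π c hd α hα =>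
    H133.USixTwo.no_iso hF hd hω h0 h3 ⟨α⁻¹, fun x => by rw [← hα]; exact congrArg π (α.apply_symm_apply x)⟩
  rw [TwoESix.SheetPSU.index_PSU hF]
  decide

/-- **`²E₆(2)`** -/
theorem xc_te62 {K : Type} [Field K] [Fintype K] (hK : Fintype.card K = 4) : XC ↥(twistedE6 K 2) := by
  have := BM.HBFinal.finite_HB
  have : Finite ↥(twistedE6 K 2) := Nat.finite_of_card_ne_zero (by rw [BM.HBFinal.card_E K hK]; norm_num)
  obtain ⟨e, r, he, hgen, -⟩ := TwoESix.GoodInst.exists_good K hK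
  obtain ⟨δ, h1, h2⟩ := exists_rot he hgen (BM.HBFinal.hcard K hK)
  exact xc_of (fun h => absurd (h.trans (TwoESix.SheetMain.index_of_equiv hK (MulEquiv.refl _))) (by decide)) h1 h2

end Cfsg.Agent.BH.RO
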