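import Cfsg.Agent.BH.RowO.R8d
import Cfsg.Agent.BH.RowO.GL
import Cfsg.Agent.BH.RowO.XC
import Cfsg.Agent.BHZ.Nil.ClRows
import Cfsg.Agent.LieClassical.HermPerfect
import Cfsg.Agent.S0248
import Cfsg.Agent.S0279
import Cfsg.Agent.S0280
import Cfsg.Agent.S2086
import Cfsg.Agent.S2088
import Cfsg.Agent.S2089
import Cfsg.Agent.S2091

/-!
# BH, `RowO`: linear and unitary groups, `l` divides the order of the group of diagonal automorphisms (helper86)

`r8_psl`, `r8_psu` (with the boxes as hypotheses), `r8_psl'`, `r8_psu'`.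
-/

set_option autoImplicit false
set_option linter.unusedSectionVars false

namespace Cfsg.Agent.BH.RO

open Cfsg Matrix Cfsg.Agent.TO Cfsg.Agent.TO.LU Cfsg.Agent.ClassicalGeometry

variable {F : Type} [Field F] [Fintype F] {n q l : ℕ} [hl : Fact l.Prime]

namespace R8

open AutPSL.Root AutPSL.Auto H199.PslAut in
theorem syL (hF : (l : F) ≠ 0) (hn : 2 ≤ n) :
    Sy l (SpecialLinearGroup.toGL : SpecialLinearGroup (Fin n) F →* (Mt n F)ˣ) pr ⊤ ⊤ where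
  toSys := sysL hF hn
  det1 g := Units.ext g.2
  map _ _ _ := trivial
  frm α := by
    rcases exists_form hn α with ⟨g, σ, rfl⟩ | ⟨-, g, σ, rfl⟩
    · exact ⟨σ, .inl ⟨g, trivial, fun x => ⟨AutPSL.Auto.cj g (fld σ x),
        by simp only [MulAut.mul_apply, phi_pr, Psi_pr], Units.ext rfl⟩⟩⟩
    · exact ⟨σ, .inr ⟨rfl, g, fun x => ⟨AutPSL.Auto.cj g (fld σ (itr x)),
        by simp only [MulAut.mul_apply, iot_pr, phi_pr, Psi_pr], Units.ext rfl⟩⟩⟩

open PSUAutBasic PSUAutCount in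
theorem syU (hF : (l : F) ≠ 0) (h2 : l ≠ 2) (hq : Fintype.card F = q ^ 2) (hn : 3 ≤ n) (h32 : ¬ (n = 3 ∧ q = 2)) :
    Sy l ((SpecialLinearGroup.toGL.comp (SU n F q).subtype : SU n F q →* (Mt n F)ˣ)) (pr n F q) (GU n F q)
      (rootsOfUnity (q + 1) F) where
  toSys := sysU hF h2 hq hn h32
  det1 g := Units.ext g.1.2
  map σ x hx u v := by
    have h : ∀ w : Fin n → F, x.1.map σ *ᵥ w = fun i => σ ((x.1 *ᵥ fun j => σ.symm (w j)) i) := fun w => by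
      ext i
      simp [mulVec, dotProduct]
    have h1 := herm_map (q := q) σ (fun j => σ.symm (u j)) fun j => σ.symm (v j)
    simp only [RingEquiv.apply_symm_apply] at h1
    show hermForm n F q (x.1.map σ *ᵥ u) (x.1.map σ *ᵥ v) = _
    rw [h, h, herm_map, h1]
    exact congrArg σ (hx _ _)
  frm α := by
    obtain ⟨A, ρ, rfl⟩ := PSUAutMain.exists_toAut hq hn h32 α
    exact ⟨ρ, .inl ⟨A, A.2, fun x => ⟨semiConj A ρ x, (toAut_pr A ρ x).symm, Units.ext rfl⟩⟩⟩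

theorem exists_root {m : ℕ} (h : m ∣ Fintype.card F - 1) : ∃ η : Fˣ, orderOf η = m := by
  obtain ⟨g, hg⟩ := IsCyclic.exists_ofOrder_eq_natCard (α := Fˣ)
  rw [Nat.card_units, Nat.card_eq_fintype_card] at hg
  exact ⟨_, orderOf_pow_orderOf_div (orderOf_pos g).ne' (hg ▸ h)⟩

end R8

open R8

/-- **the linear groups** -/
theorem r8_psl (B : Bx) (hG : BoxGL) (hX : Fintype.card F = 4 → XC (ProjectiveSpecialLinearGroup (Fin 3) F)) (h2 : l ≠ 2)
    (hF : (l : F) ≠ 0) (hn : 2 ≤ n) (hg : l ∣ Nat.gcd n (Fintype.card F - 1)) :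
    RowO l (ProjectiveSpecialLinearGroup (Fin n) F) := by
  have h1 := hg.trans (Nat.gcd_dvd_left _ _)
  have h3 := hg.trans (Nat.gcd_dvd_right _ _)
  obtain ⟨ω, hω⟩ := exists_root h3
  refine (syL hF hn).row B h2 (ω := ω) (hω ▸ pow_orderOf_eq_one ω) (fun e => hl.out.ne_one (by rw [← hω, e, orderOf_one]))
    trivial ?_
  rintro rfl hη
  refine ⟨fun M hM H _ _ p N p1 p2 p3 e => hG F n M hM h1 h3 (fun h => ?_) H
    (p.comp ((MonoidHom.id _).codRestrict ⊤ fun _ => trivial)) N (fun h => (p1 h).elim fun x e => ⟨x.1, e⟩) (fun x hx => Subgroup.mem_center_iff.2 fun y =>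
      congrArg Subtype.val (Subgroup.mem_center_iff.1 (p2 hx) ⟨y, trivial⟩)) ?_ ?_, ?_⟩
  · obtain ⟨η, e1, e2⟩ := exists_nine h
    exact e2 (hη η trivial e1)
  · rw [← p3]
    exact Nat.card_congr ⟨fun x => ⟨⟨x.1, trivial⟩, x.2⟩, fun x => ⟨x.1.1, x.2⟩, fun _ => rfl, fun _ => rfl⟩
  · rw [e]
    exact le_antisymm (fun _ ⟨x, h, e⟩ => ⟨x.1, h, e⟩) fun _ ⟨x, h, e⟩ => ⟨⟨x, trivial⟩, h, e⟩
  by_cases hexc : (n, Fintype.card F) ∈ ({(2, 4), (2, 9), (3, 2), (3, 4), (4, 2)} : Set (ℕ × ℕ))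
  · simp only [Set.mem_insert_iff, Set.mem_singleton_iff, Prod.mk.injEq] at hexc
    obtain ⟨rfl, h⟩ : n = 3 ∧ Fintype.card F = 4 := by omega
    exact cvr_xc AutPSL.Root.pr_surjective (S2088.result h) (j := 4) (by simp) (hX h)
  · have : NeZero (Nat.gcd n (Fintype.card F - 1)) := ⟨Nat.gcd_ne_zero_left (by omega)⟩
    exact cvr_of (S0248.result n (by omega)) AutPSL.Root.pr_surjective (QuotientGroup.ker_mk' _)
      (S2086.result rfl n hn (by omega) hexc) (by rw [S0280.card_center_SL (by omega), BHZ.Nil.card_mult_zmod])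

/-- **the unitary groups** -/
theorem r8_psu (B : Bx) (hG : BoxGU) (hX : Fintype.card F = 2 ^ 2 → XC (PSU 6 F 2)) (h2 : l ≠ 2) (hF : (l : F) ≠ 0)
    (hq : Fintype.card F = q ^ 2) (hn : 3 ≤ n) (h32 : ¬ (n = 3 ∧ q = 2)) (hg : l ∣ Nat.gcd n (q + 1)) :
    RowO l (PSU n F q) := by
  have h1 := hg.trans (Nat.gcd_dvd_left _ _)
  have h3 := hg.trans (Nat.gcd_dvd_right _ _)
  have h4 : q + 1 ∣ Fintype.card F - 1 := ⟨q - 1, by rw [hq, ← Nat.sq_sub_sq, one_pow]⟩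
  obtain ⟨ω, hω⟩ := exists_root (h3.trans h4)
  refine (syU hF h2 hq hn h32).row B h2 (ω := ω) (hω ▸ pow_orderOf_eq_one ω)
    (fun e => hl.out.ne_one (by rw [← hω, e, orderOf_one])) (orderOf_dvd_iff_pow_eq_one.1 (hω ▸ h3)) ?_
  rintro rfl hη
  refine ⟨fun M hM H _ _ p N => hG F n q M hM hq h1 h3 (fun h => ?_) H p N, ?_⟩
  · obtain ⟨η, e1, e2⟩ := exists_nine (h.trans h4)
    obtain ⟨k, hk⟩ := h
    exact e2 (hη η (show η ^ (q + 1) = 1 by rw [hk, pow_mul, e1, one_pow]) e1)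
  by_cases hexc : (n, q) ∈ ({(4, 2), (4, 3), (6, 2)} : Set (ℕ × ℕ))
  · simp only [Set.mem_insert_iff, Set.mem_singleton_iff, Prod.mk.injEq] at hexc
    obtain ⟨rfl, rfl⟩ : n = 6 ∧ q = 2 := by omega
    exact cvr_xc PSUAutBasic.pr_surjective (S2091.result hq) (j := 2) (by simp) (hX hq)
  · have : NeZero (Nat.gcd n (q + 1)) := ⟨Nat.gcd_ne_zero_left (by omega)⟩
    exact cvr_of (LieClassical.HermPerfect.commutator_SU_eq_top hq hn h32) PSUAutBasic.pr_surjective (QuotientGroup.ker_mk' _)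
      (S2089.result n q hq hn h32 hexc) (by rw [S0279.result hq n hn, BHZ.Nil.card_mult_zmod])

theorem r8_psl' (B : Bx) (h2 : l ≠ 2) (hF : (l : F) ≠ 0) (hn : 2 ≤ n) (hg : l ∣ Nat.gcd n (Fintype.card F - 1)) :
    RowO l (ProjectiveSpecialLinearGroup (Fin n) F) := r8_psl B boxGL xc_l34 h2 hF hn hg

theorem r8_psu' (B : Bx) (h2 : l ≠ 2) (hF : (l : F) ≠ 0) (hq : Fintype.card F = q ^ 2) (hn : 3 ≤ n)
    (h32 : ¬ (n = 3 ∧ q = 2)) (hg : l ∣ Nat.gcd n (q + 1)) : RowO l (PSU n F q) :=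
  r8_psu B boxGU xc_u62 h2 hF hq hn h32 hg

end Cfsg.Agent.BH.RO
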