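import Cfsg.Agent.TO.LU.Main
import Cfsg.Agent.H24.HT.Arith
import Mathlib.NumberTheory.Multiplicity

/-!
# BH, `RowO`, linear and unitary groups with diagonal automorphisms: elementary tools (helper86)
-/

set_option autoImplicit false
set_option linter.unusedSectionVars false

namespace Cfsg.Agent.BH.RO.R8

variable {l : ℕ}

theorem expo (hl : l.Prime) (k : ℕ) {N : ℕ} (hN : N ≠ 0) : ∃ u j : ℕ, u ≡ 1 [MOD l ^ k] ∧ N ∣ u * l ^ j := by
  obtain ⟨j, m, h1, rfl⟩ := Nat.exists_eq_pow_mul_and_not_dvd hN l hl.ne_one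
  refine ⟨m ^ (l ^ k).totient, j, Nat.ModEq.pow_totient ((hl.coprime_iff_not_dvd.2 h1).symm.pow_right k), ?_⟩
  rw [mul_comm]
  exact Nat.mul_dvd_mul_right (dvd_pow_self m (Nat.totient_pos.2 (pow_pos hl.pos k)).ne') _

theorem expo' (hl : l.Prime) {m : ℕ} (hm : ¬ l ∣ m) {N : ℕ} (hN : N ≠ 0) :
    ∃ u m' : ℕ, u ≡ 1 [MOD m] ∧ ¬ l ∣ m' ∧ N ∣ u * m' := by
  obtain ⟨j, m', h1, rfl⟩ := Nat.exists_eq_pow_mul_and_not_dvd hN l hl.ne_one
  refine ⟨(l ^ j) ^ m.totient, m', Nat.ModEq.pow_totient ((hl.coprime_iff_not_dvd.2 hm).pow_left j), h1, ?_⟩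
  exact Nat.mul_dvd_mul_right (dvd_pow_self _ (Nat.totient_pos.2 (Nat.pos_of_ne_zero fun e : m = 0 =>
    hm (e ▸ dvd_zero l))).ne') _

theorem pow_eq_self {G : Type} [Group G] {x : G} {m u : ℕ} (hx : x ^ m = 1) (hu : u ≡ 1 [MOD m]) : x ^ u = x :=
  (pow_eq_pow_iff_modEq.2 (hu.of_dvd (orderOf_dvd_of_pow_eq_one hx))).trans (pow_one x)

theorem eq_one_of {G : Type} [Group G] (hl : l.Prime) {x : G} {m k : ℕ} (hm : ¬ l ∣ m) (h1 : x ^ m = 1)
    (h2 : x ^ l ^ k = 1) : x = 1 :=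
  orderOf_eq_one_iff.1 (Nat.eq_one_of_dvd_coprimes ((hl.coprime_iff_not_dvd.2 hm).pow_left k)
    (orderOf_dvd_of_pow_eq_one h2) (orderOf_dvd_of_pow_eq_one h1))

/-- three eigenvalues -/
theorem comb {A : Type} [CommGroup A] (s : A →* A) (hs : Function.Injective s) (c : A) (m : A → ℕ) {η ζ : A}
    (h : ∀ x, m (c * s x) = m x) (hm : ∀ x, m x ≠ 0 ↔ x = η ∨ x = ζ ∨ x = 1) (h2 : s (s ζ) ≠ ζ)
    (he : η ≠ ζ → η ≠ 1 → m η = m ζ → η * ζ = 1) : False := by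
  obtain ⟨φ, hφ⟩ : ∃ φ : A → A, ∀ x, φ x = c * s x := ⟨_, fun _ => rfl⟩
  have h3 : ∀ x y, φ x = φ y → x = y := fun x y e => hs (mul_left_cancel ((hφ x).symm.trans (e.trans (hφ y))))
  have h4 : ∀ x, m (φ x) = m x := fun x => by rw [hφ, h]
  have h5 : ∀ x, (x = η ∨ x = ζ ∨ x = 1) → φ x = η ∨ φ x = ζ ∨ φ x = 1 := fun x e => by rwa [← hm, h4, hm]
  have h6 : ¬ (φ (φ 1) = 1 ∧ φ (φ ζ) = ζ) := fun ⟨e1, e2⟩ => by
    rw [hφ, hφ, map_one, mul_one] at e1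
    rw [hφ, hφ, map_mul, ← mul_assoc, e1, one_mul] at e2
    exact h2 e2
  have h7 : s ζ ≠ ζ := fun e => h2 (by rw [e, e])
  have h8 : η * ζ = 1 → φ 1 = ζ → φ η = 1 → False := fun e e1 e2 => by
    rw [hφ, map_one, mul_one] at e1
    rw [hφ, eq_inv_of_mul_eq_one_left e, map_inv, e1, mul_inv_eq_one] at e2
    exact h7 e2.symm
  have h9 : η * ζ = 1 → φ 1 = η → φ ζ = 1 → False := fun e e1 e2 => by
    rw [hφ, map_one, mul_one] at e1
    rw [hφ, e1, eq_inv_of_mul_eq_one_left e, inv_mul_eq_one] at e2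
    exact h7 e2.symm
  have a1 := h5 η (.inl rfl)
  have a2 := h5 ζ (.inr (.inl rfl))
  have a3 := h5 1 (.inr (.inr rfl))
  have b1 := h3 η ζ
  have b2 := h3 η 1
  have b3 := h3 ζ 1
  have c1 := h4 η
  have c2 := h4 ζ
  have c3 := h4 1
  have z1 : ζ ≠ 1 := fun e => h7 (by rw [e, map_one])
  generalize η * ζ = w at he h8 h9
  generalize (1 : A) = o at *
  clear hm h hφ h3 h4 h5 h2 h7
  grind

section fld

variable {F : Type} [Field F] [Fintype F]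

/-- the action on the units -/
def un (σ : F ≃+* F) : Fˣ →* Fˣ := Units.map (σ : F →+* F).toMonoidHom

theorem val_un (σ : F ≃+* F) (x : Fˣ) : (un σ x : F) = σ x := rfl

theorem un_inj (σ : F ≃+* F) : Function.Injective (un σ) := Units.map_injective σ.injective

theorem hom_comm (s t : Fˣ →* Fˣ) (x : Fˣ) : s (t x) = t (s x) := by
  obtain ⟨a, ha⟩ := s.map_cyclic
  rw [ha, ha, map_zpow]

theorem cube_fix (σ : F ≃+* F) {ζ : Fˣ} (h : ζ ^ 3 = 1) : un σ (un σ ζ) = ζ := by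
  obtain ⟨a, ha⟩ := (un σ).map_cyclic
  obtain ⟨b, hb⟩ := Int.prime_dvd_pow_self_sub Nat.prime_three a
  refine un_inj σ ?_
  rw [ha, ha, ha, ← zpow_mul, ← zpow_mul, show a * (a * a) = (3 : ℕ) * b + a by linear_combination hb, zpow_add, zpow_mul,
    zpow_natCast, h, one_zpow, one_mul]

theorem moved1 (hl : l.Prime) {ω : Fˣ} (hω : ω ^ l = 1) (h1 : ω ≠ 1) {σ : F ≃+* F} (hσ : σ ≠ 1) {j : ℕ}
    (hj : σ ^ l ^ j = 1) : ∃ (ζ : Fˣ) (k : ℕ), ζ ^ l ^ k = 1 ∧ un σ ζ ≠ ζ := by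
  classical
  by_contra! h
  have : Fact l.Prime := ⟨hl⟩
  obtain ⟨k, h2, h3⟩ := H24.HT.card_fixed σ
  obtain ⟨i, -, hi⟩ := (Nat.dvd_prime_pow hl).1 (orderOf_dvd_of_pow_eq_one hj)
  obtain ⟨i, rfl⟩ : ∃ i', i = i' + 1 := Nat.exists_eq_succ_of_ne_zero (by
    rintro rfl
    exact hσ (orderOf_eq_one_iff.1 hi))
  have h4 : 1 < Nat.card F := Finite.one_lt_card
  obtain ⟨k, rfl⟩ : ∃ k', k = k' + 1 := Nat.exists_eq_succ_of_ne_zero (by
    rintro rfl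
    rw [h2, hi, zero_pow (pow_pos hl.pos _).ne'] at h4
    omega)
  have h5 : k ≠ 0 := by
    rintro rfl
    rw [h2, zero_add, one_pow] at h4
    omega
  have h6 : ∀ (ζ : Fˣ) (a : ℕ), ζ ^ l ^ a = 1 → ζ ^ k = 1 := fun ζ a e => by
    have h7 : ζ ^ (k + 1) = ζ := Units.ext (by rw [Units.val_pow_eq_pow_val]; exact h3 _ (congrArg Units.val (h ζ a e)))
    rwa [pow_succ, mul_eq_right] at h7
  have h7 : l ∣ k := orderOf_eq_prime hω h1 ▸ orderOf_dvd_of_pow_eq_one (h6 ω 1 (by rwa [pow_one]))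
  have h8 : l * k ∣ Nat.card Fˣ := by
    rw [Nat.card_units, h2, hi, pow_succ', pow_mul]
    refine Dvd.dvd.trans ?_ (Nat.sub_one_dvd_pow_sub_one _ _)
    rw [← Int.natCast_dvd_natCast, Nat.cast_pred (pow_pos k.succ_pos l), Nat.cast_pow, ← one_pow l, ← geom_sum₂_mul,
      Nat.cast_mul]
    exact mul_dvd_mul (dvd_geom_sum₂_self (by simpa using Int.natCast_dvd_natCast.2 h7)) (by simp)
  obtain ⟨g, hg⟩ := IsCyclic.exists_ofOrder_eq_natCard (α := Fˣ)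
  have h9 := orderOf_pow_orderOf_div (orderOf_pos g).ne' (hg ▸ h8)
  generalize g ^ (orderOf g / (l * k)) = x at h9
  obtain ⟨a, m, h10, rfl⟩ := Nat.exists_eq_pow_mul_and_not_dvd h5 l hl.ne_one
  have h11 := orderOf_dvd_of_pow_eq_one ((pow_mul x m _).trans (h6 (x ^ m) (a + 1) (by
    rw [← pow_mul, ← orderOf_dvd_iff_pow_eq_one, h9]
    exact dvd_of_eq (by ring))))
  rw [h9] at h11
  exact h10 (Nat.dvd_of_mul_dvd_mul_right (Nat.pos_of_ne_zero h5) h11)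

/-- a field automorphism of order a power of `l` moves an `l`-element -/
theorem moved (hl : l.Prime) (h2 : l ≠ 2) {ω : Fˣ} (hω : ω ^ l = 1) (h1 : ω ≠ 1) {σ : F ≃+* F} (hσ : σ ≠ 1) {j : ℕ}
    (hj : σ ^ l ^ j = 1) : ∃ (ζ : Fˣ) (k : ℕ), ζ ^ l ^ k = 1 ∧ un σ (un σ ζ) ≠ ζ :=
  moved1 hl hω h1 (σ := σ ^ 2) (fun e => hσ (eq_one_of hl
    (fun h => h2 ((Nat.prime_dvd_prime_iff_eq hl Nat.prime_two).1 h)) e hj)) (j := j)
    (by rw [← pow_mul, mul_comm, pow_mul, hj, one_pow])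

theorem nine_of {D : Subgroup Fˣ} (h : 9 ∣ Nat.card D) : ∃ η ∈ D, η ^ 9 = 1 ∧ η ^ 3 ≠ 1 := by
  obtain ⟨g, rfl⟩ := (Subgroup.isCyclic_iff_exists_zpowers_eq_top D).1 inferInstance
  rw [Nat.card_zpowers] at h
  have h2 := orderOf_pow_orderOf_div (orderOf_pos g).ne' h
  exact ⟨_, Subgroup.npow_mem_zpowers g _, h2 ▸ pow_orderOf_eq_one _, pow_ne_one_of_lt_orderOf (by decide) (by omega)⟩

end fld

/-- the action of an over group on a central quotient -/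
theorem exists_act {H G K : Type} [Group H] [Group G] [Group K] (k : G →* H) (φ : G →* K) (hφ : Function.Surjective φ)
    (hn : ∀ h g, ∃ g', k g' = h * k g * h⁻¹) (hk : ∀ g, k g = 1 → φ g = 1)
    (hc : ∀ g, φ g = 1 → k g ∈ Subgroup.center H) :
    ∃ act : H →* MulAut K, ∀ h g g', k g' = h * k g * h⁻¹ → φ g' = act h (φ g) := by
  have hk' : ∀ g g', k g = k g' → φ g = φ g' := fun g g' e =>
    mul_inv_eq_one.1 (by rw [← map_inv, ← map_mul, hk _ (by rw [map_mul, map_inv, e, mul_inv_cancel])])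
  have h1 : ∀ (h : H) (x : K), ∃ x', ∀ g g', φ g = x → k g' = h * k g * h⁻¹ → φ g' = x' := fun h x => by
    obtain ⟨g0, rfl⟩ := hφ x
    obtain ⟨g1, e1⟩ := hn h g0
    refine ⟨φ g1, fun g g' e e' => ?_⟩
    have h2 : φ (g * g0⁻¹) = 1 := by rw [map_mul, map_inv, e, mul_inv_cancel]
    have h3 : k (g' * g1⁻¹) = k (g * g0⁻¹) := by
      rw [map_mul, map_inv, e', e1, ← mul_inv_cancel_right (k (g * g0⁻¹)) h, ← Subgroup.mem_center_iff.1 (hc _ h2) h,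
        map_mul, map_inv]
      group
    rw [← mul_inv_eq_one, ← map_inv, ← map_mul, hk' _ _ h3, h2]
  choose f hf using h1
  let _ : MulDistribMulAction H K :=
    { smul := f
      one_smul := fun x => by
        obtain ⟨g, rfl⟩ := hφ x
        exact (hf 1 _ g g rfl (by simp)).symm
      mul_smul := fun a b x => by
        obtain ⟨g, rfl⟩ := hφ x
        obtain ⟨g1, e1⟩ := hn b g
        obtain ⟨g2, e2⟩ := hn a g1
        exact (hf (a * b) _ g g2 rfl (by rw [e2, e1]; group)).symm.trans (hf a _ g1 g2 (hf b _ g g1 rfl e1) e2)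
      smul_mul := fun a x y => by
        obtain ⟨g, rfl⟩ := hφ x
        obtain ⟨g', rfl⟩ := hφ y
        obtain ⟨g1, e1⟩ := hn a g
        obtain ⟨g2, e2⟩ := hn a g'
        exact (hf a _ (g * g') (g1 * g2) (map_mul φ g g') (by rw [map_mul, map_mul, e1, e2]; group)).symm.trans
          ((map_mul φ g1 g2).trans (congrArg₂ (· * ·) (hf a _ g g1 rfl e1) (hf a _ g' g2 rfl e2)))
      smul_one := fun a => (hf a _ 1 1 (map_one φ) (by simp)).symm.trans (map_one φ) }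
  exact ⟨MulDistribMulAction.toMulAut H K, fun h g g' e => hf h _ g g' rfl e⟩

end Cfsg.Agent.BH.RO.R8
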