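import Cfsg.Agent.BH.RowO.Defs
import Cfsg.Agent.HZ.L.Reg.Wt

/-!
# BH (S4524), `RowO`: an automorphism of the frame which centralizes the torus is diagonal (helper96)

`boxDiag : BoxDiag`.
-/

set_option autoImplicit false
set_option linter.unusedSectionVars false
set_option maxHeartbeats 400000

namespace Cfsg.Agent.BH.RO

open Cfsg Cfsg.Agent.DL Cfsg.Agent.DL.PP Cfsg.Agent.Nodes.Reps Cfsg.Agent.Tits.Roots Cfsg.Agent.Nodes.BNOf
  Cfsg.Agent.ChevalleyStructure.CoxeterGeom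
open Cfsg.Agent.HZ.L.Reg (al al_surj chr_al)

namespace DgA

variable {p : ℕ} [Fact p.Prime] {k : Type} [Field k] [CharP k p] {Y : Type} [Group Y] {N : Type} [Fintype N]
  [DecidableEq N] {ρ : Y →* GL N k} {F : MulAut Y} {G : Subgroup Y} [IsAlgClosed k] (D : Datum p ρ F G) {β : MulAut Y}

theorem X_le_U (i : D.I) : D.X (sr i) ≤ D.U :=
  RGD.le_Sup (S := RGD.Pos D.cs D.h) ⟨isRoot_sr D.cs D.h i, fun j => by
    rw [sr]
    exact Pi.single_nonneg.2 zero_le_one j⟩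

/-- the simple root group is the centralizer in `U` of the kernel of the root -/
theorem mem_X_of (i : D.I) {u : Y} (hu : u ∈ D.U) (hc : ∀ t ∈ D.T, D.χ (sr i) t = 1 → t * u = u * t) :
    u ∈ D.X (sr i) := by
  have h1 : u ∈ D.S (RGD.Pos D.cs D.h ∩ D.Sz {t | t ∈ D.T ∧ D.χ (sr i) t = 1}) := by
    rw [← D.uni_pos.inf_centralizer fun t ht => ht.1]
    exact ⟨hu, fun t ht => hc t ht.1 ht.2⟩
  refine (RGD.Sup_le fun b hb => ?_ : D.S _ ≤ D.X (sr i)) h1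
  rw [hb.1.1.eq_sr hb.1.2 i fun j hj => eq_zero_of_zpow (k := k) fun ζ => ?_]
  obtain ⟨c, h2⟩ := al_surj D (coch (Pi.single j 1) ζ)
  have h3 : ∀ a, D.χ a (D.τ c) = ((ζ ^ a j : kˣ) : k) := fun a => by
    rw [D.χ_τ, ← chr_al, h2, chr_coch]
    simp [Pi.single_apply]
  refine Units.ext ((h3 b).symm.trans (hb.2.2 _ ⟨D.τ_mem c, ?_⟩))
  rw [h3, sr, Pi.single_eq_of_ne hj, zpow_zero, Units.val_one]

section

variable (hT : ∀ t ∈ D.T, β t = t)
include hT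

theorem exists_c (hU : ∀ y ∈ D.U, β y ∈ D.U) (i : D.I) : ∃ c : kˣ, ∀ u, β (D.x (sr i) u) = D.x (sr i) (c * u) := by
  have hi := isRoot_sr D.cs D.h i
  obtain ⟨c, h1⟩ := (D.mem_X _ hi _).1 (mem_X_of D i (hU _ (X_le_U D i (D.x_mem hi 1))) fun t ht h => by
    have h2 := D.tor' hi ht 1
    rw [h, mul_one, mul_inv_eq_iff_eq_mul] at h2
    rw [← hT t ht, ← map_mul, h2, map_mul])
  have h2 : c ≠ 0 := fun h => by
    rw [h, D.x_zero hi, eq_comm, map_eq_one_iff _ β.injective, D.x_eq_one_iff hi] at h1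
    exact one_ne_zero h1
  refine ⟨Units.mk0 c h2, fun u => ?_⟩
  rcases eq_or_ne u 0 with rfl | hu
  · rw [mul_zero, D.x_zero hi, map_one]
  · obtain ⟨t, ht, rfl⟩ := D.χ_surj hi hu
    rw [Units.val_mk0, mul_comm, ← D.tor' hi ht, h1, ← mul_one (D.χ (sr i) t), ← D.tor' hi ht, map_mul, map_mul, map_inv,
      hT t ht]

variable (hG : ∀ y ∈ G, β y ∈ G)
include hG

theorem exists_t {m : Y} (hm : m ∈ D.NN) : ∃ t ∈ D.T, β m = m * t := by
  refine ⟨m⁻¹ * β m, ?_, (mul_inv_cancel_left _ _).symm⟩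
  rw [← D.centralizer_T]
  refine ⟨G.mul_mem (G.inv_mem (D.NN_le_G hm)) (hG _ (D.NN_le_G hm)), fun t ht => ?_⟩
  have h1 := hT _ (D.conj_mem_T hm ht)
  rw [map_mul, map_mul, map_inv, hT t ht, mul_inv_eq_iff_eq_mul] at h1
  rw [mul_assoc, h1]
  group

variable (hX : ∀ i, ∀ u ∈ D.X (sr i), β u = u)
include hX

theorem fix_n (i : D.I) : β (D.n i) = D.n i := by
  have hi := isRoot_sr D.cs D.h i
  have hn : D.Rp (D.cs.simple i) (D.n i) := rp_simple _ _ i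
  have ha : D.act (D.cs.simple i) (sr i) = -sr i := by rw [← D.rf_sr, D.act_rf_self hi]
  obtain ⟨t, ht, h1⟩ := exists_t D hT hG (D.n_mem_NN i)
  obtain ⟨c₁, c₂, -, -, t₀, h0, h2⟩ := D.rank_one i
  have h3 : β (D.x (-sr i) (1 : kˣ)) ∈ D.X (-sr i) := by
    have h3 : (D.n i)⁻¹ * D.x (-sr i) (1 : kˣ) * D.n i ∈ D.X (sr i) := by
      rw [← mem_cj, D.conj_rp hn hi, ha]
      exact D.x_mem hi.neg _
    have h4 := D.conj_mem (hn.mul_mem_right ht) hi h3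
    rw [ha, ← h1, ← hX i _ h3, ← map_inv, ← map_mul, ← map_mul] at h4
    convert h4 using 2
    group
  obtain ⟨w, h4⟩ := (D.mem_X _ hi.neg _).1 (mul_mem (inv_mem (D.x_mem hi.neg (1 : kˣ))) h3)
  rw [h2, map_mul, map_mul, map_mul, hX i _ (D.x_mem hi _), hX i _ (D.x_mem hi _), hT _ (mul_mem (D.τ_mem _) h0), h1]
    at h4
  have h5 : D.x (-sr i) w = (D.x (sr i) (c₂ * ((1 : kˣ)⁻¹ : kˣ)))⁻¹ * t * D.x (sr i) (c₂ * ((1 : kˣ)⁻¹ : kˣ)) := by
    rw [h4]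
    group
  rcases eq_or_ne w 0 with rfl | hw
  · rw [D.x_zero hi.neg, eq_comm, mul_assoc, inv_mul_eq_one, eq_comm, mul_eq_right] at h5
    rw [h1, h5, mul_one]
  · have h6 := h2 (Units.mk0 w hw)
    rw [Units.val_mk0, h5, mul_assoc _ (_ * t₀)] at h6
    have h7 := (D.eq_of_mem_UNU (inv_mem (X_le_U D i (D.x_mem hi _))) (X_le_U D i (D.x_mem hi _)) (rp_of_mem ht)
      ((rp_of_mem (mul_mem (D.τ_mem _) h0)).mul hn) (X_le_U D i (D.x_mem hi _)) (X_le_U D i (D.x_mem hi _)) h6).1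
    have h8 := D.cs.length_simple i
    rw [one_mul] at h7
    rw [← h7, D.cs.length_one] at h8
    exact absurd h8 zero_ne_one

theorem fix_all {y : Y} (hy : y ∈ G) : β y = y := by
  rw [← D.G_eq] at hy
  refine (sup_le hT (RGD.Sup_le ?_) : _ ≤ fix β) hy
  rintro _ ⟨w, i, rfl⟩ u hu
  obtain ⟨m, h1, h2⟩ := D.exists_rp w
  have h3 : m ∈ fix β := (Subgroup.closure_le _).2 (by rintro _ ⟨j, rfl⟩; exact fix_n D hT hG hX j) h2
  rw [← D.conj_rp h1 (isRoot_sr D.cs D.h i), mem_cj] at hu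
  have h4 := mul_mem (mul_mem h3 (show _ ∈ fix β from hX i _ hu)) (inv_mem h3)
  convert h4 using 1
  group

end

end DgA

/-- **[DIAG]** -/
theorem boxDiag : BoxDiag := by
  intro p _ k _ _ Y _ N _ _ ρ F G _ D α h
  have hT : ∀ t ∈ D.T, α t = t := fun t ht => by
    obtain ⟨c, rfl⟩ := (D.mem_T t).1 ht
    rw [h.tau, mon_one]
  choose c hc using DgA.exists_c D hT fun y => (h.memU y).2
  obtain ⟨s, hs⟩ := al_surj D c
  have h1 := D.τ_mem s
  refine ⟨D.τ s, h1, fun y hy => ?_⟩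
  have h2 := DgA.fix_all D (β := MulAut.conj (D.τ s)⁻¹ * α) (fun t ht => ?_) (fun y hy => ?_) (fun i u hu => ?_) hy
  · rw [MulAut.mul_apply, MulAut.conj_apply, inv_inv] at h2
    conv_rhs => rw [← h2]
    group
  · rw [MulAut.mul_apply, MulAut.conj_apply, hT t ht, D.T_comm (inv_mem h1) ht]
    group
  · exact mul_mem (mul_mem (inv_mem (D.T_le_G h1)) ((h.memG y).2 hy)) (inv_mem (inv_mem (D.T_le_G h1)))
  · obtain ⟨v, rfl⟩ := (D.mem_X _ (isRoot_sr D.cs D.h i) _).1 hu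
    rw [MulAut.mul_apply, MulAut.conj_apply, hc, ← hs, show al D s i = chr (D.wt (sr i)) s from rfl,
      ← D.tor _ (isRoot_sr D.cs D.h i)]
    group

end Cfsg.Agent.BH.RO
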