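import Cfsg.Agent.BH.RowO.Lev
import Cfsg.Agent.PQ.Fa.Core
import Cfsg.Agent.KZ.Cl.Re
import Cfsg.Agent.KM.Ht.P

/-!
# BH, `RowO` in cross characteristic: the generic argument (helper2)

`boxG_of : BoxDiag → BoxG`.
-/

set_option autoImplicit false
set_option linter.unusedSectionVars false

namespace Cfsg.Agent.BH.RO

open Cfsg Subgroup Matrix Cfsg.Agent.TO
open Cfsg.Agent.KM.Tor (Loc CC)
open Cfsg.Agent.KM.Ht (Z0 Z0_le_T)
open Cfsg.Agent.DL Cfsg.Agent.DL.PP Cfsg.Agent.KZ.Lie Cfsg.Agent.PQ.Fa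

namespace Gn

section pure

variable {Y : Type} [Group Y] {l : ℕ}

theorem mem_of_pow {H : Subgroup Y} {x : Y} {m j : ℕ} (hl : l.Prime) (hm : ¬ l ∣ m) (h1 : x ^ m ∈ H)
    (h2 : x ^ l ^ j ∈ H) : x ∈ H := by
  have h : x = (x ^ l ^ j) ^ Nat.gcdA (l ^ j) m * (x ^ m) ^ Nat.gcdB (l ^ j) m := by
    rw [← _root_.zpow_natCast, ← _root_.zpow_natCast x m, ← _root_.zpow_mul, ← _root_.zpow_mul, ← _root_.zpow_add,
      ← Nat.gcd_eq_gcd_ab, ((hl.coprime_iff_not_dvd.2 hm).pow_left j).gcd_eq_one, Nat.cast_one, _root_.zpow_one]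
  rw [h]
  exact mul_mem (zpow_mem h2 _) (zpow_mem h1 _)

theorem pow_act {Z : Subgroup Y} {ψ : MulAut Y} {h : Y} {u : ℕ} (h1 : ∀ t ∈ Z, ψ t = h * t ^ u * h⁻¹)
    (h2 : ∀ t ∈ Z, h * t * h⁻¹ ∈ Z) (i : ℕ) {t : Y} (ht : t ∈ Z) : (ψ ^ i) t = h ^ i * t ^ u ^ i * (h ^ i)⁻¹ := by
  induction i generalizing t with
  | zero => simp
  | succ i ih =>
    rw [pow_succ ψ, MulAut.mul_apply, h1 t ht, ih (h2 _ (pow_mem ht u)), conj_pow, ← pow_mul, ← pow_succ', pow_succ h]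
    group

theorem loc_mem {H Q : Subgroup Y} {y x : Y} {j : ℕ} (h : Loc l H Q y) (h0 : x ∈ H) (h1 : x ^ l ^ j = 1)
    (h2 : x * y = y * x) (h3 : x ∈ normalizer (Q : Set Y)) : x ∈ Q := by
  have h4 : IsPGroup l (zpowers x) := fun ⟨_, n, e⟩ => ⟨j, Subtype.ext (by
    simp only [coe_pow, coe_one, ← e]
    rw [← _root_.zpow_natCast, ← _root_.zpow_mul, mul_comm, _root_.zpow_mul, _root_.zpow_natCast, h1, _root_.one_zpow])⟩
  have h5 : zpowers x ⊔ Q ≤ centralizer {y} := sup_le (zpowers_le.2 (mem_centralizer_singleton_iff.2 h2))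
    fun d hd => mem_centralizer_singleton_iff.2 (h.comm d hd)
  exact h.syl _ (sup_le (zpowers_le.2 h0) h.le) (h4.to_sup_of_normal_right' h.pg (zpowers_le.2 h3)) le_sup_right
    (fun a ha => mem_centralizer_singleton_iff.1 (h5 ha)) (mem_sup_left (mem_zpowers x))

theorem lte (hl : l.Prime) (h2 : l ≠ 2) {P e j : ℕ} (hP : 1 < P) (h1 : l ∣ P - 1) (he : e ≠ 0)
    (h : l ^ padicValNat l (P ^ e - 1) ∣ P ^ j - 1) : ∃ r s, ¬ l ∣ r ∧ j * r = e * s := by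
  have := Fact.mk hl
  rcases eq_or_ne j 0 with rfl | hj
  · exact ⟨1, 0, hl.not_dvd_one, by simp⟩
  have h3 : ¬ l ∣ P := fun h4 => hl.not_dvd_one ((Nat.dvd_sub_iff_right hP.le h4).1 h1)
  have h4 := fun n hn => padicValNat.pow_sub_pow (n := n) (hl.odd_of_ne_two h2) hP h1 h3 hn
  simp only [one_pow] at h4
  rw [← padicValNat_dvd_iff_le (Nat.sub_ne_zero_of_lt (Nat.one_lt_pow hj hP)) |>.symm, h4 e he, h4 j hj,
    add_le_add_iff_left, ← padicValNat_dvd_iff_le hj] at h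
  obtain ⟨s, hs⟩ := h
  obtain ⟨r, hr⟩ := pow_padicValNat_dvd (p := l) (n := e)
  refine ⟨r, s, fun ⟨c, hc⟩ => pow_succ_padicValNat_not_dvd (p := l) he ⟨c, ?_⟩, ?_⟩
  · rw [pow_succ, mul_assoc, ← hc, ← hr]
  · rw [hs]
    conv_rhs => rw [hr]
    ring

end pure

variable {p : ℕ} [Fact p.Prime] {k : Type} [Field k] [CharP k p] {Y : Type} [Group Y] {N : Type} [Fintype N]
  [DecidableEq N] {ρ : Y →* GL N k} {F : MulAut Y} {G : Subgroup Y} [IsAlgClosed k] {D : Datum p ρ F G}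
  {Adm : Matrix D.R D.R ℤ → Prop} {S : Type} [Group S] {s : Sit D Adm S} {l : ℕ} {α β : MulAut Y}
  {A : Matrix D.R D.R ℤ}

theorem au_pow (h : Au D α A) (n : ℕ) : Au D (α ^ n) (A ^ n) := by
  induction n with
  | zero => exact KZ.Dat.au_one
  | succ n ih => rw [pow_succ, pow_succ]; exact KZ.Dat.au_mul ih h

theorem au_div (h : Au D α A) (h' : Au D β A) : Au D (α * β⁻¹) 1 where
  comm y := by
    rw [MulAut.mul_apply, MulAut.mul_apply, ← h.comm, show β⁻¹ (F y) = F (β⁻¹ y) from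
      β.injective (by rw [h'.comm]; simp)]
  memG y := by rw [MulAut.mul_apply, h.memG, ← h'.memG]; simp
  memT y := by rw [MulAut.mul_apply, h.memT, ← h'.memT]; simp
  memU y := by rw [MulAut.mul_apply, h.memU, ← h'.memU]; simp
  tau c := by
    obtain ⟨c', hc⟩ := (D.mem_T _).1 ((h'.memT (β⁻¹ (D.τ c))).1 (by simpa using D.τ_mem c))
    rw [MulAut.mul_apply, ← hc, h.tau, ← h'.tau, hc, mon_one]
    simp

theorem div_Z0 {Z : Set Y} {t : Y} (ht : t ∈ Z0 D Z) {n : ℕ} (hn : n ≠ 0) : ∃ x ∈ Z0 D Z, x ^ n = t := by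
  induction ht using closure_induction with
  | mem z hz =>
    obtain ⟨v, a, h1, rfl⟩ := hz
    obtain ⟨b, rfl⟩ := exists_zpow_eq (Int.natCast_ne_zero.2 hn) a
    exact ⟨_, KM.Ht.mem_Z0 h1 b, by rw [_root_.zpow_natCast, map_pow, map_pow]⟩
  | one => exact ⟨1, one_mem _, one_pow _⟩
  | mul a b _ _ ha hb =>
    obtain ⟨x, hx, rfl⟩ := ha
    obtain ⟨y, hy, rfl⟩ := hb
    exact ⟨x * y, mul_mem hx hy, Commute.mul_pow (D.T_comm (Z0_le_T D Z hx) (Z0_le_T D Z hy)) n⟩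
  | inv a _ ha =>
    obtain ⟨x, hx, rfl⟩ := ha
    exact ⟨x⁻¹, inv_mem hx, inv_pow x n⟩

theorem Z0_zp {z : Y} (hz : z ∈ D.T) : Z0 D (zpowers z : Subgroup Y) = Z0 D {z} := by
  have h : D.Sz (zpowers z : Subgroup Y) = D.Sz {z} := (KM.Tor.Sz_anti (Set.singleton_subset_iff.2 (mem_zpowers z))).antisymm
    fun a ha => ⟨ha.1, fun x hx => by
      obtain ⟨n, rfl⟩ := (D.amb.isOfFinOrder z).mem_powers_iff_mem_zpowers.2 hx
      rw [TO.X.Cn.χ_pow D a hz, ha.2 z rfl, one_pow]⟩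
  exact (KM.Tor.Z0_mono h.ge).antisymm (KM.Tor.Z0_mono h.le)

/-- an automorphism with a scalar matrix which fixes `z` has a power which is a power map on `Z0` -/
theorem act_Z0 (hl : l.Prime) {u : ℕ} (hα : Au D α ((u : ℤ) • 1)) {g y z : Y} (hg : g ∈ G) {hy : y ∈ G}
    {hN : y⁻¹ * F y ∈ D.NN} (hz : z ∈ Z0 (D.conj hy hN) {z}) (hc : CC (D.conj hy hN) {z}) (ho : orderOf z = l)
    (hf : g * α z * g⁻¹ = z) {t : Y} (ht : t ∈ Z0 (D.conj hy hN) {z}) :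
    ((MulAut.conj g * α) ^ (l - 1)) t = t ^ u ^ (l - 1) := by
  have h0 : g * α y * y⁻¹ ∈ G := mul_mem (mul_mem hg ((hα.memG y).2 hy)) (inv_mem hy)
  have h1 : ∀ t ∈ Z0 (D.conj hy hN) {z}, (MulAut.conj g * α) t = g * α y * y⁻¹ * t ^ u * (g * α y * y⁻¹)⁻¹ := fun t ht => by
    obtain ⟨c, rfl⟩ := ((D.conj hy hN).mem_T t).1 (Z0_le_T _ _ ht)
    rw [D.conj_tau, MulAut.mul_apply, MulAut.conj_apply, map_mul, map_mul, map_inv, hα.tau, mon_zsmul, mon_one,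
      _root_.zpow_natCast, map_pow, conj_pow]
    group
  generalize g * α y * y⁻¹ = h at h0 h1
  have h2 : h * z ^ u * h⁻¹ = z := (h1 z hz).symm.trans hf
  have h3 : ¬ l ∣ u := fun e => hl.one_lt.ne' (by
    rw [← ho, ← h2, orderOf_dvd_iff_pow_eq_one.1 (ho ▸ e), mul_one, mul_inv_cancel, orderOf_one])
  have h4 : z ^ u ^ (l - 1) = z := by
    have h5 := Nat.ModEq.pow_totient (hl.coprime_iff_not_dvd.2 h3).symm
    rw [Nat.totient_prime hl, ← ho] at h5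
    rw [← ho, pow_eq_pow_iff_modEq.2 h5, pow_one]
  have h5 : (zpowers z).map (MulAut.conj h).toMonoidHom = zpowers z := by
    rw [MonoidHom.map_zpowers]
    refine le_antisymm (zpowers_le.2 (mem_of_pow (j := 1) hl h3 ?_ ?_)) (zpowers_le.2 ⟨u, ?_⟩)
    · show (h * z * h⁻¹) ^ u ∈ _
      rw [conj_pow, h2]
      exact mem_zpowers z
    · show (h * z * h⁻¹) ^ l ^ 1 ∈ _
      rw [conj_pow, pow_one, ← ho, pow_orderOf_eq_one, mul_one, mul_inv_cancel]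
      exact one_mem _
    · show (h * z * h⁻¹) ^ (u : ℤ) = z
      rw [_root_.zpow_natCast, conj_pow, h2]
  have h6 : ∀ t ∈ Z0 (D.conj hy hN) {z}, h * t * h⁻¹ ∈ Z0 (D.conj hy hN) {z} := fun t ht => by
    rw [← Z0_zp (Z0_le_T _ _ hz)] at ht ⊢
    exact KM.Ht.conj_mem_Z0 _ (zpowers_le.2 (Z0_le_T _ _ hz)) h0 (mem_normalizer_iff_map_conj_eq.2 h5) ht
  have h7 := pow_act h1 h6 (l - 1) hz
  rw [Mk.pow_fix (F := MulAut.conj g * α) hf, h4] at h7
  rw [pow_act h1 h6 (l - 1) ht, KM.Ht.cen_comm_Z0 _ _ (hc _ (pow_mem h0 _) (mem_centralizer_singleton_iff.2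
    (mul_inv_eq_iff_eq_mul.1 h7.symm))) (pow_mem ht _), mul_inv_cancel_right]

theorem Cn.mul {a b : Y} (ha : Cn G a) (hb : Cn G b) : Cn G (a * b) :=
  ⟨mul_mem ha.1 hb.1, fun y hy => by rw [← mul_assoc, ha.2 y hy, mul_assoc, hb.2 y hy, mul_assoc]⟩

theorem Cn.inv {a : Y} (ha : Cn G a) : Cn G a⁻¹ :=
  ⟨inv_mem ha.1, fun y hy => by rw [mul_inv_eq_iff_eq_mul, mul_assoc, ha.2 y hy, inv_mul_cancel_left]⟩

theorem Cn.pow {a : Y} (ha : Cn G a) (n : ℕ) : Cn G (a ^ n) :=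
  ⟨pow_mem ha.1 n, fun y hy => (show Commute y a from ha.2 y hy).pow_right n⟩

theorem Cn.map {a : Y} (ha : Cn G a) {ψ : MulAut Y} (h : ∀ y, ψ y ∈ G ↔ y ∈ G) : Cn G (ψ a) :=
  ⟨(h a).2 ha.1, fun y hy => by
    obtain ⟨x, rfl⟩ := ψ.surjective y
    rw [← map_mul, ha.2 x ((h x).1 hy), map_mul]⟩

theorem π_eq {h h' : s.H0} {c : Y} (hc : Cn G c) (e : (h' : Y) = h * c) : s.π h' = s.π h := by
  have h1 : s.π (h⁻¹ * h') = 1 := (s.ker _).2 (by
    rw [coe_mul, coe_inv, e, inv_mul_cancel_left]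
    exact hc.2)
  rw [map_mul, map_inv, inv_mul_eq_one] at h1
  exact h1.symm

/-- `π` is injective on the `l`-elements -/
theorem inj (hl : l.Prime) (hI : IDX l s) {h h' : s.H0} {j : ℕ} (h1 : h ^ l ^ j = 1) (h2 : h' ^ l ^ j = 1)
    (e : s.π h = s.π h') : h = h' := by
  have h3 : s.π (h⁻¹ * h') = 1 := by rw [map_mul, map_inv, e, inv_mul_cancel]
  have h4 : Commute h (h⁻¹ * h') := Subtype.ext ((s.ker _).1 h3 h (s.le h.2).1)
  have h5 := h4.mul_pow (l ^ j)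
  rw [mul_inv_cancel_left, h1, h2, one_mul] at h5
  exact inv_mul_eq_one.1 (mem_bot.1 (mem_of_pow hl (hI.ker _ h3) (mem_bot.2 (pow_orderOf_eq_one _)) (mem_bot.2 h5.symm)))

/-- an automorphism which is induced by an element `x` with `x⁻¹ F x` central has an inner power -/
theorem inn_of (hI : IDX l s) {σ : MulAut S} {x : Y} (hx : x ∈ G) (hc : Cn G (x⁻¹ * F x)) (L : Lt s σ x 1) :
    ∃ c, ¬ l ∣ c ∧ σ ^ c ∈ Inn S := by
  obtain ⟨c, h1, z, h2, h3⟩ := hI.idx x hx hc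
  have h4 : ∀ i : ℕ, Lt s (σ ^ i) (x ^ i) 1 := fun i => by
    induction i with
    | zero => exact fun h => ⟨h, by simp, rfl⟩
    | succ i ih =>
      rw [pow_succ', pow_succ']
      exact L.mul ih
  refine ⟨c, h1, s.π ⟨_, h3⟩, MulEquiv.ext fun a => ?_⟩
  obtain ⟨h, rfl⟩ := s.surj a
  obtain ⟨h', e1, e2⟩ := h4 c h
  rw [← e2, MulAut.conj_apply, ← map_inv, ← map_mul, ← map_mul]
  refine congrArg _ (Subtype.ext ?_)
  rw [e1, coe_mul, coe_mul, coe_inv, MulAut.one_apply, _root_.mul_inv_rev, mul_assoc (x ^ c) z, ← h2.2 h (s.le h.2).1]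
  group

/-- the matrix is a power of the matrix of `F` -/
theorem inn_of_au (hD : BoxDiag) (hI : IDX l s) {σ : MulAut S} {g : Y} (hg : g ∈ GF F G) {m : ℕ}
    (hα : Au D α (D.Mx ^ m)) (L : Lt s σ g α) : ∃ c, ¬ l ∣ c ∧ σ ^ c ∈ Inn S := by
  have h1 := au_div hα (au_pow (KZ.Cl.au_F s.qs) m)
  obtain ⟨t, ht, h2⟩ := hD D _ h1
  have h3 := D.T_le_G ht
  refine inn_of hI (mul_mem hg.1 h3) ⟨mul_mem (inv_mem (mul_mem hg.1 h3)) ((D.F_mem_G_iff _).2 (mul_mem hg.1 h3)),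
    fun y hy => ?_⟩ fun h => ?_
  · obtain ⟨x, rfl⟩ := F.surjective y
    have h4 := h1.comm x
    rw [h2 _ hy, h2 _ ((D.F_mem_G_iff _).1 hy), map_mul, map_mul, map_inv] at h4
    rw [map_mul, show F g = g from hg.2, _root_.mul_inv_rev, mul_assoc, inv_mul_cancel_left]
    calc _ = t⁻¹ * (t * F x * t⁻¹) * F t := by group
      _ = _ := by rw [h4]; group
  · obtain ⟨h', e1, e2⟩ := L h
    refine ⟨h', ?_, e2⟩
    have h4 := h2 h (s.le h.2).1
    rw [MulAut.mul_apply, show (F ^ m)⁻¹ (h : Y) = h from (F ^ m).injective (by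
      rw [Mk.pow_fix (s.le h.2).2]; simp)] at h4
    rw [e1, h4, MulAut.one_apply]
    group

theorem nrm_fix {z : Y} (h : F z = z) (n : ℕ) : Mk.nrm F n z = z ^ n := by
  induction n with
  | zero => rw [pow_zero, Mk.nrm_zero]
  | succ n ih => rw [Mk.nrm_succ, ih, Mk.pow_fix h, pow_succ]

theorem lt_conj {σ : MulAut S} {g : Y} (L : Lt s σ g α) (n : ℕ) : Lt s (σ ^ n) 1 ((MulAut.conj g * α) ^ n) := by
  induction n with
  | zero => exact fun h => ⟨h, by simp, rfl⟩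
  | succ n ih =>
    have h1 : Lt s σ 1 (MulAut.conj g * α) := fun h => let ⟨h', e1, e2⟩ := L h; ⟨h', by rw [e1]; simp, e2⟩
    have h2 := h1.mul ih
    rwa [map_one, mul_one, ← pow_succ', ← pow_succ'] at h2

end Gn

open Gn

/-- **The generic argument.** -/
theorem boxG_of (hD : BoxDiag) : BoxG := by
  intro p _ k _ _ Y _ N _ _ ρ F G _ D Adm S _ s l n e hl h2 hp hn he hM hI Q y hL hQ hV z ho hz ⟨g₀, hg₀, hN, hZ, hC⟩ hS
  have hF := Fact.mk hl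
  have hp' : p.Prime := Fact.out
  have ho' : orderOf (z : Y) = l := (orderOf_coe z).trans ho
  have hzF := s.le z.2
  have hl1 : 0 < l - 1 := Nat.sub_pos_of_lt hl.one_lt
  have hN' : ¬ l ∣ n * (l - 1) := fun h => (hl.dvd_mul.1 h).elim hn fun h => by have := Nat.le_of_dvd hl1 h; omega
  have hP : 1 < p ^ (l - 1) := Nat.one_lt_pow hl1.ne' hp'.one_lt
  have hP1 : l ∣ p ^ (l - 1) - 1 := by
    have h5 := Nat.ModEq.pow_totient ((Nat.coprime_primes hp' hl).2 hp.symm)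
    rw [Nat.totient_prime hl] at h5
    exact (Nat.modEq_iff_dvd' hP.le).1 h5.symm
  have hq : 1 < (p ^ (l - 1)) ^ e := Nat.one_lt_pow he.ne' hP
  -- the action on `Z0`
  have key : ∀ (g : Y) (α : MulAut Y) (A : Matrix D.R D.R ℤ) (j : ℕ), g ∈ G → Au D α A → A ^ n = (p : ℤ) ^ j • 1 →
      g * α z * g⁻¹ = z → ∀ t ∈ Z0 (D.conj hg₀ hN) {(z : Y)},
        ((MulAut.conj g * α) ^ (n * (l - 1))) t = t ^ (p ^ (l - 1)) ^ j := fun g α A j hg hα hA hf t ht => by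
    obtain ⟨g', h3, h4⟩ : ∃ g' ∈ G, (MulAut.conj g * α) ^ n = MulAut.conj g' * α ^ n := by
      generalize n = n
      induction n with
      | zero => exact ⟨1, one_mem _, by simp⟩
      | succ n ih =>
        obtain ⟨g', h3, h4⟩ := ih
        refine ⟨g * α g', mul_mem hg ((hα.memG _).2 h3), MulEquiv.ext fun x => ?_⟩
        rw [pow_succ', h4, pow_succ' α]
        simp only [MulAut.mul_apply, MulAut.conj_apply, map_mul, map_inv, _root_.mul_inv_rev, mul_assoc]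
    have h5 := au_pow hα n
    rw [hA, ← Nat.cast_pow] at h5
    have h6 := Mk.pow_fix (F := MulAut.conj g * α) hf n
    rw [pow_mul, h4, act_Z0 hl h5 h3 hZ hC ho' (h4 ▸ h6 :) ht, ← pow_mul p, ← pow_mul p, mul_comm]
  have T : Mk.Tor F (n * (l - 1)) ((p ^ (l - 1)) ^ e) (Z0 (D.conj hg₀ hN) {(z : Y)}) :=
    ⟨hq, fun a ha b hb => (D.conj hg₀ hN).T_comm (Z0_le_T _ _ ha) (Z0_le_T _ _ hb), fun t ht => by
      rw [← Z0_zp (Z0_le_T _ _ hZ)] at ht ⊢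
      exact (KM.Ht.boxP _ _ (zpowers_le.2 (Z0_le_T _ _ hZ)) fun a ha =>
        (zpowers_le.2 hzF : _ ≤ GF F G) ha |>.2).1 t ht,
      fun t ht => by simpa using key 1 F _ e (one_mem _) (KZ.Cl.au_F s.qs) hM (by rw [one_mul, inv_one, mul_one]; exact hzF.2) t ht,
      fun t ht _ h => div_Z0 ht h⟩
  -- the element of maximal order
  obtain ⟨a, ha⟩ : ∃ a, padicValNat l ((p ^ (l - 1)) ^ e - 1) = a + 1 := Nat.exists_eq_succ_of_ne_zero
    (Nat.ne_of_gt (one_le_padicValNat_of_dvd (Nat.sub_ne_zero_of_lt hq) (hP1.trans (Nat.sub_one_dvd_pow_sub_one _ e))))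
  obtain ⟨x, hx, e1⟩ := div_Z0 hZ (pow_ne_zero a hl.ne_zero)
  have h3 : x ^ l ^ (a + 1) = 1 := by rw [pow_succ, pow_mul, e1, ← ho', pow_orderOf_eq_one]
  have h4 : F (Mk.nrm F (n * (l - 1)) x) = _ := T.nrm_fix _ hx (by
    obtain ⟨c, hc⟩ := ha ▸ pow_padicValNat_dvd (p := l) (n := (p ^ (l - 1)) ^ e - 1)
    rw [T.frob x hx, ← Nat.sub_add_cancel hq.le, hc, pow_succ, pow_mul, h3, one_pow, one_mul])
  have h5 := T.nrm_pow (n * (l - 1)) hx (l ^ a)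
  have h6 := T.nrm_mem (n * (l - 1)) hx
  rw [e1, nrm_fix hzF.2] at h5
  generalize Mk.nrm F (n * (l - 1)) x = t at h4 h5 h6
  have h7 : t ∈ G := (D.conj hg₀ hN).T_le_G (Z0_le_T _ _ h6)
  obtain ⟨c, hc, z', h8, h9⟩ := hI.idx t h7 (by
    rw [h4, inv_mul_cancel]
    exact ⟨one_mem _, fun y _ => by rw [mul_one, one_mul]⟩)
  have hw : ∀ i : ℕ, (t ^ c * z') ^ i = (t ^ i) ^ c * z' ^ i := fun i => by
    rw [(show Commute (t ^ c) z' from h8.2 _ (pow_mem h7 c)).mul_pow, ← pow_mul, ← pow_mul, mul_comm c]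
  have a1 : s.π ⟨_, h9⟩ ^ l ^ a = s.π z ^ (n * (l - 1) * c) := by
    rw [← map_pow, ← map_pow]
    exact π_eq (Cn.pow h8 (l ^ a)) (by rw [coe_pow, coe_pow, hw, ← h5, ← pow_mul])
  have a2 : s.π z ^ l = 1 := by rw [← map_pow, ← ho, pow_orderOf_eq_one, map_one]
  have a3 : s.π ⟨_, h9⟩ ^ l ^ (a + 1) = 1 := by rw [pow_succ, pow_mul, a1, ← pow_mul, mul_comm, pow_mul, a2, one_pow]
  have a4 : ¬ l ∣ n * (l - 1) * c := fun h => (hl.dvd_mul.1 h).elim hN' hc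
  have a5 : s.π z ∈ zpowers (s.π ⟨_, h9⟩ ^ l ^ a) :=
    mem_of_pow (j := 1) hl a4 (a1 ▸ mem_zpowers _) (by rw [pow_one, a2]; exact one_mem _)
  have a6 : orderOf (s.π ⟨_, h9⟩) = l ^ (a + 1) := orderOf_eq_prime_pow (fun h => by
    rw [h, zpowers_one_eq_bot, mem_bot] at a5
    exact hI.ker z a5 ho.symm.dvd) a3
  have z1 : z ^ l ^ 1 = 1 := by rw [pow_one, ← ho, pow_orderOf_eq_one]
  have a7 : ∀ u : S, u * s.π z = s.π z * u → s.π ⟨_, h9⟩ * u = u * s.π ⟨_, h9⟩ := fun u hu => by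
    obtain ⟨h, rfl⟩ := s.surj u
    have b1 : h * z * h⁻¹ = z := inj hl hI (by rw [conj_pow, z1, mul_one, mul_inv_cancel]) z1
      (by rw [map_mul, map_mul, map_inv, hu, mul_inv_cancel_right])
    have b2 := KM.Ht.cen_comm_Z0 _ _ (hC h (s.le h.2).1 (mem_centralizer_singleton_iff.2
      (congrArg Subtype.val (mul_inv_eq_iff_eq_mul.1 b1)))) (pow_mem h6 c)
    rw [← map_mul, ← map_mul]
    refine congrArg _ (Subtype.ext ?_)
    show t ^ c * z' * h = h * (t ^ c * z')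
    rw [← mul_assoc, b2, mul_assoc, mul_assoc, h8.2 _ (s.le h.2).1]
  have a8 : s.π ⟨_, h9⟩ ∈ Q := loc_mem hL trivial a3 (a7 y (hL.comm _ hz).symm)
    (centralizer_le_normalizer _ fun u hu => (a7 u (hQ hz u hu)).symm)
  -- the outer automorphism
  obtain ⟨β, b1, ⟨i, b2⟩, b3⟩ := hV _ a8
  obtain ⟨g, hg, α, A, b4, b5, L⟩ := s.aut β
  have b6 : g * α z * g⁻¹ = z := by
    obtain ⟨h', e2, e3⟩ := L z
    obtain ⟨m, hm⟩ := a5
    rw [← e2, inj hl hI (h := h') (Subtype.ext ?_) z1 (by rw [e3, ← hm, map_zpow, map_pow, b3])]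
    rw [coe_pow, e2, conj_pow, ← map_pow, ← coe_pow, z1]
    simp
  obtain ⟨j, hj⟩ := hS g hg α A b4 b5 b6
  have b7 : s.π ⟨_, h9⟩ ^ (p ^ (l - 1)) ^ j = s.π ⟨_, h9⟩ := by
    obtain ⟨h', e2, e3⟩ := lt_conj (s := s) L (n * (l - 1)) ⟨_, h9⟩
    have b8 : ∀ y, ((MulAut.conj g * α) ^ (n * (l - 1))) y ∈ G ↔ y ∈ G := by
      generalize n * (l - 1) = m
      induction m with
      | zero => exact fun _ => Iff.rfl
      | succ m ih =>
        intro y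
        rw [pow_succ, MulAut.mul_apply, ih, MulAut.mul_apply, MulAut.conj_apply, G.mul_mem_cancel_right (inv_mem hg.1),
          G.mul_mem_cancel_left hg.1, b4.memG]
    rw [Mk.pow_fix b3] at e3
    rw [← map_pow]
    refine (π_eq (Cn.mul (Cn.inv (Cn.pow h8 ((p ^ (l - 1)) ^ j))) (Cn.map h8 b8)) ?_).symm.trans e3
    rw [e2, one_mul, inv_one, mul_one, coe_pow, hw, map_mul, map_pow, key g α A j hg.1 b4 hj b6 t h6]
    group
  have b8 : l ^ padicValNat l ((p ^ (l - 1)) ^ e - 1) ∣ (p ^ (l - 1)) ^ j - 1 := by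
    rw [ha, ← a6, ← Nat.modEq_iff_dvd' (Nat.one_le_pow _ _ (by omega)), ← pow_eq_pow_iff_modEq, b7, pow_one]
  obtain ⟨r, r', c1, c2⟩ := lte hl h2 hP hP1 he.ne' b8
  obtain ⟨c3, g', c4, L'⟩ := lt_pow hg b4 L (n * r)
  rw [show A ^ (n * r) = D.Mx ^ (n * r') by
    rw [pow_mul, pow_mul, hj, hM, smul_pow, smul_pow, one_pow, one_pow, ← pow_mul, ← pow_mul, c2]] at c3
  obtain ⟨c', c5, c6⟩ := inn_of_au hD hI c4 c3 L'
  rw [← pow_mul] at c6
  exact b1 (mem_of_pow (j := i) hl (fun h => (hl.dvd_mul.1 h).elim (fun h => (hl.dvd_mul.1 h).elim hn c1) c5) c6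
    (by rw [← b2, pow_orderOf_eq_one]; exact one_mem _))

end Cfsg.Agent.BH.RO
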