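import Cfsg.Agent.BZ.Lab.Cor
import Mathlib.LinearAlgebra.FreeModule.ModN

/-!
# BH, `RowO`, the box `BoxAd6` : lattices of rank at most three (helper68)
-/

set_option autoImplicit false

namespace Cfsg.Agent.BH.RO.A6

open Subgroup MulAction Module Multiplicative Cfsg.Agent.BZ.Lab

section lat

variable {Γ M : Type} [Group Γ] [AddCommGroup M] {a : Γ →* (M ≃ₗ[ℤ] M)} {B : M →ₗ[ℤ] M →ₗ[ℤ] ℤ}

/-- an invariant positive form -/
structure Fm (a : Γ →* (M ≃ₗ[ℤ] M)) (B : M →ₗ[ℤ] M →ₗ[ℤ] ℤ) : Prop where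
  sym : ∀ x y, B x y = B y x
  pos : ∀ x, x ≠ 0 → 0 < B x x
  inv : ∀ g x y, B (a g x) (a g y) = B x y

variable (a) in
theorem exists_fm [Finite Γ] [Module.Free ℤ M] [Module.Finite ℤ M] : ∃ B, Fm a B := by
  have := Fintype.ofFinite Γ
  let b := Module.finBasis ℤ M
  let B : M →ₗ[ℤ] M →ₗ[ℤ] ℤ := ∑ g, ∑ i, (LinearMap.mul ℤ ℤ).compl₁₂ (b.coord i ∘ₗ (a g : M →ₗ[ℤ] M)) (b.coord i ∘ₗ (a g : M →ₗ[ℤ] M))
  have hB : ∀ x y, B x y = ∑ g, ∑ i, b.repr (a g x) i * b.repr (a g y) i := fun x y => by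
    simp [B, LinearMap.sum_apply]
  refine ⟨B, fun x y => by simp only [hB, mul_comm], fun x hx => ?_, fun g x y => ?_⟩
  · obtain ⟨i, hi⟩ : ∃ i, b.repr x i ≠ 0 := by
      by_contra! e
      exact hx (b.repr.injective (by rw [map_zero]; exact Finsupp.ext e))
    rw [hB]
    exact Finset.sum_pos' (fun _ _ => Finset.sum_nonneg fun _ _ => mul_self_nonneg _) ⟨1, Finset.mem_univ _,
      Finset.sum_pos' (fun _ _ => mul_self_nonneg _) ⟨i, Finset.mem_univ _, mul_self_pos.2 (by simpa using hi)⟩⟩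
  · rw [hB, hB]
    exact Fintype.sum_equiv (Equiv.mulRight g) _ _ fun s => by simp [map_mul]

namespace Fm

variable (h : Fm a B)
include h

theorem nn (x : M) : 0 ≤ B x x := (em (x = 0)).elim (fun e => by simp [e]) fun e => (h.pos x e).le

theorem tf {n : ℤ} (hn : n ≠ 0) {x : M} (e : n • x = 0) : x = 0 := by_contra fun k => by
  have h1 := congrArg (B x) e
  rw [map_smul, map_zero, smul_eq_mul] at h1
  exact (mul_ne_zero hn (h.pos x k).ne') h1

theorem exists_min (S : M → Prop) {x : M} (hx : S x) (h0 : x ≠ 0) : ∃ u, S u ∧ u ≠ 0 ∧ ∀ v, S v → v ≠ 0 → B u u ≤ B v v := by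
  obtain ⟨_, ⟨u, h1, h2, rfl⟩, h3⟩ := Int.exists_least_of_bdd (P := fun n => ∃ v, S v ∧ v ≠ 0 ∧ B v v = n)
    ⟨0, fun _ ⟨v, _, _, e⟩ => e ▸ h.nn v⟩ ⟨_, x, hx, h0, rfl⟩
  exact ⟨u, h1, h2, fun v k1 k2 => h3 _ ⟨v, k1, k2, rfl⟩⟩

theorem nine {g : Γ} {x y : M} (e : a g x = x + (3 : ℤ) • y) : 9 * B y y = 2 * B x x - 2 * B (a g x) x := by
  have h1 := h.inv g x x
  have h2 := h.sym x y
  rw [e] at h1 ⊢
  simp only [map_add, map_smul, LinearMap.add_apply, LinearMap.smul_apply, smul_eq_mul] at h1 ⊢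
  linarith

/-- **Minkowski** -/
theorem mink {g : Γ} (hg : ∀ x, ∃ y, a g x = x + (3 : ℤ) • y) : a g = 1 := by
  by_contra e
  obtain ⟨x, hx⟩ : ∃ x, a g x ≠ x := not_forall.1 fun k => e (LinearEquiv.ext k)
  have k0 : ∀ x z, a g z = z → B (a g x - x) z = 0 := fun x z hz => by
    rw [map_sub, LinearMap.sub_apply, ← h.inv g x z, hz, sub_self]
  obtain ⟨u, h1, h2, h3⟩ := h.exists_min (fun x => ∀ z, a g z = z → B x z = 0) (k0 x) (sub_ne_zero.2 hx)
  obtain ⟨y, hy⟩ := hg u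
  have h4 := h3 y (fun z hz => by
    have := k0 u z hz
    rw [hy, add_sub_cancel_left, map_smul, LinearMap.smul_apply, smul_eq_mul] at this
    omega) fun k => (h.pos u h2).ne' (h1 u (by rw [hy, k, smul_zero, add_zero]))
  have h5 := h.nn (a g u + u)
  have h6 := h.sym u (a g u)
  simp only [map_add, LinearMap.add_apply, h.inv] at h5
  have := h.nine hy
  have := h.pos u h2
  omega

/-- **rank at most three** -/
theorem lat [Module.Finite ℤ M] (rk : finrank ℤ M ≤ 3) {g : Γ} (h3 : a (g ^ 3) = 1)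
    (H : ∀ x, ∃ s y, a (s * g * s⁻¹) x = x + (3 : ℤ) • y) : a g = 1 := by
  by_contra e
  obtain ⟨x, hx⟩ : ∃ x, a g x ≠ x := not_forall.1 fun k => e (LinearEquiv.ext k)
  let c : Γ → M ≃ₗ[ℤ] M := fun s => a (s * g * s⁻¹)
  let N : Γ → M →ₗ[ℤ] M := fun s => LinearMap.id + (c s).toLinearMap + (c s).toLinearMap ∘ₗ (c s).toLinearMap
  have hN : ∀ s x, N s x = x + c s x + c s (c s x) := fun _ _ => rfl
  have am : ∀ s t x, a s (a t x) = a (s * t) x := fun s t x => by rw [map_mul]; rfl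
  have c3 : ∀ s x, c s (c s (c s x)) = x := fun s x => by
    simp only [c, am]
    rw [show s * g * s⁻¹ * (s * g * s⁻¹ * (s * g * s⁻¹)) = s * g ^ 3 * s⁻¹ by rw [pow_three]; group, map_mul, map_mul, h3, mul_one,
      ← map_mul, mul_inv_cancel, map_one]
    rfl
  have ct : ∀ s t x, c s (a (s * t⁻¹) x) = a (s * t⁻¹) (c t x) := fun s t x => by
    simp only [c, am]
    congr 2
    group
  have n0 : ∀ s x, N s (c s x - x) = 0 := fun s x => by
    rw [map_sub, hN, hN, c3]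
    abel
  have ci : ∀ s x y, B (c s x) (c s y) = B x y := fun s => h.inv _
  obtain ⟨u, ⟨s₀, h1⟩, h2, h4⟩ := h.exists_min (fun x => ∃ s, N s x = 0) ⟨1, n0 1 x⟩ (sub_ne_zero.2 (by simpa [c] using hx))
  have k1 : ∀ x, B x x < 3 * B u u → ∃ s, c s x = x := fun x hx => by
    obtain ⟨s, y, hy⟩ := H x
    refine ⟨s, by_contra fun k => ?_⟩
    have e1 := h4 y ⟨s, h.tf three_ne_zero (by rw [← map_smul, ← n0 s x, show c s x = _ from hy, add_sub_cancel_left])⟩
      fun k' => k (by rw [show c s x = _ from hy, k', smul_zero, add_zero])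
    have e2 := h.nn (N s x)
    have e3 := ci s x (c s (c s x))
    have e4 := h.sym x (c s x)
    have e5 := h.sym x (c s (c s x))
    have e6 : 9 * B y y = 2 * B x x - 2 * B (c s x) x := h.nine hy
    simp only [hN, map_add, LinearMap.add_apply, ci, c3] at e2 e3
    omega
  have k2 : ∀ s x y, c s x = x → c s y = y → x ≠ 0 → y ≠ 0 → ∃ i j : ℤ, i ≠ 0 ∧ j ≠ 0 ∧ i • x = j • y := fun s x y hx hy x0 y0 => by
    obtain ⟨v, v0, hv⟩ : ∃ v, v ≠ 0 ∧ N s v = 0 := ⟨a (s * s₀⁻¹) u, by simpa using h2, by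
      rw [hN, ct, ct, ← map_add, ← map_add, ← hN, h1, map_zero]⟩
    obtain ⟨f, e1, i, e2⟩ := Fintype.not_linearIndependent_iff.1 fun k : LinearIndependent ℤ ![x, y, v, c s v] => by
      have := k.fintype_card_le_finrank
      rw [Fintype.card_fin] at this
      omega
    simp only [Fin.sum_univ_four, Matrix.cons_val] at e1
    have e3 : N s (c s v) = 0 := by rw [← hv, hN, hN, c3]; abel
    have e4 : f 0 • x + f 1 • y = 0 := h.tf three_ne_zero (by
      have := congrArg (N s) e1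
      simp only [map_add, map_smul, hv, e3, map_zero, smul_zero, add_zero] at this
      rw [← this, hN, hN, hx, hx, hy, hy]
      module)
    rw [e4, zero_add] at e1
    have e5 : f 2 ^ 2 - f 2 * f 3 + f 3 ^ 2 = 0 := by_contra fun k => v0 (h.tf k (by
      have e6 := congrArg (c s) (congrArg (c s) e1)
      simp only [map_add, map_smul, c3, map_zero] at e6
      rw [hN] at hv
      linear_combination (norm := module) f 2 • e1 + f 3 • e6 - (2 * f 2 * f 3) • (rfl : v = v) - (f 2 * f 3) • hv))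
    have e6 : f 2 = 0 := by nlinarith [sq_nonneg (f 2 - 2 * f 3), sq_nonneg (f 2)]
    have e7 : f 3 = 0 := by nlinarith [sq_nonneg (f 3)]
    have e8 : f 0 ≠ 0 ∨ f 1 ≠ 0 := by
      fin_cases i
      exacts [Or.inl e2, Or.inr e2, absurd e6 e2, absurd e7 e2]
    refine ⟨f 0, -f 1, fun k => ?_, fun k => ?_, by rw [neg_smul, eq_neg_iff_add_eq_zero, e4]⟩
    · rw [k, zero_smul, zero_add] at e4
      exact y0 (h.tf (e8.resolve_left (not_not.2 k)) e4)
    · rw [neg_eq_zero.1 k, zero_smul, add_zero] at e4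
      exact x0 (h.tf (e8.resolve_right (not_not.2 (neg_eq_zero.1 k))) e4)
  obtain ⟨z, -, z0, hz⟩ := h.exists_min (fun _ => True) trivial h2
  have p1 := h.pos z z0
  have p2 := hz u trivial h2
  obtain ⟨s₁, h5⟩ := k1 z (by omega)
  have k3 : ∀ s, ∃ w, w ≠ 0 ∧ c s w = w ∧ B w w = B z z := fun s => ⟨a (s * s₁⁻¹) z, by simpa using z0, by rw [ct, h5], h.inv _ _ _⟩
  have p3 : B u u ≤ B z z := by
    obtain ⟨s, e1⟩ := k1 u (by omega)
    obtain ⟨w, w0, e2, e3⟩ := k3 s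
    obtain ⟨i, j, -, j0, e4⟩ := k2 s u w e1 e2 h2 w0
    exact e3 ▸ h4 w ⟨s₀, h.tf j0 (by rw [← map_smul, ← e4, map_smul, h1, smul_zero])⟩ w0
  obtain ⟨w, w0, e1, e2⟩ := k3 s₀
  have p4 : B (w + u) (w + u) = 2 * B z z := by
    have e3 := congrArg (B w) h1
    have e4 := ci s₀ w u
    have e5 := ci s₀ w (c s₀ u)
    have e6 := h.sym w u
    simp only [hN, map_add, map_zero, LinearMap.add_apply, e1] at e3 e4 e5 ⊢
    omega
  obtain ⟨s, e3⟩ := k1 (w + u) (by omega)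
  obtain ⟨w', w1, e4, e5⟩ := k3 s
  obtain ⟨i, j, i0, -, e6⟩ := k2 s _ w' e3 e4 (fun k => by rw [k, map_zero] at p4; omega) w1
  have e7 := congrArg₂ (fun x y => B x y) e6 e6
  simp only [map_smul, LinearMap.smul_apply, smul_eq_mul, p4, e5] at e7
  have e8 : (2 : ℚ) * i * i = j * j := by exact_mod_cast mul_right_cancel₀ p1.ne' (by linarith : 2 * i * i * B z z = j * j * B z z)
  have e9 : (i : ℚ) ≠ 0 := by exact_mod_cast i0
  exact Nat.prime_two.prime.not_isSquare (Rat.isSquare_natCast_iff.1 ⟨j / i, by field_simp; push_cast; linarith⟩)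

end Fm

end lat

/-- **all characters of `Λ / 3 Λ` have orbits of length prime to three** -/
theorem pure {K Λ : Type} [Group K] [Finite K] [AddCommGroup Λ] [Module.Free ℤ Λ] [Module.Finite ℤ Λ] {Γ : Subgroup K}
    (A : Γ →* (Λ ≃ₗ[ℤ] Λ)) (f : Multiplicative Λ →* K) (hk : ∀ v, f (ofAdd v) = 1 ↔ ∃ y, v = (3 : ℤ) • y)
    (hA : ∀ g v, f (ofAdd (A g v)) = g * f (ofAdd v) * (g : K)⁻¹) (hc : Nat.card f.range ≤ 27) (hN : Γ ≤ normalizer (f.range : Set K))
    (ho : ∀ θ : f.range →* ℂˣ, ¬ 3 ∣ (@stabilizer _ _ _ (Cor.aY (Cor.cn hN)) θ).index) (g : Γ)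
    (hg : (g : K) ^ 3 ∈ centralizer (f.range : Set K)) : A g = 1 := by
  classical
  have : Fact (Nat.Prime 3) := ⟨Nat.prime_three⟩
  obtain ⟨B, hB⟩ := exists_fm A
  have h3 : A (g ^ 3) = 1 := hB.mink fun v => ((hk (A (g ^ 3) v - v)).1 (by
    rw [ofAdd_sub, map_div, hA, coe_pow, ← hg _ ⟨_, rfl⟩, mul_inv_cancel_right, div_self'])).imp fun y e => by rw [← e]; abel
  let a : Γ →* (Dual ℤ Λ ≃ₗ[ℤ] Dual ℤ Λ) := MonoidHom.mk' (fun s => (A s⁻¹).dualMap) fun s t =>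
    LinearEquiv.ext fun φ => LinearMap.ext fun v => by simp
  obtain ⟨B', hB'⟩ := exists_fm a
  let b := Module.finBasis ℤ Λ
  have rk : finrank ℤ (Dual ℤ Λ) ≤ 3 := by
    rw [← b.toDualEquiv.finrank_eq, ← Nat.pow_le_pow_iff_right (a := 3) (by norm_num), ← ModN.natCard_eq]
    refine le_trans (le_of_eq ?_) hc
    rw [← Subgroup.index_ker, show f.ker = AddSubgroup.toSubgroup (LinearMap.range (LinearMap.lsmul ℤ Λ (3 : ℕ))).toAddSubgroup from
      Subgroup.ext fun v => (hk v).trans ⟨fun ⟨y, e⟩ => ⟨y, e.symm⟩, fun ⟨y, e⟩ => ⟨y, e.symm⟩⟩, AddSubgroup.index_toSubgroup]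
    rfl
  obtain ⟨ω, hω⟩ : ∃ ω : ℂˣ, orderOf ω = 3 :=
    ⟨_, ((Complex.isPrimitiveRoot_exp 3 three_ne_zero).isUnit_unit three_ne_zero).eq_orderOf.symm⟩
  have h4 := hB'.lat rk (g := g) (LinearEquiv.ext fun φ => LinearMap.ext fun v => by
    show φ (A (g ^ 3)⁻¹ v) = φ v
    rw [map_inv, h3]; rfl) fun φ => by
      let θ₀ : Multiplicative Λ →* ℂˣ := (zpowersHom ℂˣ ω).comp φ.toAddMonoidHom.toMultiplicative
      let θ : f.range →* ℂˣ := f.rangeRestrict.liftOfSurjective f.rangeRestrict_surjective ⟨θ₀, fun v hv => by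
        obtain ⟨y, e⟩ := (hk v).1 (congrArg Subtype.val hv)
        show ω ^ φ (toAdd v) = 1
        rw [← orderOf_dvd_iff_zpow_eq_one, hω, show toAdd v = _ from e, map_smul]
        exact dvd_mul_right _ _⟩
      have hθ : ∀ v, θ ⟨f (ofAdd v), _, rfl⟩ = ω ^ φ v := fun v =>
        MonoidHom.liftOfRightInverse_comp_apply f.rangeRestrict _ _ _ (ofAdd v)
      let _ := Cor.aY (Cor.cn hN)
      have e1 : ∀ (s : Γ) v, (s • θ) ⟨f (ofAdd v), _, rfl⟩ = ω ^ φ (A s⁻¹ v) := fun s v =>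
        (congrArg θ (Subtype.ext (hA s⁻¹ v).symm)).trans (hθ _)
      have e2 : IsPGroup 3 ((zpowers g).map (toPermHom Γ (Γ ⧸ stabilizer Γ θ))) := by
        rintro ⟨_, _, ⟨n, rfl⟩, rfl⟩
        have e3 : g ^ 3 ∈ (stabilizer Γ θ).normalCore := normal_le_normalCore (N := A.ker).2 (fun s hs => MonoidHom.ext (by
          rintro ⟨_, v, rfl⟩
          refine (e1 s v).trans ?_
          rw [map_inv, show A s = 1 from hs]
          exact (hθ v).symm)) h3
        rw [normalCore_eq_ker] at e3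
        refine ⟨1, Subtype.ext ?_⟩
        show toPermHom Γ _ (g ^ n) ^ 3 ^ 1 = 1
        rw [pow_one, map_zpow, ← zpow_natCast, ← zpow_mul, mul_comm, zpow_mul, zpow_natCast, ← map_pow, show toPermHom Γ _ (g ^ 3) = 1 from e3,
          one_zpow]
      obtain ⟨z, hz⟩ := e2.nonempty_fixed_point_of_prime_not_dvd_card _ (ho θ)
      obtain ⟨z, rfl⟩ := QuotientGroup.mk_surjective z
      have e3 : z⁻¹ * (g * z) ∈ stabilizer Γ θ :=
        QuotientGroup.eq.1 (show ((z : Γ) : Γ ⧸ stabilizer Γ θ) = (g * z : Γ) from (hz ⟨_, _, mem_zpowers g, rfl⟩).symm)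
      have e4 : ∀ v, (3 : ℤ) ∣ a (z⁻¹ * g * z⁻¹⁻¹) φ v - φ v := fun v => by
        have e5 := (e1 _ v).symm.trans ((DFunLike.congr_fun e3 _).trans (hθ v))
        rw [zpow_eq_zpow_iff_modEq, hω] at e5
        rw [inv_inv, mul_assoc]
        exact e5.symm.dvd
      refine ⟨z⁻¹, b.constr ℤ fun i => (a (z⁻¹ * g * z⁻¹⁻¹) φ (b i) - φ (b i)) / 3, b.ext fun i => ?_⟩
      rw [LinearMap.add_apply, LinearMap.smul_apply, Basis.constr_basis, smul_eq_mul, Int.mul_ediv_cancel' (e4 _)]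
      ring
  rw [← inv_eq_one, ← map_inv]
  exact LinearEquiv.ext fun v => b.ext_elem fun i => LinearMap.congr_fun (LinearEquiv.congr_fun h4 (b.coord i)) v

end Cfsg.Agent.BH.RO.A6
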