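import Cfsg.Agent.BH.RowO.Defs
import Cfsg.Agent.BH.Ht.Blk
import Cfsg.Agent.BH.Reg.A
import Cfsg.Agent.TO.Can2
import Cfsg.Agent.H164.HallGen
import Cfsg.Agent.H662.IrrTransport
import Cfsg.Agent.H710.Gow.Star

/-!
# BH (S4524), `RowO` : the over group (helper35)

* `bhn_quot`, `bhn_sub` : `BHn` passes to quotients by `l'`-groups and to normal subgroups of index prime to `l`;
* `cen0`, `cen1`, `cen2` : a cyclic extension of `l`-power index which fixes all the members of the block;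
* `boxDG`.
-/

set_option autoImplicit false
set_option linter.style.haveILetI false
set_option linter.unusedSectionVars false

namespace Cfsg.Agent.BH.RO

open Cfsg Subgroup Cfsg.Agent.TO Cfsg.Agent.KM.BK Cfsg.Agent.TID.Red Cfsg.Agent.Blocks Cfsg.Agent.Blocks.Basic Function
open Cfsg.Agent.H591.Reynolds (IsStab)

namespace Dg35

variable {l n : ℕ} [hl : Fact l.Prime] {M : Ideal AlgInt} {G X K : Type} [Group G] [Finite G] [Group X] [Finite X] [Group K] [Finite K]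

theorem exists_up (N : Subgroup G) (θ : IrrCharacter N) : ∃ χ : IrrCharacter G, Ov N.subtype (χ : G → ℂ) (θ : N → ℂ) := by
  letI := Fintype.ofFinite G
  letI := Fintype.ofFinite N
  obtain ⟨χ, h1, h2⟩ := H710.Gow.Star.exists_over N.subtype_injective θ.2
  exact ⟨⟨χ, h1⟩, (ov_iff _ _ _).2 h2⟩

theorem nu_eq {χ : IrrCharacter G} {ψ : IrrCharacter X} (h : (χ : G → ℂ) 1 = (ψ : X → ℂ) 1) : nu l χ = nu l ψ :=
  congrArg (fun z : ℂ => (⌊z.re⌋₊).factorization l) h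

theorem bhn_quot (hM : IsPModular l M) (φ : G →* X) (hφ : Surjective φ) (hU : ¬ l ∣ Nat.card φ.ker) {N : Subgroup G}
    (hN : φ.ker ≤ N) (h : BHn l n M N) : BHn l n M (N.map φ) := fun B D hB hD hE ha hc => by
  obtain ⟨C, P, hC, hP, rfl, -, h2⟩ := Ht.infl hM φ hφ hU hB hD
  have inj : ∀ r ∈ P, φ r = 1 → r = 1 := fun r hr e => by
    obtain ⟨k, hk⟩ := isPGroup_of_isDefectGroup hP ⟨r, hr⟩
    exact Ht.eq_one_of (congrArg Subtype.val (pow_card_eq_one' (x := (⟨r, e⟩ : φ.ker)))) (congrArg Subtype.val hk) hU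
  have e1 : (P ⊓ N).map φ = P.map φ ⊓ N.map φ := le_antisymm (le_inf (map_mono inf_le_left) (map_mono inf_le_right))
    fun x ⟨⟨a, ha, e⟩, ⟨c, hc, e'⟩⟩ => ⟨a, ⟨ha, (mul_mem_cancel_left (inv_mem hc)).1
      (hN (show φ (c⁻¹ * a) = 1 by rw [map_mul, map_inv, e, e', inv_mul_cancel]))⟩, e⟩
  have h3 : ∀ χ ∈ C, ∃ ψ ∈ B, nu l χ = nu l ψ := fun χ hχ =>
    let ⟨ψ, h4, h5⟩ := h2 χ hχ
    ⟨ψ, h4, nu_eq (by rw [h5, comp_apply, map_one])⟩
  rw [← e1] at ha hc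
  refine (h C P hC hP (fun χ hχ χ' hχ' => ?_) (fun x hx y hy => mul_inv_eq_one.1 (inj _ ?_ ?_)) ?_).map φ
  · obtain ⟨ψ, h4, h5⟩ := h3 χ hχ
    obtain ⟨ψ', h6, h7⟩ := h3 χ' hχ'
    rw [h5, h7]
    exact hE ψ h4 ψ' h6
  · exact mul_mem (mul_mem hx.1 hy.1) (inv_mem (mul_mem hy.1 hx.1))
  · rw [map_mul, map_inv, map_mul, map_mul, ha _ ⟨x, hx, rfl⟩ _ ⟨y, hy, rfl⟩, mul_inv_cancel]
  · exact (Nat.card_congr (equivMapOf φ (P ⊓ N) fun r hr => inj r hr.1).toEquiv).trans hc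

theorem bhn_sub (hM : IsPModular l M) {T N : Subgroup G} [hn : T.Normal] (hT : ¬ l ∣ T.index) (h : BHn l n M N) :
    BHn l n M (N.subgroupOf T) := fun B D hB hD hE ha hc => by
  have := Local.isPrime_of_isPModular hM
  letI := Fintype.ofFinite G
  letI := Fintype.ofFinite T
  obtain ⟨ξ, hξ⟩ := isPBlock_nonempty hB
  obtain ⟨χ, hχ⟩ := exists_up T ξ
  have cj : ∀ ψ ∈ cov (blockOf M (χ : G → ℂ)) T, ∃ g : G, H662.tr (MulAut.conjNormal g) ψ ∈ B := fun ψ ⟨χ', h1, h2⟩ => by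
    obtain ⟨g, θ, h3, h4⟩ := S0964.result l M hM T _ (isPBlock_blockOf χ) B hB χ (mem_blockOf_self χ) ξ hξ
      ((ov_subtype_iff T _ _).1 hχ) χ' h1 ψ ((ov_subtype_iff T _ _).1 h2)
    refine ⟨g, Set.mem_of_eq_of_mem (Subtype.ext (funext fun y => ?_)) h3⟩
    obtain ⟨y, rfl⟩ := (MulAut.conjNormal g : MulAut T).surjective y
    exact (H662.tr_apply_map _ ψ y).trans (h4 y)
  obtain ⟨E, hE'⟩ := H592.Defect.exists_defectGroup l hM (isPBlock_blockOf χ)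
  obtain ⟨c, h1, -, ⟨χ', h2, θ, h3, h4⟩, h5⟩ := S4671.result l M hM T _ (isPBlock_blockOf χ) E hE'
  obtain ⟨g, hg⟩ := cj θ ⟨χ', h2, (ov_subtype_iff T _ _).2 h4⟩
  have h6 := H662.isDefectGroup_trB (MulAut.conjNormal g) h5
  rw [isPBlock_eq_of_mem (H662.isPBlock_trB _ h1) hB ((H662.tr_mem_trB _ _ _).2 h3) hg] at h6
  obtain ⟨t, rfl⟩ := conj_defect hM hB h6 hD
  have h7 : E ≤ T := fun x hx =>
    let ⟨k, hk⟩ := isPGroup_of_isDefectGroup hE' ⟨x, hx⟩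
    RowE.mem_of_pow hl.out T hT (k := k) (Set.mem_of_eq_of_mem (congrArg Subtype.val hk) (one_mem T))
  have h8 := isDefectGroup_conj hE' (t * g)
  set D := (((E ⊓ T).subgroupOf T).map (MulAut.conjNormal g).toMonoidHom).map (MulAut.conj t).toMonoidHom with hD'
  have h9 : E.map (MulAut.conj (t * g)).toMonoidHom = D.map T.subtype := by
    rw [hD', map_map, map_map, show (T.subtype.comp (MulAut.conj t).toMonoidHom).comp (MulAut.conjNormal g).toMonoidHom =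
      (MulAut.conj (t * g)).toMonoidHom.comp T.subtype from MonoidHom.ext fun y => by simp [mul_assoc], ← map_map,
      subgroupOf_map_subtype, inf_assoc, inf_idem, inf_eq_left.2 h7]
  have h10 : D.map T.subtype ⊓ N = (D ⊓ N.subgroupOf T).map T.subtype :=
    le_antisymm (fun x ⟨⟨y, hy, e⟩, hx⟩ => ⟨y, ⟨hy, show T.subtype y ∈ N from e ▸ hx⟩, e⟩)
      fun x ⟨y, hy, e⟩ => ⟨⟨y, hy.1, e⟩, e ▸ hy.2⟩
  refine Ab.of_map T.subtype_injective (h _ _ (isPBlock_blockOf χ) (h9 ▸ h8) (eq_of_index hT fun ψ hψ ψ' hψ' => ?_)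
    (h10 ▸ ha.map _) (by rw [h10, card_map_of_injective T.subtype_injective, hc]))
  obtain ⟨a, ha⟩ := cj ψ hψ
  obtain ⟨a', ha'⟩ := cj ψ' hψ'
  rw [← nu_eq (H662.tr_apply_one (MulAut.conjNormal a) ψ), ← nu_eq (H662.tr_apply_one (MulAut.conjNormal a') ψ')]
  exact hE _ ha _ ha'

variable {b : Set (IrrCharacter K)} {Q : Subgroup K} {θ : K → ℂ} {α : MulAut K}

/-- an `l`-automorphism which acts on `Q` as an element of the inertia group -/
theorem cen_of_in (h : Can l M b Q θ) (hα : α ∈ LA Q θ) (hp : PElt l α) {t : K} (ht : t ∈ In Q θ)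
    (e : ∀ u ∈ Q, α u = t * u * t⁻¹) : ∀ u ∈ Q, α u = u := fun u hu => by
  obtain ⟨k, hk⟩ := hp
  have h1 : ∀ i : ℕ, ∀ u ∈ Q, (α ^ i) u = t ^ i * u * (t ^ i)⁻¹ := fun i => by
    induction i with
    | zero => simp
    | succ i ih =>
      intro u hu
      rw [pow_succ, MulAut.mul_apply, ih _ ((hα.1 u).2 hu), e u hu, pow_succ]
      group
  have := Cn.normal_Ce (D := Q) (θ := θ)
  have h2 := RowE.mem_of_pow hl.out ((Ce Q).subgroupOf (In Q θ)) h.idx (x := ⟨t, ht⟩) (k := k) fun v hv => by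
    have h3 := h1 (l ^ k) v hv
    rw [← hk, pow_orderOf_eq_one, hk] at h3
    exact (eq_mul_inv_iff_mul_eq.1 h3)
  exact (e u hu).trans (mul_inv_eq_iff_eq_mul.2 (h2 u hu).symm)

theorem cen0 {N : Subgroup G} [hN : N.Normal] {b : Set (IrrCharacter N)} {Q : Subgroup N} {θ : N → ℂ} (h : Can l M b Q θ)
    (km : KMa l) (hc : IsCyclic (G ⧸ N)) (hi : IsPGroup l (G ⧸ N)) (hB : BHn l (Nat.card Q) M N)
    (hf : ∀ g : G, ∀ χ ∈ b, ∀ y, (χ : N → ℂ) (MulAut.conjNormal g y) = (χ : N → ℂ) y) {g : G}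
    (hα : MulAut.conjNormal g ∈ LA Q θ) (hp : PElt l (MulAut.conjNormal g : MulAut N)) : ∀ u ∈ Q, MulAut.conjNormal g u = u := by
  have := h.prime
  have hM := h.hM
  letI := Fintype.ofFinite G
  letI := Fintype.ofFinite N
  have hst : IsStab b ⊤ := fun g => iff_of_true (mem_top g) fun ξ hξ ξ' e =>
    Set.mem_of_eq_of_mem (Subtype.ext (funext fun y => (e y).trans (hf g ξ hξ y))) hξ
  obtain ⟨ξ, hξ⟩ := isPBlock_nonempty h.hb
  obtain ⟨χ, hχ⟩ := exists_up N ξ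
  have hb := isPBlock_blockOf (M := M) χ
  have hcov : CovH N.subtype (blockOf M (χ : G → ℂ)) b := ⟨χ, mem_blockOf_self χ, ξ, hξ, hχ⟩
  obtain rfl := Ht.cov_eq hM hb h.hb hst hcov
  obtain ⟨D, hD⟩ := H592.Defect.exists_defectGroup l hM hb
  have ab : Ab (D ⊓ N) := fun x hx y hy => congrArg Subtype.val
    (ab_of_defect hM h.hb h.hD h.comm (defect_cov hM hb hD h.hb) ⟨x, hx.2⟩ hx ⟨y, hy.2⟩ hy)
  obtain ⟨⟨θ', r, h1⟩, -⟩ := boxRT hM G N _ D hb hD h.hb hst ab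
  obtain ⟨x, h2, h3⟩ := h.conj r.can
  have h4 : ∀ ψ ∈ blockOf M (χ : G → ℂ), ∃ φ ∈ cov (blockOf M (χ : G → ℂ)) N, nu l ψ = nu l φ := fun ψ hψ => by
    obtain ⟨φ, h5⟩ := exists_ov N.subtype ψ.2
    have h6 := KM.A.deg_cyc N hc h5 ⊤ fun g => iff_of_true (mem_top g) (hf g φ ⟨ψ, hψ, h5⟩)
    rw [index_top, one_mul] at h6
    exact ⟨φ, ⟨ψ, hψ, h5⟩, congrArg (Nat.factorization · l) h6⟩
  have h5 : Ab D := by
    refine hB _ D hb hD (fun ψ hψ ψ' hψ' => ?_) ab ?_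
    · obtain ⟨φ, h6, h7⟩ := h4 ψ hψ
      obtain ⟨φ', h8, h9⟩ := h4 ψ' hψ'
      rw [h7, h9]
      exact km.pp hM N _ Q h.hb h.hD h.comm φ h6 φ' h8
    · rw [← Nat.card_congr (subgroupOfEquivOfLe r.le).toEquiv]
      exact Nat.card_congr ((MulAut.conj x).toEquiv.subtypeEquiv fun y => (h2 y).symm)
  have h6 := (S4640.result l M hM N (IsPGroup.iff_card.1 hi) _ h.hb (fun a => ⟨by rw [normalizer_eq_top]; trivial, fun φ hφ =>
    ⟨φ, hφ, fun k k' e => by rw [← hf a φ hφ k]; exact congrArg _ (Subtype.ext e)⟩⟩) _ hb (covH_iff.1 hcov) D hD h5).1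
  obtain ⟨m, hm, d, hd, e⟩ := mem_sup_of_normal_left.1 (h6.ge (mem_top ((x : G)⁻¹ * g * x)))
  have h7 := (Reg.mem_In_iff r.le r.zero d).1 (h1 hd)
  have h8 : ∀ y : N, x * (x⁻¹ * y * x) * x⁻¹ = y := fun y => by group
  have h9 : MulAut.conj x * MulAut.conjNormal d * (MulAut.conj x)⁻¹ ∈ LA Q θ :=
    ⟨fun y => (h2 _).trans ((h7.1 _).trans ((h2 _).symm.trans (iff_of_eq (congrArg (· ∈ Q) (h8 y))))),
      fun y => (h3 _).trans ((h7.2 _).trans ((h3 _).symm.trans (congrArg θ (h8 y))))⟩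
  have h10 : MulAut.conjNormal g = MulAut.conj (x * ⟨m, hm⟩ * x⁻¹) * (MulAut.conj x * MulAut.conjNormal d * (MulAut.conj x)⁻¹) := by
    ext y
    rw [show g = x * (m * d) * (x : G)⁻¹ by rw [e]; group]
    simp [mul_assoc]
  refine cen_of_in h hα hp (t := x * ⟨m, hm⟩ * x⁻¹) ((mul_mem_cancel_right h9).1 (h10 ▸ hα)) fun u hu => ?_
  rw [h10, MulAut.mul_apply, MulAut.conj_apply, MulAut.mul_apply, MulAut.mul_apply, MulAut.conj_inv_apply, MulAut.conj_apply,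
    show MulAut.conjNormal d (x⁻¹ * u * x) = x⁻¹ * u * x from Subtype.ext
      (mul_inv_eq_iff_eq_mul.2 (h5 d hd _ ((h2 _).1 ((h8 u).symm ▸ hu)).1)), h8]

theorem cen1 {N : Subgroup G} [hN : N.Normal] (e : K ≃* N) (h : Can l M b Q θ) (km : KMa l) (hc : IsCyclic (G ⧸ N))
    (hi : IsPGroup l (G ⧸ N)) (hB : BHn l (Nat.card Q) M N)
    (hf : ∀ g : G, ∃ β : MulAut K, (∀ k, (e (β k) : G) = g * e k * g⁻¹) ∧ ∀ χ ∈ Fn b, β ∈ FixF χ) (hα : α ∈ LA Q θ) (hp : PElt l α)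
    {g : G} (hg : ∀ k, (e (α k) : G) = g * e k * g⁻¹) : ∀ u ∈ Q, α u = u := fun u hu => by
  have h1 : ∀ k, MulAut.conjNormal g (e k) = e (α k) := fun k => Subtype.ext (hg k).symm
  refine e.injective ((h1 u).symm.trans (cen0 (h.map e) km hc hi (by rwa [card_map_of_injective e.injective]) ?_ ⟨fun y => ?_, fun y => ?_⟩
    ?_ _ ⟨u, hu, rfl⟩))
  · rintro a _ ⟨χ, hχ, rfl⟩ y
    obtain ⟨y, rfl⟩ := e.surjective y
    obtain ⟨β, h2, h3⟩ := hf a
    rw [show MulAut.conjNormal a (e y) = e (β y) from Subtype.ext (h2 y).symm, H649.irrMap_apply', H649.irrMap_apply']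
    exact (h3 _ ⟨χ, hχ, rfl⟩).2 y
  · obtain ⟨y, rfl⟩ := e.surjective y
    rw [h1, Cn.iff_of_map_eq rfl, Cn.iff_of_map_eq rfl]
    exact hα.1 y
  · obtain ⟨y, rfl⟩ := e.surjective y
    rw [h1]
    simpa using hα.2 y
  · rw [show MulAut.conjNormal g = MulAut.congr e α from MulEquiv.ext fun y => by
      obtain ⟨y, rfl⟩ := e.surjective y
      rw [h1]
      simp]
    exact hp.imp fun _ e' => (MulEquiv.orderOf_eq _ α).trans e'

theorem exists_eqv {Y : Type} [Group Y] {π : G →* K} {f : G →* Y} (hπ : Surjective π) (hf : Surjective f) (h : π.ker = f.ker) :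
    ∃ e : K ≃* Y, ∀ y, e (π y) = f y :=
  ⟨(QuotientGroup.quotientKerEquivOfSurjective π hπ).symm.trans ((QuotientGroup.quotientMulEquivOfEq h).trans
    (QuotientGroup.quotientKerEquivOfSurjective f hf)), fun y => by
    rw [MulEquiv.trans_apply, (MulEquiv.symm_apply_eq _).2 (show π y = QuotientGroup.quotientKerEquivOfSurjective π hπ y from rfl)]
    rfl⟩

theorem cen2 {N : Subgroup G} [hN : N.Normal] {π : N →* K} {act : G →* MulAut K} (o : Ovr l N π act) (h : Can l M b Q θ) (km : KMa l)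
    (hi : IsPGroup l (G ⧸ N)) (hB : BHn l (Nat.card Q) M N) (hf : ∀ g, ∀ χ ∈ Fn b, act g ∈ FixF χ) {g : G} (hα : act g ∈ LA Q θ)
    (hp : PElt l (act g)) : ∀ u ∈ Q, act g u = u := by
  have hU : (π.ker.map N.subtype).Normal := ⟨by
    rintro _ ⟨y, hy, rfl⟩ a
    exact ⟨⟨_, hN.conj_mem y y.2 a⟩, (o.act a y _ rfl).trans (by rw [show π y = 1 from hy, map_one]), rfl⟩⟩
  let φ := QuotientGroup.mk' (π.ker.map N.subtype)
  have hφ : Surjective φ := QuotientGroup.mk'_surjective _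
  have hk : φ.ker = π.ker.map N.subtype := QuotientGroup.ker_mk' _
  have := hN.map φ hφ
  obtain ⟨e, he⟩ := exists_eqv o.surj (φ.subgroupMap_surjective N) (by
    ext y
    refine ⟨fun hy => Subtype.ext (hk.ge ⟨y, hy, rfl⟩), fun hy => ?_⟩
    obtain ⟨z, hz, e⟩ := hk.le (congrArg Subtype.val hy)
    exact Subtype.ext e ▸ hz)
  have h1 : ∀ a k, (e (act a k) : G ⧸ π.ker.map N.subtype) = φ a * e k * (φ a)⁻¹ := fun a k => by
    obtain ⟨y, rfl⟩ := o.surj k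
    rw [← o.act a y ⟨_, hN.conj_mem y y.2 a⟩ rfl, he, he, ← map_inv]
    rfl
  have h2 : Surjective (QuotientGroup.map N (N.map φ) φ (le_comap_map φ N)) := fun y => by
    obtain ⟨y, rfl⟩ := QuotientGroup.mk_surjective y
    obtain ⟨y, rfl⟩ := hφ y
    exact ⟨y, rfl⟩
  have := o.cyc
  refine cen1 e h km (isCyclic_of_surjective _ h2) (hi.of_surjective _ h2) (bhn_quot h.hM φ hφ ?_ (hk.le.trans (map_subtype_le _)) hB)
    (fun a => ?_) hα hp (h1 g)
  · rw [hk, card_map_of_injective N.subtype_injective]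
    exact o.ker
  · obtain ⟨a, rfl⟩ := hφ a
    exact ⟨act a, h1 a, hf a⟩

theorem pg_zp {x : G} {i : ℕ} (h : x ^ l ^ i = 1) : IsPGroup l (zpowers x) := by
  rintro ⟨_, k, rfl⟩
  exact ⟨i, Subtype.ext (by rw [coe_pow, ← zpow_natCast, ← zpow_mul, mul_comm, zpow_mul, zpow_natCast, h, one_zpow]; rfl)⟩

theorem mem_zp [IsCyclic G] (h : ¬ l ^ 2 ∣ Nat.card G) {x y : G} {i j : ℕ} (hx : x ^ l ^ i = 1) (h1 : x ≠ 1) (hy : y ^ l ^ j = 1) :
    y ∈ zpowers x := by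
  obtain ⟨P⟩ : Nonempty (Sylow l G) := inferInstance
  have h2 := (pg_zp hx).le_sylow_of_normal P (mem_zpowers x)
  have h3 := (pg_zp hy).le_sylow_of_normal P (mem_zpowers y)
  obtain ⟨k, hk⟩ := IsPGroup.iff_card.1 P.isPGroup'
  have h4 : k = 1 := by
    have h5 : ¬ 2 ≤ k := fun e => h ((pow_dvd_pow l e).trans (hk ▸ card_subgroup_dvd_card _))
    have h6 : k ≠ 0 := by
      rintro rfl
      exact h1 (mem_bot.1 (card_eq_one.1 hk ▸ h2))
    omega
  obtain ⟨a, ha⟩ := mem_zpowers_of_prime_card (hk.trans (by rw [h4, pow_one])) (g := ⟨x, h2⟩) (g' := ⟨y, h3⟩)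
    fun e => h1 (congrArg Subtype.val e)
  exact ⟨a, congrArg Subtype.val ha⟩

end Dg35

open Dg35 in
/-- **[DG]** -/
theorem boxDG : BoxDG := by
  intro l hl K S H _ _ _ _ _ M b Q θ σ A A₀ N hN π act hq ha o hB hA h2 α hα hp ⟨g, hg⟩
  by_cases hi : α ∈ Inn K
  · exact ha.c0 α ⟨ha.inn hi, hα.2⟩ hp
  have := o.cyc
  have hn : ∀ y : N, act y = MulAut.conj (π y) := fun y => MulEquiv.ext fun k => by
    obtain ⟨z, rfl⟩ := o.surj k
    rw [← o.act y z (y * z * y⁻¹) rfl, map_mul, map_mul, map_inv]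
    rfl
  let φ := ((QuotientGroup.mk' (Inn K)).comp act).rangeRestrict
  have h1 : ∀ x, φ x = 1 ↔ act x ∈ Inn K := fun x => Subtype.ext_iff.trans (QuotientGroup.eq_one_iff _)
  have h3 : N ≤ φ.ker := fun y hy => (h1 y).2 ⟨_, (hn ⟨y, hy⟩).symm⟩
  have := isCyclic_of_surjective (QuotientGroup.lift N φ h3) fun y => by
    obtain ⟨y, rfl⟩ := MonoidHom.rangeRestrict_surjective _ y
    exact ⟨y, rfl⟩
  rw [← QuotientGroup.ker_mk' (Inn K), relIndex_ker, ← MonoidHom.range_comp] at h2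
  obtain ⟨k, hk⟩ := id hp
  have h4 : α ^ l ^ k = 1 := hk ▸ pow_orderOf_eq_one α
  have hf : ∀ x : H, ∀ j : ℕ, x ^ l ^ j ∈ N → ∀ χ ∈ Fn b, act x ∈ FixF χ := fun x j hx χ hχ => by
    obtain ⟨a, h5⟩ := H164.exists_conj_mem_of_isPGroup hl.out (ha.orb χ hχ) (pg_zp (x := (⟨α, hα.1⟩ : A)) (i := k) (Subtype.ext h4))
    have h6 : (a : MulAut K)⁻¹ * α * a ∈ FixF χ := h5 _ (mem_zpowers _)
    obtain ⟨y, hy⟩ := hA _ (inv_mem a.2) α ⟨g, hg⟩
    obtain ⟨i, h7⟩ := mem_zp h2 (x := φ y) (y := φ x) (i := k) (j := j) (by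
      rw [← map_pow, h1, map_pow, hy, conj_pow, h4, mul_one, mul_inv_cancel]
      exact one_mem _) (fun e => hi (Set.mem_of_eq_of_mem (by group) ((innNormal K).conj_mem _ (hy ▸ (h1 y).1 e) a))) (by
      rw [← map_pow]
      exact h3 hx)
    have h8 := (h1 ((y ^ i)⁻¹ * x)).1 (by rw [map_mul, map_inv, map_zpow, show φ y ^ i = φ x from h7, inv_mul_cancel])
    rw [map_mul, map_inv, map_zpow, hy, inv_inv] at h8
    exact (mul_mem_cancel_left (inv_mem (zpow_mem h6 i))).1 (inn_le_fixF hχ h8)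
  obtain ⟨P⟩ : Nonempty (Sylow l (H ⧸ N)) := inferInstance
  let T := (P : Subgroup (H ⧸ N)).comap (QuotientGroup.mk' N)
  have hT : N ≤ T := (QuotientGroup.ker_mk' N).ge.trans (ker_le_comap _ _)
  have h5 : ∀ x : T, ∃ j, (x : H) ^ l ^ j ∈ N := fun x =>
    (P.isPGroup' ⟨_, x.2⟩).imp fun j e => (QuotientGroup.eq_one_iff _).1 (congrArg Subtype.val e)
  obtain ⟨x, hx⟩ := PPart.exists_isPPart l g
  have h6 : act x = α := by
    obtain ⟨y, rfl, h7, ⟨i, h8⟩, h9⟩ := hx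
    refine (PPart.isPPart_unique (PPart.isPPart_of_isPGroup hp) ⟨act y, (map_mul act x y).symm.trans hg, h7.map act, ?_,
      fun e => h9 (e.trans (orderOf_map_dvd act y))⟩).symm
    exact ((Nat.dvd_prime_pow hl.out).1 (h8 ▸ orderOf_map_dvd act x)).imp fun _ e => e.2
  have h7 : x ∈ T := by
    obtain ⟨-, -, -, ⟨i, h8⟩, -⟩ := hx
    exact (pg_zp (x := QuotientGroup.mk' N x) (i := i) (by rw [← map_pow, ← h8, pow_orderOf_eq_one, map_one])).le_sylow_of_normal P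
      (mem_zpowers _)
  subst h6
  refine cen2 (N := N.subgroupOf T) (π := π.comp (subgroupOfEquivOfLe hT).toMonoidHom) (act := act.comp T.subtype)
    ⟨o.surj.comp (subgroupOfEquivOfLe hT).surjective, ?_, isCyclic_of_injective (QuotientGroup.map _ N T.subtype le_rfl) ?_,
      fun a y y' e => o.act a _ _ (congrArg Subtype.val e)⟩ hq.can hq.km (fun y => ?_) (bhn_sub hq.can.hM ?_ hB)
    (fun a => (h5 a).elim (hf a)) (g := ⟨x, h7⟩) hα.2 hp
  · exact fun e => o.ker (e.trans (Nat.card_congr ((subgroupOfEquivOfLe hT).toEquiv.subtypeEquiv fun _ => Iff.rfl)).dvd)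
  · rw [injective_iff_map_eq_one]
    intro y hy
    obtain ⟨y, rfl⟩ := QuotientGroup.mk_surjective y
    exact (QuotientGroup.eq_one_iff y).2 ((QuotientGroup.eq_one_iff (y : H)).1 hy)
  · obtain ⟨y, rfl⟩ := QuotientGroup.mk_surjective y
    exact (h5 y).imp fun j e => (QuotientGroup.eq_one_iff (y ^ l ^ j)).2 e
  · rw [index_comap_of_surjective _ (QuotientGroup.mk'_surjective N)]
    exact P.not_dvd_index

end Cfsg.Agent.BH.RO
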