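import Cfsg.Agent.BH.RowO.Defs
import Cfsg.Agent.TO.TF.Grp
import Cfsg.Agent.TO.G2D.G2
import Cfsg.Agent.TO.G2D.D4
import Cfsg.Agent.S1067
import Cfsg.Agent.S1068
import Cfsg.Agent.S2114

/-!
# BH, `RowO`: no block with the defect group `3²` for `G₂(q)`, `³D₄(q)`, `²F₄(q)` (helper90)
-/

set_option autoImplicit false
set_option linter.unusedSectionVars false

namespace Cfsg.Agent.BH.RO

open Cfsg Cfsg.Agent.TO

namespace N9b

section Blk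

variable {K S : Type} [Group K] [Finite K] [Group S] {M : Ideal AlgInt} {b : Set (IrrCharacter K)} {Q : Subgroup K}
  {θ : K → ℂ} {σ : K →* S} {A : Subgroup (MulAut S)}

/-- the block is not principal -/
theorem not_prin (H : N9 M b Q θ σ A) (h : 27 ∣ Nat.card K) : (fun _ => (1 : ℂ)) ∉ Fn b := by
  have := Fact.mk Nat.prime_three
  rintro ⟨χ, h1, h2⟩
  have h3 := S0908.result 3 M H.q.can.hM b H.q.hb Q H.q.can.hD
  have h4 : sInf ((fun χ : IrrCharacter K => (charDegree (χ : K → ℂ)).factorization 3) '' b) = 0 :=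
    Nat.eq_zero_of_le_zero (Nat.sInf_le ⟨χ, h1, by simp [h2, charDegree]⟩)
  rw [H.card, blockDefect, h4, Nat.sub_zero] at h3
  have h5 := Nat.pow_le_pow_right (show 0 < 3 by norm_num)
    ((Nat.prime_three.pow_dvd_iff_le_factorization Nat.card_pos.ne').1 (show 3 ^ 3 ∣ _ from h))
  omega

/-- the centraliser is a torus of odd order -/
theorem false_of_inv (H : N9 M b Q θ σ A) (h27 : 27 ∣ Nat.card K) (h : ∀ t : K, (∀ d ∈ Q, t * d * t⁻¹ = d⁻¹) →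
    ∀ c ∈ Ce Q, t * c * t⁻¹ = c⁻¹ ∧ ∃ m, Odd m ∧ c ^ m = 1) : False := by
  have := Fact.mk Nat.prime_three
  obtain ⟨t, ht, h1⟩ := H.neg
  refine not_prin H h27 ((boxCAN1 K 3 M b Q θ H.q.can).prin (H.q.can.eq_one_of_kr fun c hc _ => ?_))
  obtain ⟨h2, m, hm, h3⟩ := h t h1 c hc
  refine H.q.can.kr_of_inv ht hc (fun a ha => ?_) h2 hm (h3 ▸ one_mem _)
  have h4 := (h t h1 _ (mul_mem ha hc)).1
  rw [← conj_mul, h2, (h t h1 a ha).1, ← mul_inv_rev, inv_inj] at h4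
  exact h4.symm

theorem ab (H : N9 M b Q θ σ A) : Q.map σ ≤ Ce (Q.map σ) := by
  rintro _ ⟨x, hx, rfl⟩ _ ⟨y, hy, rfl⟩
  rw [← map_mul, ← map_mul, H.q.can.ab hx y hy]

theorem inj {X : Type} [Group X] (H : N9 M b Q θ σ A) (i : S ≃* X) (hm : HasCyclicSchurMultiplier X 1) :
    Function.Injective σ := fun _ _ e =>
  H95.StemCover.injective_of_trivial hm H.q.qs.1.commutator_eq_top (i.toMonoidHom.comp σ) (i.surjective.comp H.q.surj)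
    (fun _ hz => H.q.ker.le (i.injective (hz.trans (map_one i).symm))) (congrArg i e)

theorem dvd_card (H : N9 M b Q θ σ A) {n : ℕ} (h : n ∣ Nat.card S) : n ∣ Nat.card K :=
  h.trans (Subgroup.card_dvd_of_surjective σ H.q.surj)

end Blk

section D4

open Cfsg.Lie Cfsg.Agent.DL Matrix Cfsg.Agent.BHZ.Nil Cfsg.Agent.KZ.DatX Cfsg.Agent.Nodes Cfsg.Agent.KZ.ClD
  Cfsg.Agent.ChevalleyStructure.CoxeterGeomTypes Cfsg.Agent.TO.G2D

variable {G : Type} [Group G] [Finite G] {k : Type} [Field k] {D : Subgroup G} {A : Subgroup (MulAut G)} {ζ : kˣ}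
  {z x : G} {r : ℕ} [Fact r.Prime] [CharP k r] [Fact (Nat.Prime 3)] {N : Matrix (Fin 4) (Fin 4) ℤ}

theorem tor3 (f : Fm (Fin 4) k G 3 (X.Rt chevD4 4) coD (X.WM chevD4 4) (AdmF r) N) (hr : 3 ≠ r) (hζ : IsPrimitiveRoot ζ 3)
    (P : Pure 3 G A D) (L : Pl D z x) (hz : z ∈ f.T) (hx : x ∈ f.T) {m : M4} (hm : m ∈ LW) {s : ℤ} (hs : s ∈ [1, -1])
    {n : ℤ} (hn : 3 ∣ n - 1) (hN : N = n • toM (sm4 s (mm m p4)))
    (hk : ∀ a, X.Rt chevD4 4 a → ¬ (chr a (f.c z) = 1 ∧ chr a (f.c x) = 1)) (hD : D ≤ Ce D) {t : G}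
    (h1 : ∀ d ∈ D, t * d * t⁻¹ = d⁻¹) {y : G} (hy : y ∈ Ce D) : t * y * t⁻¹ = y⁻¹ ∧ ∃ m, Odd m ∧ y ^ m = 1 := by
  have vec : ∀ g ∈ f.T, g ^ 3 = 1 → ∃ w ∈ A3, f.c g = coch (toV w) ζ ∧ e3 (mv (sm4 s (mm m p4)) w) w = true :=
    fun g hg h => by
      obtain ⟨w, h1, h2⟩ := exists_vec hζ (f.c_p hg h)
      obtain ⟨w, h3, rfl⟩ := exists_A3 h1
      have h4 := f.fix g hg
      rw [h2, mon_coch, hN, smul_mulVec, coch_n hζ hn, ← toV_mv, e3_coch hζ] at h4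
      exact ⟨w, h3, h2, h4⟩
  obtain ⟨v, v1, v2, v3⟩ := vec z hz (pow_p P L.hz)
  obtain ⟨u, u1, u2, u3⟩ := vec x hx (pow_p P L.hx)
  have qc : ∀ g ∈ D, g ∈ f.T → g ≠ 1 → ∀ w, f.c g = coch w ζ → 3 ∣ qD w - qD (toV v) := fun g h1 h2 h3 w e =>
    qD_conj f hr hζ P (self_le_KK D L.hz) (self_le_KK D h1) L.ne h3 (v2 ▸ f.cj z hz) (e ▸ f.cj g h2)
  have q1 := qc x L.hx hx (fun e => L.nm (e ▸ one_mem _)) _ u2
  have q2 := qc (z * x) (mul_mem L.hz L.hx) (mul_mem hz hx)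
    (fun e => L.nm (eq_inv_of_mul_eq_one_right e ▸ inv_mem (Subgroup.mem_zpowers z))) (toV v + toV u)
    (by rw [f.mul _ hz _ hx, v2, u2, coch_add])
  have q3 := qc (z * x⁻¹) (mul_mem L.hz (inv_mem L.hx)) (mul_mem hz (inv_mem hx))
    (fun e => L.nm (mul_inv_eq_one.1 e ▸ Subgroup.mem_zpowers z)) (toV v + -toV u)
    (by rw [f.mul _ hz _ (inv_mem hx), f.c_inv hx, v2, u2, coch_add, coch_neg])
  have q4 := qD_par (toV v) (toV u)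
  have s1 : 3 ∣ qD (toV v) := by omega
  have s2 : 3 ∣ qD (toV u) := by omega
  have s3 : 3 ∣ qD (toV (v + u)) := by rw [toV_add]; omega
  have cz : ∀ (w : V4) (i : ℤ), coch (toV w) ζ ^ i = coch (toV (sc i w)) ζ := fun w i => by
    rw [toV_sc, coch_zsmul, map_zpow]
  have nz : e3 v 0 = false := Bool.eq_false_iff.2 fun e => L.ne (f.eq_one hz (by
    rw [v2, (e3_coch hζ).2 e, toV_zero]
    exact funext fun _ => zpow_zero _))
  have ind : ∀ i ∈ [(0 : ℤ), 1, 2], e3 (sc i v) u = false := fun i _ => Bool.eq_false_iff.2 fun e =>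
    L.nm ⟨i, f.inj _ (zpow_mem hz i) _ hx (by rw [f.c_zpow hz, v2, u2, cz, (e3_coch hζ).2 e])⟩
  have fw : ∀ W, X.WM chevD4 4 W → ∀ t ∈ [(1 : ℤ), -1], mon W (f.c z) = f.c z ^ t → mon W (f.c x) = f.c x ^ t →
      W = t • 1 := fun W hW t ht h1 h2 => by
    obtain ⟨w, hw, rfl⟩ := wm_D hW
    rw [v2, cz, mon_coch, ← toV_mv, e3_coch hζ] at h1
    rw [u2, cz, mon_coch, ← toV_mv, e3_coch hζ] at h2
    rw [ckD3 w hw t ht v v1 s1 h1 nz u u1 s2 h2 s3 ind, toM_sm4, toM_m1]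
  have h8 := ckD4 m hm s hs v v1 s1 v3 nz u u1 s2 u3 s3 ind
  generalize sm4 s (mm m p4) = g at hN vec v3 u3 h8
  have nr : ∀ Z : Set G, Z ⊆ f.T → z ∈ Z → x ∈ Z → _ := fun Z h1 h2 h3 => f.nrm Z h1 fun a ha =>
    (not_and_or.1 (hk a ha)).elim (fun h => ⟨z, h2, h⟩) fun h => ⟨x, h3, h⟩
  have cT : ∀ y ∈ Ce D, y ∈ f.T := fun y hy => by
    have h0 := Subgroup.mem_centralizer_iff.1 hy
    obtain ⟨W, h1, -, h2, h3, -⟩ := nr {z, x} (Set.pair_subset hz hx) (.inl rfl) (.inr rfl) y (by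
      rintro _ (rfl | rfl)
      · exact .inl (by rw [mul_assoc, h0 _ L.hz, inv_mul_cancel_left])
      · exact .inr (by rw [mul_assoc, h0 _ L.hx, inv_mul_cancel_left]; rfl))
    refine h3 ((fw W h1 1 (by simp) ?_ ?_).trans (one_smul _ _))
    · rw [← (h2 z hz).2, ← h0 _ L.hz, mul_inv_cancel_right, zpow_one]
    · rw [← (h2 x hx).2, ← h0 _ L.hx, mul_inv_cancel_right, zpow_one]
  obtain ⟨W, h2, -, h3, -⟩ := nr D (fun d hd => cT d (hD hd)) L.hz L.hx t fun d hd => by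
    have h2 := h1 _ (inv_mem hd)
    rw [inv_inv] at h2
    rw [← h2, show t⁻¹ * (t * d⁻¹ * t⁻¹) * t = d⁻¹ by group]
    exact inv_mem hd
  obtain rfl := fw W h2 (-1) (by simp) (by rw [← (h3 z hz).2, h1 z L.hz, f.c_inv hz, _root_.zpow_neg_one])
    (by rw [← (h3 x hx).2, h1 x L.hx, f.c_inv hx, _root_.zpow_neg_one])
  have h4 := cT y hy
  refine ⟨f.inj _ (h3 y h4).1 _ (inv_mem h4) ?_, (n * n + n + 1).natAbs, Int.natAbs_odd.2 ?_, ?_⟩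
  · rw [(h3 y h4).2, f.c_inv h4, mon_zsmul, mon_one, _root_.zpow_neg_one]
  · rw [← mul_add_one]
    exact (Int.even_mul_succ_self n).add_one
  · have h5 : N * N + n • N + (n * n) • 1 = 0 := by
      rw [hN, smul_mul_smul_comm, smul_smul, ← smul_add, ← smul_add, ← toM_mm, ← toM_m1, ← toM_add, ← toM_add,
        (ckD5 g h8).1, toM_zero, smul_zero]
    have h6 := congrArg (mon · (f.c y)) h5
    simp only [mon_add, mon_mul, mon_zsmul, mon_one, f.fix y h4] at h6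
    exact pow_natAbs_eq_one.2 (f.eq_one (zpow_mem h4 _) (by
      rw [f.c_zpow h4, _root_.zpow_add, _root_.zpow_add, zpow_one, mul_comm, mul_comm _ (f.c y ^ n), ← mul_assoc, h6]
      exact funext fun i => chr_zero (f.c y)))

theorem tor_D4 {e : ℕ} (P : Pure 3 G A D) (s : Has hpD4 r ((r : ℤ) ^ e • P4) (AdmF r) 1 G) (hr : 3 ≠ r) (hD : D ≤ Ce D)
    {t : G} (h1 : ∀ d ∈ D, t * d * t⁻¹ = d⁻¹) {y : G} (hy : y ∈ Ce D) : t * y * t⁻¹ = y⁻¹ ∧ ∃ m, Odd m ∧ y ^ m = 1 := by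
  obtain ⟨k, _, _, _, X, ⟨s⟩⟩ := s
  obtain ⟨z, x, L⟩ := exists_pl P
  obtain ⟨ζ, hζ⟩ := exists_zeta (k := k) hr
  obtain ⟨B₀, h0, f, hz, hx⟩ := exists_fm s Nat.prime_three (co := coD) (fun W h1 h2 h3 => by
      obtain ⟨m, hm, rfl⟩ := wm_D h1
      obtain ⟨a, ha, b, hb, e⟩ := (ckD1 m hm).2.1 (fun e => h2 (e ▸ toM_m1))
        (toM_inj (by rw [toM_mm, toM_mm, toM_m1, ← pow_two, ← pow_succ', h3]))
      exact ⟨_, _, rt_D.2 ⟨a, ha, rfl⟩, rt_D.2 ⟨b, hb, rfl⟩, by rw [← toV_vm, e, toV_add]⟩) (fun W h => by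
      obtain ⟨m, hm, rfl⟩ := wm_D h
      exact (ckD1 m hm).2.2) hr (pow_p P L.hz) (pow_p P L.hx) L.cm
  obtain ⟨m, hm, rfl⟩ := wm_D h0
  have hq : ¬ ((3 : ℕ) : ℤ) ∣ (r : ℤ) ^ e := fun h => hr ((Nat.prime_dvd_prime_iff_eq Nat.prime_three Fact.out).1
    (Nat.prime_three.dvd_of_dvd_pow (n := e) (by exact_mod_cast h)))
  obtain ⟨-, hk⟩ := three_of hm hq f P L hz hx
  obtain ⟨c, hc, h2, h3⟩ : ∃ t ∈ [(1 : ℤ), -1], 3 ∣ (r : ℤ) ^ e * t - 1 ∧ t * t = 1 := by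
    by_cases h : 3 ∣ (r : ℤ) ^ e - 1
    · exact ⟨1, by simp, by rwa [mul_one], rfl⟩
    · exact ⟨-1, by simp, by omega, rfl⟩
  exact tor3 f hr hζ P L hz hx hm hc h2
    (by rw [toM_sm4, smul_smul, mul_assoc, h3, mul_one, toM_mm, ← G2D.P4_eq, mul_smul_comm]) hk hD h1 hy

omit [Fact (Nat.Prime 3)] in
theorem false_G2 {e : ℕ} (P : Pure 3 G A D) (s : Has hpG2 r ((r : ℤ) ^ e • 1) (AdmF r) 1 G) (hr : 3 ≠ r) : False := by
  have := Fact.mk Nat.prime_three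
  obtain ⟨k, _, _, _, X, ⟨s⟩⟩ := s
  obtain ⟨z, x, L⟩ := exists_pl P
  obtain ⟨ζ, hζ⟩ := exists_zeta (k := k) hr
  obtain ⟨B₀, -, f, hz, hx⟩ := exists_fm s Nat.prime_three (co := coG) (fun W h1 h2 h3 => by
      obtain ⟨a, ha, b, hb, e⟩ := (ckG1 W (wm_G h1)).2.1 h2 (cube_of P.odd h3 (ckG1 W (wm_G h1)).1)
      exact ⟨a, b, rt_G.2 ha, rt_G.2 hb, e⟩) (fun W h => (ckG1 W (wm_G h)).2.2.1) hr (pow_p P L.hz) (pow_p P L.hx) L.cm
  exact false_ne5 (r := r) f (fun _ ⟨j, h⟩ => h ▸ pm_smul _ j) hζ P L hz hx (by decide)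

end D4

theorem dvd_D4 {q : ℕ} (h : ¬ 3 ∣ q) : 27 ∣ q ^ 12 * (q ^ 2 - 1) * (q ^ 6 - 1) * (q ^ 8 + q ^ 4 + 1) := by
  have h1 : q % 9 = 1 ∨ q % 9 = 2 ∨ q % 9 = 4 ∨ q % 9 = 5 ∨ q % 9 = 7 ∨ q % 9 = 8 := by omega
  have h2 : q ^ 6 % 9 = 1 ∧ q ^ 2 % 3 = 1 := by
    rw [Nat.pow_mod q 6, ← Nat.mod_mod_of_dvd (q ^ 2) (show 3 ∣ 9 by norm_num), Nat.pow_mod q 2]
    rcases h1 with h1 | h1 | h1 | h1 | h1 | h1 <;> rw [h1] <;> norm_num
  exact (mul_dvd_mul (Dvd.dvd.mul_left (show 3 ∣ q ^ 2 - 1 by omega) _) (show 9 ∣ q ^ 6 - 1 by omega)).mul_right _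

theorem dvd_F4 (m : ℕ) : 27 ∣ (2 ^ (2 * m + 1)) ^ 12 * (2 ^ (2 * m + 1) - 1) * ((2 ^ (2 * m + 1)) ^ 3 + 1) *
    ((2 ^ (2 * m + 1)) ^ 4 - 1) * ((2 ^ (2 * m + 1)) ^ 6 + 1) := by
  have h0 : 2 ^ (2 * m + 1) % 3 = 2 := by rw [pow_succ, pow_mul, Nat.mul_mod, Nat.pow_mod]; norm_num
  generalize 2 ^ (2 * m + 1) = q at h0
  have h1 : q % 9 = 2 ∨ q % 9 = 5 ∨ q % 9 = 8 := by omega
  have h2 : q ^ 3 % 9 = 8 ∧ q ^ 4 % 3 = 1 := by
    rw [Nat.pow_mod q 3, Nat.pow_mod q 4, h0]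
    rcases h1 with h1 | h1 | h1 <;> rw [h1] <;> norm_num
  exact (mul_dvd_mul (Dvd.dvd.mul_left (show 9 ∣ q ^ 3 + 1 by omega) _) (show 3 ∣ q ^ 4 - 1 by omega)).mul_right _

end N9b

open N9b Cfsg.Agent.KM Cfsg.Agent.KZ.DatX

/-- **`G₂(q)`** -/
theorem no9_g2 : No9For CG2 := by
  rintro S _ _ _ - ⟨F, _, _, h1, h2, ⟨i⟩⟩ K _ _ σ M b Q θ A H
  obtain ⟨r, hr⟩ := CharP.exists F
  obtain ⟨e, h5, h6⟩ := FiniteField.card F r
  have : Fact r.Prime := ⟨h5⟩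
  have h7 : 3 ≠ r := fun e => h1 (e ▸ CharP.cast_eq_zero F r)
  exact false_G2 H.pure ((has_G2 h6 h7.symm h2).congr i) h7

/-- **`³D₄(q)`** -/
theorem no9_td4 : No9For CTd4 := by
  rintro S _ _ _ - ⟨F, _, _, q, h1, hq, hF, ⟨i⟩⟩ K _ _ σ M b Q θ A H
  have := Fact.mk Nat.prime_three
  have hi := inj H i (S2110.result hq hF)
  have hc := (Nat.card_congr i.toEquiv).trans (S1067.result hq hF)
  obtain ⟨r, e, _, _, -, -, rfl, -⟩ := DL.Tw.setup hq three_ne_zero hF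
  have h7 : 3 ≠ r := fun e => h1 (e ▸ CharP.cast_eq_zero F r)
  refine false_of_inv H (dvd_card H (hc ▸ dvd_D4 fun h => h7 ((Nat.prime_dvd_prime_iff_eq Nat.prime_three Fact.out).1
    (Nat.prime_three.dvd_of_dvd_pow h)))) fun t ht c hc => ?_
  obtain ⟨h2, m, h3, h4⟩ := tor_D4 H.pure ((has_3D4 hF).congr i) h7 (ab H) (t := σ t) (by
    rintro _ ⟨d, hd, rfl⟩
    rw [← map_inv, ← map_mul, ← map_mul, ht d hd, map_inv]) (y := σ c) (by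
    rintro _ ⟨d, hd, rfl⟩
    rw [← map_mul, ← map_mul, hc d hd])
  exact ⟨hi (by rw [map_mul, map_mul, map_inv, map_inv, h2]), m, h3, hi (by rw [map_pow, h4, map_one])⟩

/-- **`²F₄(q)`** -/
theorem no9_tf4 : No9For CTf4 := by
  rintro S _ _ _ - ⟨-, F, _, _, m, hm, hF, ⟨i⟩⟩ K _ _ σ M b Q θ A H
  have := Fact.mk Nat.prime_three
  have hi := inj H i (S2114.result hm hF)
  have hc := (Nat.card_congr i.toEquiv).trans (S1068.result hF)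
  obtain ⟨t, n, T⟩ := TF.exists_st hF (i.toMonoidHom.comp σ) (i.injective.comp hi) (p := 3) (by decide) (D := Q)
    (fun h => H.pure.nc (isCyclic_of_surjective _ (Q.equivMapOfInjective σ hi).surjective))
    (fun d hd => hi (by rw [map_pow, G2D.pow_p H.pure ⟨d, hd, rfl⟩, map_one])) H.q.can.ab
  refine false_of_inv H (dvd_card H (hc ▸ dvd_F4 m)) fun t ht c hc => ⟨T.inv ht hc, orderOf c, ?_, pow_orderOf_eq_one c⟩
  refine Nat.not_even_iff_odd.1 fun ⟨j, hj⟩ => ?_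
  have h1 := orderOf_pos c
  have h2 := Nat.le_of_dvd (by omega) (orderOf_dvd_of_pow_eq_one (T.odd (pow_mem hc j)
    (by rw [← pow_add, ← hj, pow_orderOf_eq_one])))
  omega

end Cfsg.Agent.BH.RO
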