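import Cfsg.Agent.BH.RowO.Defs

/-!
# BH (S4524), `RowO`: the case `3²` with a transitive inertial quotient (helper99)

`No9` is false for `F₄(4)` (inertial quotient `D₈`, fused by the graph automorphism); `No9c` has in addition the
conclusion of `BoxE2.reg`.
-/

set_option autoImplicit false
set_option linter.unusedSectionVars false

namespace Cfsg.Agent.BH.RO

open Cfsg Subgroup Cfsg.Agent.TO

/-- the hypothesis of the end games, with a transitive inertial quotient -/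
structure N9c {K S : Type} [Group K] [Group S] (M : Ideal AlgInt) (b : Set (IrrCharacter K)) (Q : Subgroup K) (θ : K → ℂ)
    (σ : K →* S) (A : Subgroup (MulAut S)) : Prop extends N9 M b Q θ σ A where
  reg : ∀ u ∈ Q.map σ, ∀ v ∈ Q.map σ, u ≠ 1 → v ≠ 1 → ∃ s ∈ (In Q θ).map σ, s * u * s⁻¹ = v

/-- no block with the defect group `3²` and an inertial quotient which is transitive and contains `-1` -/
def No9c (S : Type) [Group S] : Prop := ∀ (K : Type) [Group K] [Finite K] (σ : K →* S) (M : Ideal AlgInt)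
  (b : Set (IrrCharacter K)) (Q : Subgroup K) (θ : K → ℂ) (A : Subgroup (MulAut S)), ¬ N9c M b Q θ σ A

variable {S : Type} [Group S] [Finite S]

theorem No9.c (h : No9 S) : No9c S := fun K _ _ σ M b Q θ A H => h K σ M b Q θ A H.toN9

/-- **the reduction**, with an over group -/
theorem row_of_dgc (hS : BoxSh) (hP : BoxP2) (hE : BoxE2) (ns : NS S 3) (𝒟 : Subgroup (MulAut S)) (T : Set ℕ)
    (hD : ∀ n ∈ T, Dg S 3 n 𝒟) (h : ∀ (Q E : Subgroup S) (Γ Γ₀ : Subgroup (MulAut S)), Sh 3 Q E Γ Γ₀ →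
      (Nat.card Q ∈ T → Cd 3 Q Γ 𝒟) → (Rk2 3 Q → Nine Q E Γ) → (Nine Q E Γ → ¬ No9c S) → False) :
    RowO 3 S := fun K _ _ σ M b Q θ H A A₀ hA => by
  have := Fact.mk Nat.prime_three
  refine Or.inl (by_contra fun hn => ?_)
  obtain ⟨h0, Γ, Γ₀, h1, h3, h4⟩ := hS 3 K S M b Q θ σ A A₀ ⟨H, hA, hn⟩
  refine h _ _ Γ Γ₀ h1 (fun h5 β hβ h6 ⟨j, hj⟩ _ ⟨u, hu, e⟩ => ?_) (fun h5 => (hP 3 S _ _ Γ Γ₀ (by decide) h1 h5).2)
    fun h6 h7 => h7 K σ M b Q θ _ ⟨h4 rfl h6, hE.reg S _ _ Γ Γ₀ h1 ns h6⟩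
  obtain ⟨α, h7, h8, h9⟩ := h3 β hβ
  rw [← e, ← h9, hD _ (h0 ▸ h5) K σ M b Q θ A A₀ H hA rfl α h7 ⟨j, h8.trans hj⟩ β h6 h9 u hu]

/-- **the reduction** -/
theorem row_of_c (hS : BoxSh) (hP : BoxP2) (hE : BoxE2) (ns : NS S 3) (h9 : No9c S)
    (h : ∀ (Q E : Subgroup S) (Γ Γ₀ : Subgroup (MulAut S)), Sh 3 Q E Γ Γ₀ → Rk2 3 Q) : RowO 3 S :=
  row_of_dgc hS hP hE ns ⊥ ∅ (fun _ h => h.elim) fun Q E Γ Γ₀ h1 _ h3 h4 => h4 (h3 (h Q E Γ Γ₀ h1)) h9

/-- `No9c` for a family -/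
def No9cFor (C : ℕ → ∀ (S : Type) [Group S], Prop) : Prop :=
  ∀ (S : Type) [Group S] [Finite S] [IsSimpleGroup S], ¬ IsMulCommutative S → C 3 S → No9c S

end Cfsg.Agent.BH.RO
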