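import Cfsg.Agent.BH.RowO.Lev
import Cfsg.Agent.KM.Ex.Kac
import Cfsg.Agent.KM.Tor.Kill
import Cfsg.Agent.KM.Tor.K7
import Cfsg.Agent.KM.Tor.K8
import Cfsg.Agent.KM.Tor.LC
import Cfsg.Agent.KM.Tor.NA
import Cfsg.Agent.KZ.DatX.Main
import Cfsg.Agent.H371.HT.Three
import Cfsg.Agent.H493.NCRow.OutE6
import Cfsg.Agent.S1035
import Cfsg.Agent.S2121
import Cfsg.Agent.S2122

/-!
# BH, `RowO` in cross characteristic: the bad primes of `G₂`, `F₄`, `²F₄`, `E₇`, `E₈` (helper10)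

* `R45.rk2_one` : if no element of order `l` of `Q` is of Levi type, then the rank of `Q` is at most two;
* `r4_g2`, `r4_f4`, `r4_tf4`, `r4_e8` (`l = 5`), `r5_e7`, `r5_e8` (`l = 3`).
-/

set_option autoImplicit false
set_option linter.unusedSectionVars false

namespace Cfsg.Agent.BH.RO

open Cfsg Subgroup Matrix Cfsg.Agent.TO Cfsg.Agent.KM Cfsg.Agent.KM.BK Cfsg.Agent.KM.Ex
open Cfsg.Agent.KM.Tor (Loc Set3 LC ZCs Kt toral_cen cc_empty not_dvd_ord)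
open Cfsg.Agent.TO.X.Cn (Pi1 PM mem_cen pi1 pm_G2 pm_F4 pm_E7 pm_E8)
open Cfsg.Agent.DL Cfsg.Agent.DL.PP Cfsg.Agent.KZ.Lie Cfsg.Agent.KZ.DatX Cfsg.Agent.Nodes.RGDChev Cfsg.Lie
open scoped commutatorElement

namespace R45

section pure

variable {S : Type} [Group S] {l : ℕ} [hl : Fact l.Prime]

/-- a character with a cyclic kernel -/
theorem card_le {V k : Type} [Group V] [Finite V] [Field k] (f : V →* kˣ) (h : ∀ v : V, v ^ l = 1)
    (h1 : ∀ z t, f z = 1 → f t = 1 → z ≠ 1 → t ∈ zpowers z) : Nat.card V ≤ l ^ 2 := by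
  have : NeZero l := ⟨hl.out.ne_zero⟩
  have h2 : f.range ≤ rootsOfUnity l k := fun _ ⟨v, e⟩ => (mem_rootsOfUnity _ _).2 (by rw [← e, ← map_pow, h, map_one])
  have h3 : Nat.card f.ker ≤ l := by
    by_cases e : f.ker = ⊥
    · rw [e, card_bot]
      exact hl.out.pos
    obtain ⟨z, hz⟩ := (ne_bot_iff_exists_ne_one).1 e
    refine (card_le_of_le (K := zpowers z.1) fun t ht => h1 z t z.2 ht fun e => hz (Subtype.ext e)).trans ?_
    rw [Nat.card_zpowers]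
    exact orderOf_le_of_pow_eq_one hl.out.pos (h z)
  rw [← f.ker.card_mul_index, index_ker, sq]
  exact Nat.mul_le_mul h3 ((card_le_of_le h2).trans (card_rootsOfUnity k l))

theorem abS_of [Finite S] {Q : Subgroup S} (h : Loc l ⊤ Q 1) (hab : Q ≤ Ce Q) : LV.AbS l S := by
  obtain ⟨P, hP⟩ := h.pg.exists_le_sylow
  have e : (P : Subgroup S) = Q := le_antisymm (h.syl P le_top P.isPGroup' hP fun x _ => by rw [mul_one, one_mul]) hP
  intro R
  obtain ⟨g, rfl⟩ := MulAction.exists_smul_eq S P R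
  refine ⟨⟨?_⟩⟩
  rintro ⟨_, a, ha, rfl⟩ ⟨_, b, hb, rfl⟩
  exact Subtype.ext (Commute.map (hab (e ▸ hb) a (e ▸ ha)) _)

theorem loc_map {Y : Type} [Group Y] {ι : S →* Y} (hι : Function.Injective ι) {Q : Subgroup S} {y : S} (h : Loc l ⊤ Q y) :
    Loc l ι.range (Q.map ι) (ι y) where
  le := map_le_range ι Q
  pg := h.pg.map ι
  mem := ⟨y, rfl⟩
  reg := by
    rw [orderOf_injective ι hι]
    exact h.reg
  comm _ := fun ⟨d, hd, e⟩ => by rw [← e, ← map_mul, h.comm d hd, map_mul]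
  syl P h1 h2 h3 h4 x hx := by
    obtain ⟨a, rfl⟩ := h1 hx
    exact ⟨a, h.syl (P.comap ι) le_top (h2.comap_of_injective ι hι) (map_le_iff_le_comap.1 h3)
      (fun b hb => hι (by rw [map_mul, map_mul]; exact h4 _ hb)) hx, rfl⟩

theorem eq_of_two {Γ : Type} [Group Γ] [Finite Γ] {C : Subgroup Γ} (h : Nat.card C ≤ 2) {x y : Γ} (hx : x ∈ C) (hy : y ∈ C)
    (h1 : x ≠ 1) (h2 : y ≠ 1) : x = y := by
  by_contra h3
  have h4 := Set.ncard_le_ncard (s := {1, x, y}) (t := C) (by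
    rintro _ (rfl | rfl | rfl)
    exacts [C.one_mem, hx, hy])
  rw [Set.ncard_eq_three.2 ⟨1, x, y, h1.symm, h2.symm, h3, rfl⟩] at h4
  exact absurd (h4.trans h) (by decide)

/-- the derived group of `Out S` has order at most two -/
theorem ns_of [Finite S] (h2 : l ≠ 2) (h : Nat.card (commutator (Out S)) ≤ 2) : NS S l := fun α β hα hβ => by
  obtain ⟨i, hi⟩ := pElt_iff.1 hα
  obtain ⟨j, hj⟩ := pElt_iff.1 hβ
  refine ⟨i + j, (QuotientGroup.eq_one_iff _).1 ?_⟩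
  rw [QuotientGroup.mk_pow, QuotientGroup.mk_mul]
  replace hi := congrArg (QuotientGroup.mk (s := Inn S)) hi
  replace hj := congrArg (QuotientGroup.mk (s := Inn S)) hj
  rw [QuotientGroup.mk_pow, QuotientGroup.mk_one] at hi hj
  generalize (α : MulAut S ⧸ Inn S) = a, (β : MulAut S ⧸ Inn S) = b at hi hj ⊢
  have hc : Commute a b := by
    refine commutatorElement_eq_one_iff_commute.1 (by_contra fun h1 => ?_)
    have m : ⁅a, b⁆ ∈ commutator (Out S) := commutator_mem_commutator (mem_top a) (mem_top b)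
    have h3 : Commute ⁅a, b⁆ b := (mul_inv_eq_iff_eq_mul.1 (eq_of_two h
      ((inferInstance : (commutator (Out S)).Normal).conj_mem _ m b) m (by simpa using h1) h1)).symm
    have h4 : ⁅a, b⁆ ^ l ^ j = 1 := by
      rw [← mul_one (_ ^ _), ← hj, ← h3.mul_pow, commutatorElement_def, inv_mul_cancel_right, conj_pow, hj, mul_one,
        mul_inv_cancel]
    have h5 : ⁅a, b⁆ ^ 2 = 1 := by
      rw [sq, ← eq_inv_iff_mul_eq_one]
      exact eq_of_two h m (inv_mem m) h1 (inv_ne_one.2 h1)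
    exact h1 ((pow_eq_one_iff_of_coprime (((Nat.coprime_primes hl.out Nat.prime_two).2 h2).pow_left j)).1 ⟨h4, h5⟩)
  rw [hc.mul_pow, pow_add, pow_mul, hi, one_pow, mul_comm (l ^ i), pow_mul, hj, one_pow, mul_one]

theorem ns_chev {D : ChevalleyDatum} (hD : ChevalleyStructure.Elts.InList D)
    (hD' : D ∈ [chevG2, chevB2, chevF4, chevE6, chevE7, chevE8]) {F : Type} [Field F] [Fintype F] [Finite ↥(D.group F)]
    (h2 : l ≠ 2) {d : ℕ} (hd : d ≤ 2) (h : d * Nat.card (D.diagonalSubgroup F) = (Fintype.card F - 1) ^ D.rank) :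
    NS ↥(D.group F) l :=
  ns_of h2 ((card_le_of_le (H493.NCRow.commutator_le_DB hD hD' F)).trans
    ((H442.OutCyc.card_DB_le hD F (d := d) (by rwa [Nat.card_eq_fintype_card (α := F)])).trans hd))

end pure

section dat

variable {p : ℕ} [Fact p.Prime] {k : Type} [Field k] [CharP k p] {Y : Type} [Group Y] {N : Type} [Fintype N]
  [DecidableEq N] {ρ : Y →* GL N k} {F : MulAut Y} {G : Subgroup Y} [IsAlgClosed k] {X : Datum p ρ F G} {f l : ℕ}
  [hl : Fact l.Prime] {S : Type} [Group S] [Finite S] {ι : S →* Y} {Q : Subgroup S} {y : S}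

/-- two commuting rational elements of order `l` lie in a rational torus -/
theorem exists_two (h : Pi1 X f) (hp : l ≠ p) (hf : l.Coprime f) {z t : Y} (hz : z ∈ GF F G) (ht : t ∈ GF F G)
    (z3 : z ^ l = 1) (t3 : t ^ l = 1) (hc : t * z = z * t) :
    ∃ (g : Y) (hg : g ∈ G) (hN : g⁻¹ * F g ∈ X.NN), ({z, t} : Set Y) ⊆ (X.conj hg hN).T := by
  obtain ⟨g, hg, h2⟩ := toral_cen (X := X) (Set.empty_subset _) Set.finite_empty (cc_empty _ hz.1 fun _ h => h.elim)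
    (not_dvd_ord hl.out hp (j := 1) (by rwa [pow_one]))
  replace hg := X.cen_le_G _ hg
  obtain ⟨c, hc1, h3⟩ := toral_cen (Set.singleton_subset_iff.2 h2) (Set.finite_singleton _) (y := g⁻¹ * t * g)
    (mem_cen h h2 (conj_pow_eq z3) hf (mul_mem (mul_mem (inv_mem hg) ht.1) hg) (
      calc _ = g⁻¹ * (t * z) * g := by group
        _ = _ := by rw [hc]; group)) (not_dvd_ord hl.out hp (j := 1) (by rw [pow_one]; exact conj_pow_eq t3))
  obtain ⟨x, hx, hN, h4, -⟩ := SB.Exc.Max.exists_conj_le_T X (Z := {z, t}) (by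
      rintro _ (rfl | rfl)
      · exact .inl hz.2
      · exact .inr ht.2) (mul_mem hg (X.cen_le_G _ hc1)) (by
      rintro w (e | e)
      · rwa [e, show (g * c)⁻¹ * z * (g * c) = c⁻¹ * (g⁻¹ * z * g * c) by group,
          X.cen_le_centralizer (Set.singleton_subset_iff.2 h2) hc1 _ rfl, inv_mul_cancel_left]
      · rwa [show w = t from e, show (g * c)⁻¹ * t * (g * c) = c⁻¹ * (g⁻¹ * t * g) * c by group])
  exact ⟨x, hx, hN, h4⟩

/-- **all the elements of order `l` are isolated** -/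
theorem rk2_one (h : Pi1 X f) (hp : l ≠ p) (hf : l.Coprime f) (hL : NL X l) (hT : Two X l)
    (h0 : ∀ v, (∀ a, X.Rt a → X.wt a ⬝ᵥ v = 0) → v = 0) {a : X.I → ℤ} (ha : X.Rt a) (hι : Function.Injective ι)
    (hG : ∀ s, ι s ∈ GF F G) (hA : ¬ LV.AbS l S) (hy : Loc l ⊤ Q y) (hab : Q ≤ Ce Q) {u v : S} (hu : u ∈ Q) (hv : v ∈ Q)
    (u1 : orderOf u = l) (v1 : orderOf v = l) (huv : v ∉ zpowers u) (hz : ∀ z ∈ Q, orderOf z = l → ¬ Lz X (ι z)) :
    Rk2 l Q := by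
  let V : Subgroup S :=
    { carrier := {w | w ∈ Q ∧ w ^ l = 1}
      one_mem' := ⟨one_mem _, one_pow _⟩
      mul_mem' := fun {a b} ha hb => ⟨mul_mem ha.1 hb.1, by
        rw [Commute.mul_pow (hab hb.1 a ha.1), ha.2, hb.2, mul_one]⟩
      inv_mem' := fun {a} ha => ⟨inv_mem ha.1, by rw [inv_pow, ha.2, inv_one]⟩ }
  have e : ∀ w ∈ V, ι w ^ l = 1 := fun w hw => by rw [← map_pow, hw.2, map_one]
  have c : ∀ a ∈ Q, ∀ b ∈ Q, ι a * ι b = ι b * ι a := fun a ha b hb => by rw [← map_mul, hab hb a ha, map_mul]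
  have mu : u ∈ V := ⟨hu, u1 ▸ pow_orderOf_eq_one u⟩
  have mv : v ∈ V := ⟨hv, v1 ▸ pow_orderOf_eq_one v⟩
  obtain ⟨g, hg, hN, h4⟩ := exists_two h hp hf (hG u) (hG v) (e u mu) (e v mv) (c v hv u hu)
  have h1 : ∀ w ∈ V, ι w ∈ (X.conj hg hN).T → ¬ Ni (X.conj hg hN) {ι w} := fun w hw h1 h2 => by
    by_cases h3 : w = 1
    · obtain ⟨x, h5, h6⟩ := h2
      exact h5 (h0 x fun b hb => h6 b ⟨hb, fun _ e => by rw [e, h3, map_one, Datum.χ_one]⟩)
    · have h5 : ι w ^ l ^ 1 = 1 := by rw [pow_one, e w hw]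
      exact hz w hw.1 (orderOf_eq_prime hw.2 h3) ⟨g, hg, hN, NL.mem_Z0 (X := X.conj hg hN) hl.out hL h1 h5 h2,
        (gd_single (h.conj hg hN) hl.out hp hf hL h1 h5 h2).cc⟩
  have h5 : ∀ z ∈ V, ∀ t ∈ V, ι z ∈ (X.conj hg hN).T → ι t ∈ (X.conj hg hN).T → z ≠ 1 → t ∉ zpowers z →
      (X.conj hg hN).Sz {ι z, ι t} = ∅ := fun z z1 t t1 z2 t2 z3 t3 =>
    sz_empty (X := X.conj hg hN) hl.out hp hT z2 t2 (e z z1) (fun e => z3 (hι (e.trans ι.map_one.symm))) (e t t1)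
      (fun ⟨n, e⟩ => t3 ⟨n, hι ((map_zpow ι z n).trans e)⟩) fun i j => by
        have h5 := mul_mem (zpow_mem z2 i) (zpow_mem t2 j)
        rw [← map_zpow, ← map_zpow, ← map_mul] at h5 ⊢
        exact h1 _ (mul_mem (zpow_mem z1 i) (zpow_mem t1 j)) h5
  have h6 := h5 u mu v mv (h4 (.inl rfl)) (h4 (.inr rfl)) (fun e => hl.out.one_lt.ne' (by rw [← u1, e, orderOf_one])) huv
  have h7 : ∀ w ∈ V, ι w ∈ (X.conj hg hN).T := fun w hw => by_contra fun h7 => by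
    have h8 := no_reg (h.conj hg hN) hl.out hp hf hL (Set.toFinite _) h4 (by
        rintro _ (rfl | rfl)
        exacts [⟨1, by rw [pow_one, e u mu]⟩, ⟨1, by rw [pow_one, e v mv]⟩]) h6 (hG w).1 (by
        rintro _ (rfl | rfl)
        exacts [c u hu w hw.1, c v hv w hw.1]) h7 (j := 1) (by rw [pow_one, e w hw]) (hG y).1 (by
        rintro _ (rfl | rfl) <;> rw [← map_mul, ← map_mul]
        exacts [congrArg ι (hy.comm u hu), congrArg ι (hy.comm v hv)])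
      (by rw [← map_mul, hy.comm w hw.1, map_mul]) (by rw [orderOf_injective ι hι]; exact hy.reg)
    obtain rfl := hι (h8.trans ι.map_one.symm)
    exact hA (abS_of hy hab)
  let φ : V →* k :=
    { toFun := fun w => (X.conj hg hN).χ a (ι w)
      map_one' := by rw [coe_one, map_one, Datum.χ_one]
      map_mul' := fun x y => by rw [coe_mul, map_mul, Datum.χ_mul _ _ (h7 _ x.2) (h7 _ y.2)] }
  refine card_le (V := V) φ.toHomUnits (fun w => Subtype.ext w.2.2) fun z t z1 t1 z2 => by_contra fun t2 => ?_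
  refine Set.eq_empty_iff_forall_notMem.1 (h5 z z.2 t t.2 (h7 _ z.2) (h7 _ t.2) (fun e => z2 (Subtype.ext e))
    fun ⟨n, e⟩ => t2 ⟨n, Subtype.ext e⟩) a ⟨ha, ?_⟩
  rintro _ (rfl | rfl)
  exacts [congrArg Units.val z1, congrArg Units.val t1]

end dat

variable {C : ChevalleyDatum} {n : ℕ} {M : CoxeterMatrix (Fin n)} {hp : IsType C n M} {r : ℕ} [Fact r.Prime]
  {Mx : Matrix (Fin n) (Fin n) ℤ} {Adm : Matrix (Fin n) (Fin n) ℤ → Prop} {d l e f : ℕ} [hl : Fact l.Prime] {S : Type}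
  [Group S] [Finite S]

/-- **one bad node** -/
theorem row_one (B : Bx) (h : Has hp r Mx Adm 1 S) (h2 : l ≠ 2) (hr : l ≠ r) (he : 0 < e) (hM : Mx ^ 2 = (r : ℤ) ^ e • 1)
    (hP : PM C n 1) {i : Fin n} (hB : Bad C n l i) (hT : TwoC C n l i) (hA : ∀ A, Adm A → ∃ j : ℕ, A ^ 2 = (r : ℤ) ^ j • 1)
    (hS : ¬ LV.AbS l S) (h9 : l = 3 → No9 S) : RowO l S := row_of B.sh B.p2 h2 h9 fun Q E Γ Γ₀ H => by
  obtain ⟨k, _, _, _, X, ⟨s⟩⟩ := h
  obtain ⟨-, ⟨y, hy⟩, ⟨u, hu, v, hv, u1, v1, huv⟩, -⟩ := B.mv l S Q E Γ Γ₀ H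
  refine rk2_one (pi1 X hP) hr (Nat.coprime_one_right l) (nl_of X hl.out hB) (two_of X hl.out hB hT)
    (fun v hv => funext fun j => (sr_dot j v).symm.trans (hv _ (Tits.Roots.isRoot_sr _ _ j))) (Tits.Roots.isRoot_sr _ _ i) s.ov.inj s.ov.mem hS hy H.ab hu hv
    u1 v1 huv fun z hz z1 hL => ?_
  exact B.no_lz (s := s.sit) (n := 2) h2 hr (fun e => h2 ((Nat.prime_dvd_prime_iff_eq hl.out Nat.prime_two).1 e)) he hM
    (idx_xs s hl.out.not_dvd_one) H (z := ⟨s.ι z, z, rfl⟩)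
    ((orderOf_coe _).symm.trans ((orderOf_injective _ s.ov.inj z).trans z1)) ((s.π_ι z).symm ▸ hz) hL
    fun _ _ _ A _ h5 _ => hA A h5

theorem sq_smul (r j : ℕ) : ((r : ℤ) ^ j • (1 : Matrix (Fin n) (Fin n) ℤ)) ^ 2 = (r : ℤ) ^ (2 * j) • 1 := by
  rw [_root_.smul_pow, one_pow, ← pow_mul, mul_comm]

theorem admF_sq {A : Matrix (Fin n) (Fin n) ℤ} (h : AdmF r A) : ∃ j : ℕ, A ^ 2 = (r : ℤ) ^ j • 1 :=
  let ⟨j, e⟩ := h
  ⟨_, e ▸ sq_smul r j⟩

theorem gam_sq (j : ℕ) : (((2 : ℕ) : ℤ) ^ j • GamF) ^ 2 = ((2 : ℕ) : ℤ) ^ (2 * j + 1) • 1 := by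
  rw [_root_.smul_pow, show GamF ^ 2 = ((2 : ℕ) : ℤ) • 1 by decide +kernel, smul_smul, ← pow_mul, ← pow_succ, mul_comm]

/-- **`E₇`, `E₈` at `l = 3`** -/
theorem row_three (B : Bx) (h : Has hp r ((r : ℤ) ^ e • 1) (AdmF r) d S) (hr : 3 ≠ r) (he : 0 < e) (hn : n ≤ 8) (hd : ¬ 3 ∣ d)
    (hP : PM C n f) (hf : ¬ 3 ∣ f) (hL : Tor.AllX hp fun X => LC X) (hK : Tor.AllX hp fun X => Kt X) (hS : NS S 3)
    (h9 : No9 S) : RowO 3 S :=
  have : Fact (Nat.Prime 3) := ⟨Nat.prime_three⟩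
  row_of B.sh B.p2 (by decide) (fun _ => h9) fun Q E Γ Γ₀ H => by
    obtain ⟨k, _, _, _, X, ⟨s⟩⟩ := h
    obtain ⟨-, ⟨y, hy⟩, -⟩ := B.mv 3 S Q E Γ Γ₀ H
    have h1 : Set3 X.F ⊤ s.ι.range (Q.map s.ι) (s.ι y) := ⟨loc_map s.ov.inj hy, fun _ ⟨a, ha, e⟩ _ ⟨b, hb, e'⟩ => by
      rw [← e, ← e', ← map_mul, H.ab hb a ha, map_mul], s.sit.le, s.sit.comm⟩
    obtain ⟨g, hg, hN, h2⟩ := Tor.toral3 Tor.boxNA hr (pi1 X hP) hf (hL r k _ X) h1
    rcases Tor.boxT (X.D.conj hg hN) _ hr (Tor.zcs X 3) (hK r k _ X) (h1.fin X.D).to_subtype h2 h1.el with h3 | h3 | h3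
    · exact (B.t1 hp d hn hd r k _ X _ S s e _ 1 hr he (.inl rfl) (by rw [X.D.Wm_one]; rfl) (by rw [_root_.smul_pow, one_pow])
        (fun A ⟨j, hj⟩ => ⟨j, _, 1, hj ▸ sq_smul r j, .inl rfl, by rw [X.D.Wm_one]; exact hj⟩) Q E Γ Γ₀ H ⟨g, hg, hN, h3⟩).elim
    · rw [card_map_of_injective s.ov.inj] at h3
      exact (Set.ncard_le_ncard (t := Q) fun _ h => h.1).trans (show (Q : Set S).ncard ≤ 3 ^ 2 from h3)
    · exact (B.e2.flag S _ ⊤ s.ι Q E Γ Γ₀ s.ov.inj (fun _ => trivial) H hS h3).elim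

theorem char_ne {F : Type} [Field F] [CharP F r] (h : (l : F) ≠ 0) : l ≠ r := by
  rintro rfl
  exact h (CharP.cast_eq_zero F l)

theorem eight_le (h : 3 ∣ e) (he : 0 < e) : 8 ≤ r ^ e :=
  (Nat.pow_le_pow_left (Fact.out : r.Prime).two_le 3).trans
    (Nat.pow_le_pow_right (Fact.out : r.Prime).pos (Nat.le_of_dvd he h))

theorem nd_card {F : Type} [Field F] [Fintype F] (hF : Fintype.card F = r ^ e) (h : l ≠ r) : ¬ l ∣ Fintype.card F :=
  fun h1 => h ((Nat.prime_dvd_prime_iff_eq hl.out Fact.out).1 (hl.out.dvd_of_dvd_pow (hF ▸ h1)))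

end R45

open R45

/-- `No9` for a Chevalley family over the fields with at least `m` elements -/
def No9C (D : ChevalleyDatum) (m : ℕ) : Prop :=
  ∀ (F : Type) [Field F] [Fintype F], (3 : F) ≠ 0 → m ≤ Fintype.card F → No9 ↥(D.group F)

/-- **`G₂(q)`, `l = 3`** -/
theorem r4_g2 (B : Bx) (h9 : No9C chevG2 8) : RowAt CG2 (· = 3) := by
  rintro _ _ h2 rfl S _ _ _ - ⟨F, _, _, h3, h4, ⟨i⟩⟩
  have := Finite.of_equiv S i.toEquiv
  obtain ⟨r, e, _, _, -, he, hF, -⟩ := DL.Ex.exists_closure F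
  have hr := char_ne (r := r) h3
  refine RowO.of_equiv i (if h5 : 3 ∣ e then ?_ else rowO_of_out ?_)
  · exact row_one B (has_G2 hF hr.symm h4) h2 hr (e := 2 * e) (by omega) (sq_smul r e) pm_G2 bad_G2 twoC_G2
      (fun _ => admF_sq) (H371.HT.not_ab_untw (by simp) (nd_card hF hr))
      fun _ => h9 F (by exact_mod_cast h3) (hF ▸ eight_le h5 he)
  · rwa [S2121.result r e hF (hF ▸ h4), if_neg hr.symm]

/-- **`F₄(q)`, `l = 3`** -/
theorem r4_f4 (B : Bx) (h9 : No9C chevF4 8) : RowAt CF4 (· = 3) := by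
  rintro _ _ h2 rfl S _ _ _ - ⟨F, _, _, h3, ⟨i⟩⟩
  have := Finite.of_equiv S i.toEquiv
  obtain ⟨r, e, _, _, -, he, hF, -⟩ := DL.Ex.exists_closure F
  have hr := char_ne (r := r) h3
  refine RowO.of_equiv i (if h5 : 3 ∣ e then ?_ else rowO_of_out ?_)
  · have h6 := H371.HT.not_ab_untw (D := chevF4) (by simp) (nd_card hF hr)
    have h7 := fun _ : 3 = 3 => h9 F (by exact_mod_cast h3) (hF ▸ eight_le h5 he)
    by_cases h8 : r = 2
    · subst h8
      refine row_one B (has_F4two hF) h2 hr (e := 2 * e) (by omega) (sq_smul 2 e) pm_F4 bad_F4 twoC_F4 ?_ h6 h7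
      rintro _ ⟨j, A, hA, rfl⟩
      simp only [List.mem_cons, List.not_mem_nil, or_false] at hA
      rcases hA with rfl | rfl
      exacts [⟨_, sq_smul 2 j⟩, ⟨_, gam_sq j⟩]
    · exact row_one B (has_F4 hF h8) h2 hr (e := 2 * e) (by omega) (sq_smul r e) pm_F4 bad_F4 twoC_F4 (fun _ => admF_sq) h6 h7
  · rw [S2122.result r e hF]
    intro h6
    rcases (Nat.Prime.dvd_mul Nat.prime_three).1 h6 with h7 | h7
    exacts [absurd (h7.trans (Nat.gcd_dvd_left 2 r)) (by decide), h5 h7]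

/-- **`²F₄(q)`, `l = 3`** -/
theorem r4_tf4 (B : Bx) (h9 : No9For CTf4) : RowAt CTf4 (· = 3) := by
  rintro _ _ h2 rfl S _ _ _ hS h
  obtain ⟨m, -, h1⟩ := row_2F4 h.2
  exact row_one B h1 h2 h2 (Nat.succ_pos _) (gam_sq m) pm_F4 bad_F4 twoC_F4 (fun _ => admF_sq)
    (H371.HT.not_ab_iso2F4 h.2) fun _ => h9 S hS h

/-- **`E₈(q)`, `l = 5`** -/
theorem r4_e8 (B : Bx) : RowAt CE8 (· = 5) := by
  rintro _ _ h2 rfl S _ _ _ - ⟨F, _, _, h3, ⟨i⟩⟩
  have := Finite.of_equiv S i.toEquiv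
  obtain ⟨r, e, _, _, -, he, hF, -⟩ := DL.Ex.exists_closure F
  have hr := char_ne (r := r) h3
  exact RowO.of_equiv i (row_one B (has_E8 hF) h2 hr (e := 2 * e) (by omega) (sq_smul r e) pm_E8 bad_E8 twoC_E8
    (fun _ => admF_sq) (H371.HT.not_ab_e8_five (nd_card hF hr)) fun e => absurd e (by decide))

/-- **`E₇(q)`, `l = 3`** -/
theorem r5_e7 (B : Bx) (h9 : No9C chevE7 0) : RowAt CE7 (· = 3) := by
  rintro _ _ h2 rfl S _ _ _ - ⟨F, _, _, h3, ⟨i⟩⟩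
  have := Finite.of_equiv S i.toEquiv
  obtain ⟨r, e, _, _, -, he, hF, -⟩ := DL.Ex.exists_closure F
  exact RowO.of_equiv i (row_three B (has_E7 hF) (char_ne h3) he (by decide)
    (fun h => absurd (h.trans (Nat.gcd_dvd_left _ _)) (by decide)) pm_E7 (by decide) Tor.boxLC.2.1
    (fun _ _ _ _ _ _ _ X => Tor.K7.kt X) (ns_chev hpE7.inList (by simp) h2 (Nat.gcd_le_left _ two_pos)
      (S1035.result rfl (chevE7, Nat.gcd 2 (Fintype.card F - 1)) (by simp))) (h9 F (by exact_mod_cast h3) (Nat.zero_le _)))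

/-- **`E₈(q)`, `l = 3`** -/
theorem r5_e8 (B : Bx) (h9 : No9C chevE8 0) : RowAt CE8 (· = 3) := by
  rintro _ _ h2 rfl S _ _ _ - ⟨F, _, _, h3, ⟨i⟩⟩
  have := Finite.of_equiv S i.toEquiv
  obtain ⟨r, e, _, _, -, he, hF, -⟩ := DL.Ex.exists_closure F
  exact RowO.of_equiv i (row_three B (has_E8 hF) (char_ne h3) he (by decide) (by decide) pm_E8 (by decide) Tor.boxLC.2.2
    (fun _ _ _ _ _ _ _ X => Tor.K8.kt X) (ns_chev hpE8.inList (by simp) h2 (d := 1) (by decide)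
      (S1035.result rfl (chevE8, 1) (by simp))) (h9 F (by exact_mod_cast h3) (Nat.zero_le _)))

end Cfsg.Agent.BH.RO
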