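import Cfsg.Agent.BH.RowO.Defs

/-!
# BH (S4524), `RowO` in cross characteristic: the lattice lemma (helper70)

* `boxTL : BoxTL`.
-/

set_option autoImplicit false
set_option linter.unusedSectionVars false

namespace Cfsg.Agent.BH.RO

namespace TL

open Matrix Polynomial

variable {R : Type} [Fintype R] [DecidableEq R] {B W U γ : Matrix R R ℤ} {Λ Ls : AddSubgroup (R → ℤ)} {m r : ℤ} {i : ℕ}

theorem indep {V : Type} [AddCommGroup V] [Module ℚ V] [Module.Finite ℚ V] (f : Module.End ℚ V) {P : ℚ[X]}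
    (hP : Irreducible P) {x : V} (hx : x ≠ 0) (h : aeval f P x = 0) (N : Submodule ℚ V) (hN : ∀ k : ℕ, (f ^ k) x ∈ N) :
    P.natDegree ≤ Module.finrank ℚ N := by
  refine (Fintype.card_fin _).ge.trans (LinearIndependent.of_comp N.subtype
    (v := fun k : Fin P.natDegree => ⟨_, hN k⟩) ?_).fintype_card_le_finrank
  change LinearIndependent ℚ fun k : Fin P.natDegree => (f ^ (k : ℕ)) x
  rw [Fintype.linearIndependent_iff]
  intro g hg
  have h1 : aeval f (ofFn _ g) x = 0 := by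
    rw [ofFn_eq_sum_monomial, map_sum, LinearMap.sum_apply, ← hg]
    exact Finset.sum_congr rfl fun k _ => by rw [aeval_monomial, Module.End.mul_apply, Module.algebraMap_end_apply]
  have h2 : ofFn _ g = 0 := eq_zero_of_dvd_of_degree_lt (p := P) (by
    by_contra hc
    obtain ⟨a, b, e⟩ := hP.coprime_iff_not_dvd.2 hc
    have h3 := congrArg (fun q => aeval f q x) e
    simp only [map_add, map_mul, map_one, LinearMap.add_apply, Module.End.mul_apply, Module.End.one_apply, h, h1, map_zero,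
      add_zero] at h3
    exact hx h3.symm) (by rw [degree_eq_natDegree hP.ne_zero]; exact ofFn_degree_lt g)
  exact congrFun (injective_ofFn _ (h2.trans (map_zero _).symm))

theorem cst (K : Type) [CommRing K] (A : Matrix R R ℤ) (v : R → ℤ) :
    A.map (Int.cast : ℤ → K) *ᵥ (fun i => (v i : K)) = fun i => ((A *ᵥ v) i : K) :=
  funext fun i => (RingHom.map_mulVec (Int.castRingHom K) A v i).symm

/-- the cyclotomic polynomial is irreducible -/
theorem rank_le {A : Matrix R R ℤ} {x : R → ℤ} (hx : x ≠ 0) {s : ℕ}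
    (h : x + U ^ 3 ^ s *ᵥ x + U ^ 3 ^ s *ᵥ (U ^ 3 ^ s *ᵥ x) = 0) (hA : ∀ k : ℕ, A *ᵥ (U ^ k *ᵥ x) = 0) :
    3 ^ s * 2 ≤ Fintype.card R ∧ (Fintype.card R ≤ 3 ^ s * 2 → A = 0) := by
  obtain ⟨f, hf⟩ : ∃ f : Module.End ℚ (R → ℚ), f = (U.map (Int.cast : ℤ → ℚ)).mulVecLin := ⟨_, rfl⟩
  have h1 : ∀ (k : ℕ) (v : R → ℤ), (f ^ k) (fun i => (v i : ℚ)) = fun i => ((U ^ k *ᵥ v) i : ℚ) := fun k v => by
    induction k with
    | zero => rw [pow_zero, pow_zero, one_mulVec]; rfl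
    | succ k ih =>
      rw [pow_succ', Module.End.mul_apply, ih, pow_succ', ← mulVec_mulVec, hf]
      exact cst ℚ _ _
  have h2 := indep f (cyclotomic.irreducible_rat (n := 3 ^ (s + 1)) (by positivity)) (x := fun i => (x i : ℚ))
    (fun e => hx (funext fun i => Int.cast_eq_zero.1 (congrFun e i))) (by
      rw [cyclotomic_prime_pow_eq_geom_sum Nat.prime_three]
      simp only [Finset.sum_range_succ, Finset.range_zero, Finset.sum_empty, zero_add, pow_zero, pow_one, pow_two, map_add,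
        map_mul, map_pow, map_one, aeval_X, LinearMap.add_apply, Module.End.mul_apply, Module.End.one_apply, h1]
      exact funext fun i => by
        have h3 := congrFun h i
        simp only [Pi.add_apply, Pi.zero_apply] at h3 ⊢
        exact_mod_cast h3)
  obtain ⟨N, hN⟩ : ∃ N, N = LinearMap.ker (A.map (Int.cast : ℤ → ℚ)).mulVecLin := ⟨_, rfl⟩
  have h3 : ∀ k : ℕ, (f ^ k) (fun i => (x i : ℚ)) ∈ N := fun k => by
    rw [h1, hN, LinearMap.mem_ker, mulVecLin_apply, cst, hA]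
    exact funext fun i => Int.cast_zero
  have h4 := h2 N h3
  rw [natDegree_cyclotomic, Nat.totient_prime_pow_succ Nat.prime_three] at h4
  have h5 := N.finrank_le
  rw [Module.finrank_fintype_fun_eq_card] at h5
  refine ⟨h4.trans h5, fun h6 => ?_⟩
  have h7 : N = ⊤ := Submodule.eq_top_of_finrank_eq (by
    rw [Module.finrank_fintype_fun_eq_card]
    exact le_antisymm h5 (h6.trans h4))
  ext a b
  simpa using congrFun (LinearMap.congr_fun (LinearMap.ker_eq_top.1 (hN.symm.trans h7)) (Pi.single b 1)) a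

theorem bf_iso (h : Iso B Λ Ls γ) (u v : R → ℤ) : toBilin' B (γ *ᵥ u) (γ *ᵥ v) = toBilin' B u v := by
  rw [toBilin'_apply', toBilin'_apply']
  conv_rhs => rw [← h.iso]
  rw [Matrix.mul_assoc, ← mulVec_mulVec v, dotProduct_mulVec u, vecMul_transpose, mulVec_mulVec]

theorem bf_comm (h : Lat B Λ Ls W U m r i) (u v : R → ℤ) : toBilin' B u v = toBilin' B v u := by
  rw [toBilin'_apply', toBilin'_apply', dotProduct_mulVec, dotProduct_comm, ← mulVec_transpose, h.sym]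

theorem bf_pos (h : Lat B Λ Ls W U m r i) {v : R → ℤ} (hv : v ≠ 0) : 0 < toBilin' B v v := by
  rw [toBilin'_apply']
  exact h.pos v hv

theorem bf_nn (h : Lat B Λ Ls W U m r i) (v : R → ℤ) : 0 ≤ toBilin' B v v := by
  by_cases e : v = 0
  · rw [e, map_zero]
  · exact (bf_pos h e).le

theorem exists_min (h : Lat B Λ Ls W U m r i) (S : Set (R → ℤ)) {v : R → ℤ} (hv : v ∈ S) :
    ∃ v ∈ S, ∀ w ∈ S, toBilin' B v v ≤ toBilin' B w w := by
  obtain ⟨_, ⟨v, hv, rfl⟩, h1⟩ := Int.exists_least_of_bdd (P := fun n => ∃ v ∈ S, toBilin' B v v = n)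
    ⟨0, fun _ ⟨v, _, e⟩ => e ▸ bf_nn h v⟩ ⟨_, v, hv, rfl⟩
  exact ⟨v, hv, fun w hw => h1 _ ⟨w, hw, rfl⟩⟩

theorem inv (h : Iso B Λ Ls γ) : ∃ δ : Matrix R R ℤ, ∀ v, δ *ᵥ (γ *ᵥ v) = v := by
  obtain ⟨n, hn, e⟩ := h.fin
  exact ⟨γ ^ (n - 1), fun v => by rw [mulVec_mulVec, ← pow_succ, Nat.sub_add_cancel hn, e, one_mulVec]⟩

theorem d3 (h : Iso B Λ Ls γ) {v y : R → ℤ} (e : γ *ᵥ v = (3 : ℤ) • y) : ∃ y, v = (3 : ℤ) • y := by
  obtain ⟨δ, hδ⟩ := inv h
  exact ⟨δ *ᵥ y, by rw [← mulVec_smul, ← e, hδ]⟩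

theorem pow_mem (h : Iso B Λ Ls γ) (k : ℕ) {v : R → ℤ} (hv : v ∈ Λ) : γ ^ k *ᵥ v ∈ Λ := by
  induction k with
  | zero => rwa [pow_zero, one_mulVec]
  | succ k ih =>
    rw [pow_succ', ← mulVec_mulVec]
    exact h.mem _ ih

theorem val (h : Lat B Λ Ls W U m r i) : ∃ (b : ℕ) (c : ℤ), ¬ 3 ∣ c ∧ r - 1 = 3 ^ (b + 1) * c ∧ 3 ^ (b + 2) ∣ m - 1 := by
  obtain ⟨t, ht⟩ := h.r3
  have a1 := h.m3
  have h0 : m ^ 2 ≠ 1 := fun e => by
    have a2 := h.m1
    rw [sq, mul_self_eq_one_iff] at e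
    omega
  have h1 : r - 1 ≠ 0 := fun e => h0 (by rw [← h.rm, sub_eq_zero.1 e, one_pow])
  obtain ⟨_ | b, c, hc, e⟩ := WfDvdMonoid.max_power_factor h1 Int.prime_three.irreducible
  · exact (hc ⟨t, by rw [← ht, e, pow_zero, one_mul]⟩).elim
  refine ⟨b, c, hc, e, ?_⟩
  have h2 : 3 ^ (b + 2) ∣ r ^ 3 - 1 := ⟨c * (1 + 3 * t + 3 * t ^ 2), by
    linear_combination (r ^ 2 + r + 1) * e + 3 ^ (b + 1) * c * (r + 2 + 3 * t) * ht⟩
  have h3 := h2.trans (sub_one_dvd_pow_sub_one (r ^ 3) (3 ^ (i - 1)))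
  rw [← pow_mul, ← pow_succ', Nat.sub_add_cancel h.pos', h.rm, show m ^ 2 - 1 = (m + 1) * (m - 1) by ring] at h3
  exact (Int.prime_three.irreducible.coprime_iff_not_dvd.2 (by omega)).pow_left.dvd_of_dvd_mul_left h3

/-- step 1 -/
theorem one (h : Lat B Λ Ls W U m r i) {v : R → ℤ} (h1 : v ∈ Λ) (h2 : v ∈ Ls) (h3 : W *ᵥ v = v) :
    ∃ y, v = (3 : ℤ) • y := by
  by_contra h4
  obtain ⟨v, ⟨h1, h2, h3, h4⟩, hm⟩ :=
    exists_min h {v | v ∈ Λ ∧ v ∈ Ls ∧ W *ᵥ v = v ∧ ¬ ∃ y, v = (3 : ℤ) • y} ⟨h1, h2, h3, h4⟩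
  obtain ⟨b, c, hc, e, d, hd⟩ := val h
  obtain ⟨γ, hγ, hW, y, hy⟩ := h.orb (b + 2) v h1 h2 (d • v) (Ls.zsmul_mem h2 d) (by
    rw [h3]
    linear_combination (norm := module) hd • v)
  have a1 := hγ.mem v h1
  have a2 := hγ.mem' v h2
  have a3 : W *ᵥ (γ *ᵥ v) = γ *ᵥ v := by rw [← hW v h1, h3]
  have a4 := bf_iso hγ v v
  have a5 : ¬ ∃ y, γ *ᵥ v = (3 : ℤ) • y := fun ⟨y, e⟩ => h4 (d3 hγ e)
  generalize γ *ᵥ v = x at a1 a2 a3 a4 a5 hy
  have a6 : (3 : ℤ) ^ (b + 1) • ((3 : ℤ) • y - c • U *ᵥ x) = U *ᵥ x - x := by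
    linear_combination (norm := module) -hy + e • (U *ᵥ x)
  have a0 : (3 : ℤ) ^ (b + 1) ≠ 0 := pow_ne_zero _ three_ne_zero
  have a7 := hm ((3 : ℤ) • y - c • U *ᵥ x) ⟨h.sat _ a0 _ (a6 ▸ Λ.sub_mem (h.iU.mem x a1) a1),
    Ls.sub_mem (h.three y) (Ls.zsmul_mem (h.iU.mem' x a2) c), smul_right_injective _ a0 (by
      show _ • _ = _ • _
      rw [← mulVec_smul, a6, mulVec_sub, ← h.com x a1, a3]), fun ⟨z, hz⟩ => by
      obtain ⟨s, t, hs⟩ := Int.prime_three.irreducible.coprime_iff_not_dvd.2 hc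
      exact a5 (d3 h.iU (y := s • U *ᵥ x + t • (y - z)) (by
        linear_combination (norm := module) -(hs • (U *ᵥ x)) - t • hz))⟩
  generalize (3 : ℤ) • y - c • U *ᵥ x = z at a6 a7
  have b1 := congrArg (fun w => toBilin' B w w) a6
  have b2 := bf_nn h (U *ᵥ x + x)
  have b3 := bf_iso h.iU x x
  have b4 := bf_pos h (v := v) fun e => h4 ⟨0, by rw [e, smul_zero]⟩
  have b5 : (3 : ℤ) ≤ 3 ^ (b + 1) := le_self_pow₀ (by norm_num) b.succ_ne_zero
  simp only [map_add, map_sub, map_smul, LinearMap.add_apply, LinearMap.sub_apply, LinearMap.smul_apply, smul_eq_mul] at b1 b2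
  generalize (3 : ℤ) ^ (b + 1) = T at b1 b5
  have b6 : 0 ≤ (T * T - 9) * toBilin' B z z := mul_nonneg (by nlinarith) (bf_nn h z)
  linarith

/-- the vectors killed by `1 + W + W²` -/
def Z3 (W : Matrix R R ℤ) (v : R → ℤ) : Prop := v + W *ᵥ v + W *ᵥ (W *ᵥ v) = 0

theorem Z3.cube {v : R → ℤ} (h : Z3 W v) : W *ᵥ (W *ᵥ (W *ᵥ v)) = v := by
  have h1 := congrArg (W *ᵥ ·) h
  simp only [mulVec_add, mulVec_zero] at h1
  unfold Z3 at h
  linear_combination (norm := module) h1 - h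

theorem Z3.inj {v : R → ℤ} (h : Z3 W v) (e : W *ᵥ v = v) : v = 0 := by
  unfold Z3 at h
  rw [e, e] at h
  refine smul_right_injective _ (three_ne_zero (α := ℤ)) ?_
  show (3 : ℤ) • v = (3 : ℤ) • 0
  linear_combination (norm := module) h

theorem Z3.add {u v : R → ℤ} (h : Z3 W u) (h' : Z3 W v) : Z3 W (u + v) := by
  unfold Z3 at *
  simp only [mulVec_add]
  linear_combination (norm := module) h + h'

theorem Z3.sub {u v : R → ℤ} (h : Z3 W u) (h' : Z3 W v) : Z3 W (u - v) := by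
  unfold Z3 at *
  simp only [mulVec_sub]
  linear_combination (norm := module) h - h'

theorem Z3.w {v : R → ℤ} (h : Z3 W v) : Z3 W (W *ᵥ v) := by
  unfold Z3 at *
  rw [← mulVec_add, ← mulVec_add, h, mulVec_zero]

theorem Z3.map {v : R → ℤ} (h : Z3 W v) (hW : Iso B Λ Ls W) (hc : ∀ v ∈ Λ, γ *ᵥ (W *ᵥ v) = W *ᵥ (γ *ᵥ v)) (hv : v ∈ Λ) :
    Z3 W (γ *ᵥ v) := by
  unfold Z3 at *
  rw [← hc v hv, ← hc _ (hW.mem v hv), ← mulVec_add, ← mulVec_add, h, mulVec_zero]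

theorem Z3.sat {v : R → ℤ} (h : Z3 W ((3 : ℤ) • v)) : Z3 W v := by
  unfold Z3 at *
  refine smul_right_injective _ (three_ne_zero (α := ℤ)) ?_
  show (3 : ℤ) • _ = (3 : ℤ) • 0
  simp only [mulVec_smul] at h
  linear_combination (norm := module) h

theorem Z3.div {a y : R → ℤ} (h : Z3 W a) (h' : Z3 W y) (e : a - W *ᵥ a = (3 : ℤ) • y) :
    a = y + W *ᵥ y - W *ᵥ (y + W *ᵥ y) := by
  refine sub_eq_zero.1 ((h.sub ((h'.add h'.w).sub (h'.add h'.w).w)).inj ?_)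
  simp only [mulVec_add, mulVec_sub, h'.cube]
  unfold Z3 at h'
  linear_combination (norm := module) -h' - e

theorem Z3.norm (h : Lat B Λ Ls W U m r i) {v : R → ℤ} (hv : Z3 W v) :
    toBilin' B (v - W *ᵥ v) (v - W *ᵥ v) = 3 * toBilin' B v v := by
  have a1 := congrArg (toBilin' B v) hv
  have a2 := bf_iso h.iW v v
  have a3 := bf_iso h.iW v (W *ᵥ (W *ᵥ v))
  have a4 := bf_comm h v (W *ᵥ v)
  rw [hv.cube] at a3
  simp only [map_add, map_sub, map_zero, LinearMap.sub_apply] at a1 ⊢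
  linarith

theorem com_pow (h : Lat B Λ Ls W U m r i) (k : ℕ) {v : R → ℤ} (hv : v ∈ Λ) : U *ᵥ (W ^ k *ᵥ v) = W ^ k *ᵥ (U *ᵥ v) := by
  induction k with
  | zero => rw [pow_zero, one_mulVec, one_mulVec]
  | succ k ih => rw [pow_succ', ← mulVec_mulVec, ← mulVec_mulVec, h.com _ (pow_mem h.iW k hv), ih]

theorem ne_pow (h : Lat B Λ Ls W U m r i) {x : R → ℤ} (hx : x ∈ Λ) (h3 : Z3 W x) (k : ℕ) (e : U *ᵥ x = W ^ k *ᵥ x) :
    x = 0 := by
  have a1 : ∀ n : ℕ, U ^ n *ᵥ x = W ^ (n * k) *ᵥ x := fun n => by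
    induction n with
    | zero => rw [zero_mul, pow_zero, pow_zero]
    | succ n ih => rw [pow_succ', ← mulVec_mulVec, ih, com_pow h _ hx, e, mulVec_mulVec, ← pow_add, add_one_mul]
  have a2 : ∀ n : ℕ, W ^ (3 * n) *ᵥ x = x := fun n => by
    induction n with
    | zero => rw [mul_zero, pow_zero, one_mulVec]
    | succ n ih => rw [mul_add_one, pow_add, pow_three, ← mulVec_mulVec, ← mulVec_mulVec, ← mulVec_mulVec, h3.cube, ih]
  have a3 := h.pow x hx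
  rw [a1, ← Nat.sub_add_cancel h.pos', pow_succ', mul_assoc, a2, sq, ← mulVec_mulVec] at a3
  refine h3.inj ?_
  have a4 := h3.cube
  rwa [← a3] at a4

/-- step 2 -/
theorem two (h : Lat B Λ Ls W U m r i) (hL : Ls = ⊤) {x : R → ℤ} (h1 : x ∈ Λ) (h2 : Z3 W x) : x = 0 := by
  by_contra h3
  obtain ⟨x, ⟨h1, h2, h3⟩, hm⟩ := exists_min h {x | x ∈ Λ ∧ Z3 W x ∧ x ≠ 0} ⟨h1, h2, h3⟩
  obtain ⟨d, hd⟩ := h.m3
  obtain ⟨c, hc⟩ := h.r3
  have hW := h.iW.mem
  obtain ⟨γ, hγ, hγW, y, hy⟩ := h.orb 1 (x - W *ᵥ x) (Λ.sub_mem h1 (hW x h1)) (hL ▸ AddSubgroup.mem_top _)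
    (d • W *ᵥ (x - W *ᵥ x) + W *ᵥ x) (hL ▸ AddSubgroup.mem_top _) (by
      unfold Z3 at h2
      rw [mulVec_sub]
      linear_combination (norm := module) hd • (W *ᵥ x - W *ᵥ (W *ᵥ x)) - h2)
  have a1 := hγ.mem x h1
  have a2 := h2.map h.iW hγW h1
  have a3 : γ *ᵥ x ≠ 0 := fun e => by
    obtain ⟨δ, hδ⟩ := inv hγ
    exact h3 (by rw [← hδ x, e, mulVec_zero])
  have a4 := bf_iso hγ x x
  rw [mulVec_sub, hγW x h1] at hy
  generalize γ *ᵥ x = x' at a1 a2 a3 a4 hy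
  have a5 := ne_pow h a1 a2
  have a6 := h.iU.mem x' a1
  have a7 := a2.map h.iW h.com a1
  have a8 := bf_iso h.iU x' x'
  rw [mulVec_sub, h.com x' a1] at hy
  generalize U *ᵥ x' = z at a5 a6 a7 a8 hy
  have b1 : z - x' - W *ᵥ (z - x') = (3 : ℤ) • (y - c • (z - W *ᵥ z)) := by
    rw [mulVec_sub]
    linear_combination (norm := module) hy - hc • (z - W *ᵥ z)
  generalize y - c • (z - W *ᵥ z) = y' at b1
  have b2 : y' ∈ Λ := h.sat 3 three_ne_zero _ (b1 ▸ Λ.sub_mem (Λ.sub_mem a6 a1) (hW _ (Λ.sub_mem a6 a1)))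
  have b3 : Z3 W y' := Z3.sat (b1 ▸ (a7.sub a2).sub (a7.sub a2).w)
  have b4 := (a7.sub a2).div b3 b1
  have b5 := Λ.add_mem b2 (hW _ b2)
  have b6 := b3.add b3.w
  generalize y' + W *ᵥ y' = t at b4 b5 b6
  have key : ∀ z' s, s ∈ Λ → Z3 W s → z' - x' = s - W *ᵥ s → toBilin' B z' z' = toBilin' B z z → z' ≠ x' →
      2 * toBilin' B z' x' ≤ -toBilin' B x x := fun z' s c1 c2 c3 c4 c5 => by
    have c6 := hm s ⟨c1, c2, fun e => c5 (sub_eq_zero.1 (by rw [c3, e, mulVec_zero, sub_zero]))⟩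
    have c7 := c2.norm h
    have c8 := bf_comm h z' x'
    rw [← c3] at c7
    simp only [map_sub, LinearMap.sub_apply] at c7
    linarith
  have k1 := key z t b5 b6 b4 rfl fun e => a3 (a5 0 (by rw [pow_zero, one_mulVec, e]))
  have k2 := key (W *ᵥ z) (t - z) (Λ.sub_mem b5 a6) (b6.sub a7) (by
    rw [mulVec_sub]
    linear_combination (norm := module) b4) (bf_iso h.iW z z) fun e => a3 (a5 2 (by
      rw [sq, ← mulVec_mulVec, ← e, a7.cube]))
  have k3 := key (W *ᵥ (W *ᵥ z)) (t - z - W *ᵥ z) (Λ.sub_mem (Λ.sub_mem b5 a6) (hW z a6)) ((b6.sub a7).sub a7.w) (by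
    rw [mulVec_sub, mulVec_sub]
    linear_combination (norm := module) b4) ((bf_iso h.iW _ _).trans (bf_iso h.iW z z)) fun e => a3 (a5 1 (by
      rw [pow_one, ← e, a7.cube]))
  have k4 := congrArg (fun w => toBilin' B w x') a7
  have k5 := bf_pos h h3
  simp only [map_add, map_zero, LinearMap.add_apply, LinearMap.zero_apply] at k4
  linarith

theorem phi (h : Lat B Λ Ls W U m r i) (s : ℕ) {w : R → ℤ} (hw : w ∈ Λ) (h3 : Z3 (W ^ 3 ^ s) w) : Z3 (U ^ 3 ^ (i + s)) w := by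
  have a1 : ∀ (n : ℕ), ∀ v ∈ Λ, U ^ (3 ^ i * n) *ᵥ v = W ^ n *ᵥ (W ^ n *ᵥ v) := fun n v hv => by
    rw [mulVec_mulVec, ← pow_add, ← two_mul]
    induction n with
    | zero => rw [mul_zero, mul_zero, pow_zero, pow_zero]
    | succ n ih =>
      rw [mul_add_one, mul_add_one, add_comm, add_comm (2 * n), pow_add, pow_add, ← mulVec_mulVec, ← mulVec_mulVec, ih,
        h.pow _ (pow_mem h.iW _ hv)]
  have a2 := h3.cube
  unfold Z3 at *
  rw [pow_add, a1 _ w hw, a1 _ _ (pow_mem h.iW _ (pow_mem h.iW _ hw)), a2, add_right_comm, h3]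

theorem fix (h : Lat B Λ Ls W U m r i) (hL : ∀ v ∈ Λ, Z3 W v → v = 0) {v : R → ℤ} (hv : v ∈ Λ) (s : ℕ)
    (e : W ^ 3 ^ s *ᵥ v = v) : W *ᵥ v = v := by
  induction s with
  | zero => rwa [pow_zero, pow_one] at e
  | succ s ih =>
    refine ih (sub_eq_zero.1 ?_)
    have a1 := Λ.sub_mem (pow_mem h.iW (3 ^ s) hv) hv
    have a2 : Z3 (W ^ 3 ^ s) (W ^ 3 ^ s *ᵥ v - v) := by
      rw [pow_succ, pow_mul, pow_three, ← mulVec_mulVec, ← mulVec_mulVec] at e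
      unfold Z3
      simp only [mulVec_sub]
      linear_combination (norm := module) e
    rcases s with _ | s
    · exact hL _ a1 (by simpa only [pow_zero, pow_one] using a2)
    by_contra a3
    have a4 := (rank_le (A := 0) a3 (phi h _ a1 a2) fun _ => zero_mulVec _).1.trans h.rk
    have a5 : 3 ^ 2 ≤ 3 ^ (i + (s + 1)) := Nat.pow_le_pow_right (by norm_num) (by have := h.pos'; omega)
    omega

theorem lift (h : Lat B Λ Ls W U m r i) (hL : ∀ v ∈ Λ, Z3 W v → v = 0) {v y : R → ℤ} (hv : v ∈ Λ)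
    (e : W *ᵥ v = v + (3 : ℤ) • y) : ∃ v' ∈ Λ, W *ᵥ v' = v' ∧ ∃ y, v' = v + (3 : ℤ) • y := by
  obtain ⟨n, hn, hW⟩ := h.iW.fin
  obtain ⟨s, N, hN, rfl⟩ := Nat.exists_eq_pow_mul_and_not_dvd hn.ne' 3 (by norm_num)
  have a1 : ∀ k : ℕ, ∃ y, W ^ k *ᵥ v = v + (3 : ℤ) • y := fun k => by
    induction k with
    | zero => exact ⟨0, by rw [pow_zero, one_mulVec, smul_zero, add_zero]⟩
    | succ k ih =>
      obtain ⟨y', ih⟩ := ih
      exact ⟨y + W *ᵥ y', by rw [pow_succ', ← mulVec_mulVec, ih, mulVec_add, e, mulVec_smul, smul_add, add_assoc]⟩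
  choose g hg using a1
  have a2 : ∑ k ∈ Finset.range N, W ^ (3 ^ s * k) *ᵥ v ∈ Λ := Λ.sum_mem fun k _ => pow_mem h.iW _ hv
  have a3 := fix h hL a2 s (by
    have b1 := (Finset.sum_range_succ' (fun k => W ^ (3 ^ s * k) *ᵥ v) N).symm.trans (Finset.sum_range_succ _ N)
    rw [hW, mul_zero, pow_zero] at b1
    refine Eq.trans ?_ (add_right_cancel b1)
    rw [mulVec_sum]
    exact Finset.sum_congr rfl fun k _ => by rw [mulVec_mulVec, ← pow_add, mul_add_one, add_comm])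
  obtain ⟨a, b, hab⟩ := Int.prime_three.irreducible.coprime_iff_not_dvd.2 (show ¬ (3 : ℤ) ∣ (N : ℤ) by exact_mod_cast hN)
  refine ⟨b • _, Λ.zsmul_mem a2 b, by rw [mulVec_smul, a3], b • ∑ k ∈ Finset.range N, g (3 ^ s * k) - a • v, ?_⟩
  simp only [hg, Finset.sum_add_distrib, Finset.sum_const, Finset.card_range, ← Finset.smul_sum, ← natCast_zsmul]
  linear_combination (norm := module) hab • v

theorem red {u v y : R → ℤ} (e : u = v + (3 : ℤ) • y) : (fun i => (u i : ZMod 3)) = fun i => (v i : ZMod 3) :=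
  funext fun i => by
    rw [e, Pi.add_apply, Pi.smul_apply, smul_eq_mul, Int.cast_add, Int.cast_mul, show ((3 : ℤ) : ZMod 3) = 0 from rfl,
      zero_mul, add_zero]

/-- step 3 -/
theorem three (h : Lat B Λ Ls W U m r i) (hL : ∀ v ∈ Λ, Z3 W v → v = 0) : (K3 Λ W).ncard ≤ 3 := by
  obtain ⟨u, h1, h2, h3⟩ : ∃ u ∈ Λ, W *ᵥ u = u ∧ ∀ v ∈ Λ, W *ᵥ v = v → v ∈ Ls ∨ u + v ∈ Ls ∨ u - v ∈ Ls := by
    by_cases e : ∃ u ∈ Λ, W *ᵥ u = u ∧ u ∉ Ls
    · obtain ⟨u, h1, h2, h3⟩ := e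
      exact ⟨u, h1, h2, fun v _ _ => h.idx u v h3⟩
    · exact ⟨0, Λ.zero_mem, mulVec_zero _, fun v h1 h2 => Or.inl (by_contra fun h3 => e ⟨v, h1, h2, h3⟩)⟩
  refine (Set.ncard_le_ncard (t := {fun i => ((0 : R → ℤ) i : ZMod 3), fun i => ((-u) i : ZMod 3), fun i => (u i : ZMod 3)})
    ?_).trans ((Set.ncard_insert_le _ _).trans (Nat.succ_le_succ ((Set.ncard_insert_le _ _).trans (by
      rw [Set.ncard_singleton]))))
  rintro _ ⟨v, hv, ⟨y, e⟩, rfl⟩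
  obtain ⟨v', a1, a2, y', a3⟩ := lift h hL hv e
  rw [← red a3]
  rcases h3 v' a1 a2 with b | b | b
  · obtain ⟨z, hz⟩ := one h a1 b a2
    exact Or.inl (red (y := z) (by rw [hz, zero_add]))
  · obtain ⟨z, hz⟩ := one h (Λ.add_mem h1 a1) b (by rw [mulVec_add, h2, a2])
    exact Or.inr (Or.inl (red (y := z) (by rw [← hz, neg_add_cancel_left])))
  · obtain ⟨z, hz⟩ := one h (Λ.sub_mem h1 a1) b (by rw [mulVec_sub, h2, a2])
    exact Or.inr (Or.inr (red (y := -z) (by linear_combination (norm := module) -hz)))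

theorem bound (h0 : 1 + W + W ^ 2 = 0) (h6 : Fintype.card R ≤ 6) : (K3 Λ W).ncard ≤ 27 := by
  have : Fact (Nat.Prime 3) := ⟨Nat.prime_three⟩
  have a0 : ∀ v, Z3 W v := fun v => by
    have a1 := congrArg (· *ᵥ v) h0
    unfold Z3
    simpa only [add_mulVec, one_mulVec, sq, ← mulVec_mulVec, zero_mulVec] using a1
  have a1 : ∀ N : Submodule (ZMod 3) (R → ZMod 3), Module.finrank (ZMod 3) N ≤ 3 → K3 Λ W ⊆ N → (K3 Λ W).ncard ≤ 27 :=
    fun N b1 b2 => (Set.ncard_le_ncard b2).trans (by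
      have b3 := Module.natCard_eq_pow_finrank (K := ZMod 3) (V := N)
      rw [Nat.card_zmod] at b3
      exact (le_of_eq b3).trans (Nat.pow_le_pow_right (by norm_num) b1))
  have a2 := LinearMap.finrank_range_add_finrank_ker ((1 - W).map (Int.cast : ℤ → ZMod 3)).mulVecLin
  rw [Module.finrank_fintype_fun_eq_card] at a2
  by_cases a3 : Module.finrank (ZMod 3) (LinearMap.ker ((1 - W).map (Int.cast : ℤ → ZMod 3)).mulVecLin) ≤ 3
  · refine a1 _ a3 ?_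
    rintro _ ⟨v, -, ⟨y, e⟩, rfl⟩
    rw [SetLike.mem_coe, LinearMap.mem_ker, mulVecLin_apply, cst, red (v := 0) (y := -y) (by
      rw [sub_mulVec, one_mulVec, e]
      module)]
    exact funext fun i => Int.cast_zero
  · refine a1 (LinearMap.range ((1 - W).map (Int.cast : ℤ → ZMod 3)).mulVecLin) (by omega) ?_
    rintro _ ⟨v, -, ⟨y, e⟩, rfl⟩
    refine ⟨fun i => ((-y + W *ᵥ (-y)) i : ZMod 3), ?_⟩
    rw [mulVecLin_apply, cst, sub_mulVec, one_mulVec, ← (a0 v).div (a0 (-y)) (by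
      rw [e]
      module)]

end TL

/-- **the lattice lemma** -/
theorem boxTL : BoxTL := by
  intro R _ _ B Λ Ls W U m r i h
  by_cases hL : ∀ v ∈ Λ, TL.Z3 W v → v = 0
  · exact Or.inl (TL.three h hL)
  push Not at hL
  obtain ⟨x, hx, h3, h0⟩ := hL
  have hT : Ls ≠ ⊤ := fun e => h0 (TL.two h e hx h3)
  have h6 := h.rk'.resolve_left hT
  have h4 : ∀ k : ℕ, TL.Z3 W ((U ^ k).mulVec x) := fun k => by
    induction k with
    | zero => rwa [pow_zero, Matrix.one_mulVec]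
    | succ k ih =>
      rw [pow_succ', ← Matrix.mulVec_mulVec]
      exact ih.map h.iW h.com (TL.pow_mem h.iU k hx)
  have h5 : 3 ^ 1 ≤ 3 ^ (i + 0) := Nat.pow_le_pow_right (by norm_num) h.pos'
  have h1 := (TL.rank_le (A := 1 + W + W ^ 2) h0 (TL.phi h 0 hx (by rwa [pow_zero, pow_one])) fun k => by
    rw [Matrix.add_mulVec, Matrix.add_mulVec, Matrix.one_mulVec, sq, ← Matrix.mulVec_mulVec]
    exact h4 k).2 (by omega)
  exact Or.inr ⟨hT, h1, TL.bound h1 h6⟩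

end Cfsg.Agent.BH.RO
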