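import Cfsg.Agent.BH.RowO.T2
import Cfsg.Agent.BH.RowO.TL
import Cfsg.Agent.BH.RowO.Diag
import Cfsg.Agent.BH.RowO.Sh
import Cfsg.Agent.BH.RowO.Mv
import Cfsg.Agent.BH.RowO.E2
import Cfsg.Agent.BH.RowO.DG
import Cfsg.Agent.BH.RowO.R45
import Cfsg.Agent.BH.RowO.N9b
import Cfsg.Agent.BH.RowO.N9c

/-!
# BH, `RowO` in cross characteristic: the generic boxes, `G₂`, `F₄`, `²F₄` at `l = 3` (helper2)

`bx_of`, `r_g2`, `r_tf4`, `r_f4`.
-/

set_option autoImplicit false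
set_option linter.unusedSectionVars false

namespace Cfsg.Agent.BH.RO

open Cfsg Subgroup Matrix Cfsg.Agent.TO Cfsg.Agent.KM Cfsg.Agent.KM.BK Cfsg.Agent.KM.Ex
open Cfsg.Agent.TO.X.Cn (Pi1 PM pi1 pm_F4)
open Cfsg.Agent.DL Cfsg.Agent.DL.PP Cfsg.Agent.KZ.Lie Cfsg.Agent.KZ.DatX Cfsg.Agent.Nodes.RGDChev Cfsg.Lie
open R45

/-- **the generic boxes** -/
theorem bx_of (hP : BoxP2) : Bx :=
  ⟨boxSh, boxMv, hP, boxE2_of boxMv, boxDG, boxG_of boxDiag, boxT1_of boxTL boxDiag boxMv, boxT6_of boxTL boxDiag boxMv⟩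

theorem No9For.no9 {C : ℕ → ∀ (S : Type) [Group S], Prop} (h : No9For C) {S : Type} [Group S] (hC : C 3 S) : No9 S :=
  fun K _ _ σ M b Q θ A H =>
    have := H.q.simple
    have := Finite.of_surjective σ H.q.surj
    h S H.q.nonab hC K σ M b Q θ A H

theorem r_g2 (B : Bx) : RowAt CG2 (· = 3) :=
  r4_g2 B fun F _ _ h h' => no9_g2.no9 ⟨F, _, _, by exact_mod_cast h, by omega, ⟨.refl _⟩⟩

theorem r_tf4 (B : Bx) : RowAt CTf4 (· = 3) := r4_tf4 B no9_tf4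

theorem row_f4 {r e : ℕ} [Fact r.Prime] {Adm : Matrix (Fin 4) (Fin 4) ℤ → Prop} {S : Type} [Group S] [Finite S] (B : Bx)
    (h : Has hpF4 r ((r : ℤ) ^ e • 1) Adm 1 S) (hr : 3 ≠ r) (he : 0 < e)
    (hA : ∀ A, Adm A → ∃ j : ℕ, A ^ 2 = (r : ℤ) ^ j • 1) (hS : ¬ LV.AbS 3 S) (ns : NS S 3) (h9 : No9c S) : RowO 3 S :=
  row_of_c B.sh B.p2 B.e2 ns h9 fun Q E Γ Γ₀ H => by
    have hl := Fact.mk Nat.prime_three
    obtain ⟨k, _, _, _, X, ⟨s⟩⟩ := h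
    obtain ⟨-, ⟨y, hy⟩, ⟨u, hu, v, hv, u1, v1, huv⟩, -⟩ := B.mv 3 S Q E Γ Γ₀ H
    refine rk2_one (pi1 X pm_F4) hr (Nat.coprime_one_right 3) (nl_of X hl.out bad_F4) (two_of X hl.out bad_F4 twoC_F4)
      (fun v hv => funext fun j => (sr_dot j v).symm.trans (hv _ (Tits.Roots.isRoot_sr _ _ j)))
      (Tits.Roots.isRoot_sr _ _ (0 : Fin 4)) s.ov.inj s.ov.mem hS hy H.ab hu hv u1 v1 huv fun z hz z1 hL => ?_
    exact B.no_lz (s := s.sit) (n := 2) (e := 2 * e) (by decide) hr (by decide) (by omega) (sq_smul r e)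
      (idx_xs s hl.out.not_dvd_one) H (z := ⟨s.ι z, z, rfl⟩)
      ((orderOf_coe _).symm.trans ((orderOf_injective _ s.ov.inj z).trans z1)) ((s.π_ι z).symm ▸ hz) hL
      fun _ _ _ A _ h5 _ => hA A h5

/-- **`F₄(q)`, `l = 3`** -/
theorem r_f4 (B : Bx) (h9 : ∀ (F : Type) [Field F] [Fintype F], (3 : F) ≠ 0 → 8 ≤ Fintype.card F → No9c ↥(chevF4.group F)) :
    RowAt CF4 (· = 3) := by
  rintro _ _ h2 rfl S _ _ _ - ⟨F, _, _, h3, ⟨i⟩⟩
  have := Finite.of_equiv S i.toEquiv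
  obtain ⟨r, e, _, _, -, he, hF, -⟩ := DL.Ex.exists_closure F
  have hr := char_ne (r := r) h3
  refine RowO.of_equiv i (if h5 : 3 ∣ e then ?_ else rowO_of_out ?_)
  · have h6 := H371.HT.not_ab_untw (D := chevF4) (by simp) (nd_card hF hr)
    have h7 := h9 F (by exact_mod_cast h3) (hF ▸ eight_le h5 he)
    have ns : NS ↥(chevF4.group F) 3 := ns_chev hpF4.inList (by simp) h2 (d := 1) (by decide) (S1035.result rfl (chevF4, 1) (by simp))
    by_cases h8 : r = 2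
    · subst h8
      refine row_f4 B (has_F4two hF) hr he ?_ h6 ns h7
      rintro _ ⟨j, A, hA, rfl⟩
      simp only [List.mem_cons, List.not_mem_nil, or_false] at hA
      rcases hA with rfl | rfl
      exacts [⟨_, sq_smul 2 j⟩, ⟨_, gam_sq j⟩]
    · exact row_f4 B (has_F4 hF h8) hr he (fun _ => admF_sq) h6 ns h7
  · rw [S2122.result r e hF]
    intro h6
    rcases (Nat.Prime.dvd_mul Nat.prime_three).1 h6 with h7 | h7
    exacts [absurd (h7.trans (Nat.gcd_dvd_left 2 r)) (by decide), h5 h7]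

end Cfsg.Agent.BH.RO
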