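import Cfsg.Agent.BH.RowO.R1
import Cfsg.Agent.KM.A.Tor

/-!
# BH, `RowO` in cross characteristic: linear and unitary groups without diagonal `l`-automorphisms (helper2)
-/

set_option autoImplicit false
set_option linter.unusedSectionVars false

namespace Cfsg.Agent.BH.RO

open Cfsg Subgroup Matrix Cfsg.Agent.KM
open Cfsg.Agent.DL Cfsg.Agent.DL.PP Cfsg.Agent.KZ.Lie Cfsg.Agent.KZ.Dat Cfsg.Agent.ODD.C2 Cfsg.Agent.ODD.C2.GlA Cfsg.Agent.LangThm
open R1 (pw0 pw_Q)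

namespace R2b

variable {n p : ℕ} [Fact p.Prime] {k : Type} [Field k] [CharP k p] [IsAlgClosed k] {l : ℕ} [hl : Fact l.Prime]

variable (n) in
/-- the scalar matrices -/
noncomputable def sc : kˣ →* GL (Fin (n + 1)) k := ((smA n).τ k).comp (MonoidHom.pi fun _ => MonoidHom.id _)

theorem sc_eq (a : kˣ) : sc n a = (smA n).τ k fun _ => a := rfl

theorem sc_comm (a : kˣ) (y : GL (Fin (n + 1)) k) : Commute y (sc n a) := (cen_iff _).2 ⟨a, rfl⟩ y (mem_GA y)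

theorem sc_inj : Function.Injective (sc n : kˣ → GL (Fin (n + 1)) k) := fun _ _ h => congrFun ((smA n).τ_inj k h) 0

theorem det_sc (a : kˣ) : GeneralLinearGroup.det (sc n a) = a ^ (n + 1) :=
  (det_τA _).trans (by simp [chr_apply])

theorem idxA {Φ : MulAut (GL (Fin (n + 1)) k)} {D : Datum p (MonoidHom.id _) Φ (GA n k)} {Adm : Matrix D.R D.R ℤ → Prop}
    {S : Type} [Group S] (s : Sit D Adm S) (m : ℤ)
    (H : ∀ y, y ∈ s.H0 ↔ y ∈ GF Φ (GA n k) ∧ GeneralLinearGroup.det y = 1) (h1 : ∀ a, Φ (sc n a) = sc n (a ^ m))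
    (h2 : ∀ y, GeneralLinearGroup.det y = 1 → GeneralLinearGroup.det (Φ y) = 1)
    (hg : ¬ l ∣ Int.gcd (n + 1 : ℕ) (m - 1)) : IDX l s where
  ker z hz h := by
    obtain ⟨a, ha⟩ := (cen_iff _).1 ((s.ker z).1 hz)
    obtain ⟨h3, h4⟩ := (H _).1 z.2
    have h5 : Φ z = z := h3.2
    rw [ha, ← sc_eq] at h4 h5
    rw [h1, sc_inj.eq_iff] at h5
    rw [det_sc] at h4
    refine hg (h.trans (orderOf_dvd_of_pow_eq_one (Subtype.ext ?_)))
    rw [coe_pow, ha, ← sc_eq, ← map_pow, ← zpow_natCast, Int.gcd_eq_gcd_ab, _root_.zpow_add, _root_.zpow_mul, _root_.zpow_mul,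
      zpow_natCast, h4, _root_.zpow_sub_one, h5, mul_inv_cancel, _root_.one_zpow, _root_.one_zpow, mul_one, map_one, coe_one]
  idx x _ h := by
    obtain ⟨b, hb⟩ := IsAlgClosed.exists_pow_nat_eq (((GeneralLinearGroup.det x)⁻¹ : kˣ) : k) n.succ_pos
    obtain ⟨b, rfl⟩ : IsUnit b := (isUnit_pow_iff n.succ_ne_zero).1 (hb ▸ Units.isUnit _)
    have h3 : GeneralLinearGroup.det (x * sc n b) = 1 := by
      rw [map_mul, det_sc, show b ^ (n + 1) = _ from Units.ext hb, mul_inv_cancel]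
    obtain ⟨a, ha⟩ := (cen_iff _).1 h.2
    rw [← sc_eq, inv_mul_eq_iff_eq_mul] at ha
    have h4 : Φ (x * sc n b) = x * sc n b * sc n (b⁻¹ * a * b ^ m) := by
      rw [map_mul, ha, h1, mul_assoc, mul_assoc, ← map_mul, ← map_mul, mul_assoc, mul_inv_cancel_left]
    generalize b⁻¹ * a * b ^ m = c at h4
    have h5 : c ^ (n + 1) = 1 := by
      have h6 := h2 _ h3
      rwa [h4, map_mul, h3, one_mul, det_sc] at h6
    refine ⟨_, hg, sc n b ^ Int.gcd (n + 1 : ℕ) (m - 1) * sc n (c ^ (-Int.gcdB (n + 1 : ℕ) (m - 1))),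
      ⟨mem_GA _, fun y _ => ((sc_comm b y).pow_right _).mul_right (sc_comm _ y)⟩, ?_⟩
    rw [← mul_assoc, ← (sc_comm b x).mul_pow, H]
    generalize x * sc n b = y at h3 h4
    refine ⟨⟨mem_GA _, ?_⟩, ?_⟩
    · change Φ _ = _
      rw [map_mul, map_pow, h4, h1, (sc_comm c y).mul_pow, mul_assoc, ← map_pow, ← map_mul, ← zpow_natCast c,
        Int.gcd_eq_gcd_ab, _root_.zpow_add, _root_.zpow_mul, zpow_natCast, h5, _root_.one_zpow, one_mul, ← _root_.zpow_mul,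
        ← _root_.zpow_add]
      congr 3
      ring
    · rw [map_mul, map_pow, h3, one_pow, one_mul, det_sc, ← zpow_natCast, ← _root_.zpow_mul, mul_comm, _root_.zpow_mul,
        zpow_natCast, h5, _root_.one_zpow]

theorem pw_A (A : Matrix (Fin (n + 1)) (Fin (n + 1)) ℤ) (h : AdmA p n A) : ∃ j : ℕ, A ^ 2 = (p : ℤ) ^ j • 1 := by
  obtain ⟨j, rfl | rfl⟩ := h
  exacts [⟨_, pw0 (one_pow 2) j⟩, ⟨_, pw0 ((pow_two _).trans BA_BA) j⟩]

end R2b

open R2b

variable {F : Type} [Field F] [Fintype F] {n q l : ℕ} [hl : Fact l.Prime]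

theorem r2_psl (B : Bx) (h2 : l ≠ 2) (hF : (l : F) ≠ 0) (hn : 2 ≤ n) (h4 : n = 2 → 4 ≤ Fintype.card F)
    (hg : ¬ l ∣ Nat.gcd n (Fintype.card F - 1)) : RowO l (ProjectiveSpecialLinearGroup (Fin n) F) := by
  obtain ⟨p, _, e, k, _, _, _, f, hk, he, hc⟩ := hasL F
  obtain ⟨n, rfl⟩ : ∃ m, n = m + 1 := ⟨n - 1, by omega⟩
  have h3 := (Nat.coprime_primes hl.out Nat.prime_two).2 h2
  refine no_of_lev B (covL f hk he hc (by omega) fun h => h4 (by omega)).sit h2 (A.ne_of_cast f hF)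
    (hl.out.coprime_iff_not_dvd.1 h3) (e := e * 2 + 0) (by omega) (pw0 (one_pow 2) e)
    (idxA _ (p ^ e : ℕ) (covL_H0 f hk he hc _ _) (fun a => ((smA n).frob_τ e _).trans (by rw [zpow_natCast]; rfl))
      (fun y h => (det_frob e y).trans (by rw [h, one_pow])) ?_)
    (A.pi1_A hk he _) (Nat.coprime_one_right l) (A.lev_A hk he _ l) pw_A
  rwa [← hc, ← Nat.cast_pred Fintype.card_pos, Int.gcd_natCast_natCast]

theorem r2_psu (B : Bx) (h2 : l ≠ 2) (hF : (l : F) ≠ 0) (hq : Fintype.card F = q ^ 2) (hn : 3 ≤ n) (h32 : ¬ (n = 3 ∧ q = 2))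
    (hg : ¬ l ∣ Nat.gcd n (q + 1)) : RowO l (PSU n F q) := by
  obtain ⟨p, _, e, k, _, _, _, f, hk, he, rfl⟩ := hasU F hq
  obtain ⟨n, rfl⟩ : ∃ m, n = m + 1 := ⟨n - 1, by omega⟩
  have h3 := (Nat.coprime_primes hl.out Nat.prime_two).2 h2
  refine no_of_lev B (covU f hk he hq (by omega) fun h => h32 ⟨by omega, h.2⟩).sit h2 (A.ne_of_cast f hF)
    (hl.out.coprime_iff_not_dvd.1 h3) (e := e * 2 + 0) (by omega) (pw0 ((pow_two _).trans BA_BA) e)
    (idxA _ (-(p ^ e : ℕ)) (covU_H0 f hk he hq _ _) (fun a => ?_)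
      (fun y h => (det_γA (frob p e y)).trans (by rw [det_frob, h, one_pow, inv_one])) ?_)
    (A.pi1_A hk he _) (Nat.coprime_one_right l) (A.lev_A hk he _ l) pw_Q
  · change γA n k (frob p e ((smA n).τ k _)) = (smA n).τ k _
    rw [(smA n).frob_τ, syG.τ]
    exact congrArg _ (funext fun j => by rw [mon_BA, _root_.zpow_neg, zpow_natCast]; rfl)
  · rwa [← neg_add', Int.gcd_neg, ← Nat.cast_succ, Int.gcd_natCast_natCast]

end Cfsg.Agent.BH.RO
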