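import Cfsg.Agent.BH.RowO.R1
import Cfsg.Agent.KM.Nt
import Cfsg.Agent.PQ.SS.XF

/-!
# BH, `RowO` in cross characteristic: the good primes of the exceptional groups (helper2)
-/

set_option autoImplicit false
set_option linter.unusedSectionVars false

namespace Cfsg.Agent.BH.RO

open Cfsg Subgroup Matrix Cfsg.Agent.KM
open Cfsg.Agent.TO.X.Cn (PM pi1 pm_G2 pm_F4 pm_E6 pm_E7 pm_E8 pm_D4 pm_B2)
open Cfsg.Agent.DL Cfsg.Agent.KZ.Lie Cfsg.Agent.KZ.DatX Cfsg.Agent.Nodes.RGDChev Cfsg.Lie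
open R1 (pw pw0 pw_Q)

namespace R3b

theorem nd_six {l d : ℕ} (hl : l.Prime) (h2 : l ≠ 2) (h3 : l ≠ 3) (hd : d ∣ 6) : ¬ l ∣ d := fun h =>
  (hl.dvd_mul.1 (show l ∣ 2 * 3 from h.trans hd)).elim (fun h => h2 ((Nat.prime_dvd_prime_iff_eq hl Nat.prime_two).1 h))
    fun h => h3 ((Nat.prime_dvd_prime_iff_eq hl Nat.prime_three).1 h)

theorem six_of {R : Type} [Fintype R] [DecidableEq R] {p i n : ℕ} {B : Matrix R R ℤ} (h : B ^ n = (p : ℤ) ^ i • 1) (c : ℕ)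
    (hc : n * c = 6) : B ^ 6 = (p : ℤ) ^ (i * c) • 1 := by
  rw [← hc, pow_mul, h, _root_.smul_pow, one_pow, ← pow_mul]

variable {C : ChevalleyDatum} {m : ℕ} {M : CoxeterMatrix (Fin m)} {hp : IsType C m M} {r : ℕ} [Fact r.Prime]
  {d l e f i : ℕ} [hl : Fact l.Prime] {S T : Type} [Group S] [Finite S] [Group T]

/-- the common form of the rows -/
theorem row (B : Bx) {P : Matrix (Fin m) (Fin m) ℤ} {Adm : Matrix (Fin m) (Fin m) ℤ → Prop}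
    (h : Has hp r ((r : ℤ) ^ e • P) Adm d T) (j : S ≃* T) (h2 : l ≠ 2) (h3 : l ≠ 3) (hr : l ≠ r) (he : 0 < e)
    (hP : P ^ 6 = (r : ℤ) ^ i • 1) (hd : d ∣ 6) (hf : f ∣ 6) (h1 : PM C m f)
    (hL : ∀ (k : Type) [Field k] [CharP k r] [IsAlgClosed k] (X : XF hp r k ((r : ℤ) ^ e • P)), Tor.Lev X.D l)
    (hA : ∀ A, Adm A → ∃ j : ℕ, A ^ 6 = (r : ℤ) ^ j • 1) : RowO l S :=
  no_of_has B h j h2 hr (nd_six hl.out h2 h3 dvd_rfl) (e := e * 6 + i) (by omega) (pw hP e) (nd_six hl.out h2 h3 hd)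
    (hl.out.coprime_iff_not_dvd.2 (nd_six hl.out h2 h3 hf)) (fun k _ _ _ X => ⟨pi1 X h1, hL k X⟩) hA

theorem one_six : (1 : Matrix (Fin m) (Fin m) ℤ) ^ 6 = (r : ℤ) ^ 0 • 1 := by rw [one_pow, pow_zero, one_smul]

theorem admF {n : ℕ} (A : Matrix (Fin m) (Fin m) ℤ) (h : AdmF r A) : ∃ j : ℕ, A ^ n = (r : ℤ) ^ j • 1 :=
  let ⟨j, e⟩ := h
  ⟨_, e ▸ pw0 (one_pow n) j⟩

theorem admL {n i : ℕ} {P : Matrix (Fin m) (Fin m) ℤ} (hP : P ^ n = (r : ℤ) ^ i • 1) (A : Matrix (Fin m) (Fin m) ℤ)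
    (h : AdmL r [1, P] A) : ∃ j : ℕ, A ^ n = (r : ℤ) ^ j • 1 := by
  obtain ⟨j, D, hD, rfl⟩ := h
  rcases List.mem_cons.1 hD with rfl | hD
  exacts [⟨_, pw0 (one_pow n) j⟩, ⟨_, List.mem_singleton.1 hD ▸ pw hP j⟩]

theorem sq_F : GamF ^ 2 = ((2 : ℕ) : ℤ) ^ 1 • 1 := by decide +kernel

theorem sq_G : GamG ^ 2 = ((3 : ℕ) : ℤ) ^ 1 • 1 := by decide +kernel

theorem six_P6 : P6 ^ 6 = (r : ℤ) ^ (0 * 3) • 1 := six_of (n := 2) (by rw [Nt.P6_sq, pow_zero, one_smul]) 3 rfl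

theorem six_P4 : P4 ^ 6 = (r : ℤ) ^ (0 * 2) • 1 := six_of (n := 3) (by rw [Nt.P4_cube, pow_zero, one_smul]) 2 rfl

theorem gcd2 (a : ℕ) : Nat.gcd 2 a ∣ 6 := (Nat.gcd_dvd_left _ _).trans (by decide)

theorem gcd3 (a : ℕ) : Nat.gcd 3 a ∣ 6 := (Nat.gcd_dvd_left _ _).trans (by decide)

end R3b

open R3b

theorem r3_g2 (B : Bx) : RowAt CG2 (5 ≤ ·) := by
  rintro l hl h2 h5 S _ _ _ - ⟨F, _, _, hF, h4, ⟨i⟩⟩
  obtain ⟨r, e, _, _, hr, he, hc⟩ := Nt.exists_char F hF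
  by_cases h3 : r = 3
  · subst h3
    exact row B (has_G2three hc) i h2 (by omega) hr he one_six (one_dvd _) (one_dvd _) pm_G2
      (fun _ _ _ _ X => Ex.lev_G2 X hl.out h5) (admL (six_of sq_G 3 rfl))
  · exact row B (has_G2 hc h3 h4) i h2 (by omega) hr he one_six (one_dvd _) (one_dvd _) pm_G2
      (fun _ _ _ _ X => Ex.lev_G2 X hl.out h5) admF

theorem r3_f4 (B : Bx) : RowAt CF4 (5 ≤ ·) := by
  rintro l hl h2 h5 S _ _ _ - ⟨F, _, _, hF, ⟨i⟩⟩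
  obtain ⟨r, e, _, _, hr, he, hc⟩ := Nt.exists_char F hF
  by_cases h3 : r = 2
  · subst h3
    exact row B (has_F4two hc) i h2 (by omega) hr he one_six (one_dvd _) (one_dvd _) pm_F4
      (fun _ _ _ _ X => Ex.lev_F4 X hl.out h5) (admL (six_of sq_F 3 rfl))
  · exact row B (has_F4 hc h3) i h2 (by omega) hr he one_six (one_dvd _) (one_dvd _) pm_F4
      (fun _ _ _ _ X => Ex.lev_F4 X hl.out h5) admF

theorem r3_e6 (B : Bx) : RowAt CE6 (5 ≤ ·) := by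
  rintro l hl h2 h5 S _ _ _ - ⟨F, _, _, hF, ⟨i⟩⟩
  obtain ⟨r, e, _, _, hr, he, hc⟩ := Nt.exists_char F hF
  exact row B (has_E6 hc) i h2 (by omega) hr he one_six (gcd3 _) (by decide) pm_E6
    (fun _ _ _ _ X => Ex.lev_E6 X hl.out h5) (admL six_P6)

theorem r3_e7 (B : Bx) : RowAt CE7 (5 ≤ ·) := by
  rintro l hl h2 h5 S _ _ _ - ⟨F, _, _, hF, ⟨i⟩⟩
  obtain ⟨r, e, _, _, hr, he, hc⟩ := Nt.exists_char F hF
  exact row B (has_E7 hc) i h2 (by omega) hr he one_six (gcd2 _) (by decide) pm_E7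
    (fun _ _ _ _ X => Ex.lev_E7 X hl.out h5) admF

theorem r3_e8 (B : Bx) : RowAt CE8 (7 ≤ ·) := by
  rintro l hl h2 h5 S _ _ _ - ⟨F, _, _, hF, ⟨i⟩⟩
  obtain ⟨r, e, _, _, hr, he, hc⟩ := Nt.exists_char F hF
  exact row B (has_E8 hc) i h2 (by omega) hr he one_six (one_dvd _) (one_dvd _) pm_E8
    (fun _ _ _ _ X => Ex.lev_E8 X hl.out h5) admF

theorem r3_te6 (B : Bx) : RowAt CTe6 (5 ≤ ·) := by
  rintro l hl h2 h5 S _ _ _ - ⟨F, _, _, q, hF, hq, hc, ⟨i⟩⟩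
  obtain ⟨r, e, _, _, hr, he, rfl⟩ := Nt.exists_char' F hF hq two_ne_zero hc
  exact row B (has_2E6 hc) i h2 (by omega) hr he six_P6 (gcd3 _) (by decide) pm_E6
    (fun _ _ _ _ X => Ex.lev_E6 X hl.out h5) admF

theorem r3_td4 (B : Bx) : RowAt CTd4 (5 ≤ ·) := by
  rintro l hl h2 h5 S _ _ _ - ⟨F, _, _, q, hF, hq, hc, ⟨i⟩⟩
  obtain ⟨r, e, _, _, hr, he, rfl⟩ := Nt.exists_char' F hF hq three_ne_zero hc
  exact row B (has_3D4 hc) i h2 (by omega) hr he six_P4 (one_dvd _) (by decide) pm_D4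
    (fun _ _ _ _ X => Ex.lev_D4 X hl.out (by omega)) admF

theorem r3_tf4 (B : Bx) : RowAt CTf4 (5 ≤ ·) := by
  rintro l hl h2 h5 S _ _ _ - h
  obtain ⟨m, hm, h1⟩ := row_2F4 h.2
  exact row B h1 (.refl S) h2 (by omega) h2 hm (six_of sq_F 3 rfl) (one_dvd _) (one_dvd _) pm_F4
    (fun _ _ _ _ X => Ex.lev_F4 X hl.out h5) admF

theorem r3_ree (B : Bx) : RowOFor CRee := by
  rintro l hl h2 S _ _ _ - h
  obtain ⟨m, hm, h1⟩ := row_2G2 h.2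
  exact row B h1 (.refl S) h2 h.1 h.1 hm (six_of sq_G 3 rfl) (one_dvd _) (one_dvd _) pm_G2
    (fun _ _ _ _ X => Ex.lev_G2 X hl.out (hl.out.five_le_of_ne_two_of_ne_three h2 h.1)) admF

theorem r3_sz (B : Bx) : RowOFor CSz := by
  rintro l hl h2 S _ _ _ - h
  obtain ⟨m, hm, h1⟩ := PQ.SS.row_2B2 h.2
  have h4 := (Nat.coprime_primes hl.out Nat.prime_two).2 h2
  exact no_of_has B h1 (.refl S) h2 h2 (hl.out.coprime_iff_not_dvd.1 h4) (e := m * 2 + 1) (by omega) (pw R1.sq_B m)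
    hl.out.not_dvd_one h4 (fun _ _ _ _ X => ⟨pi1 X pm_B2, Ex.lev_B2 X hl.out (Nat.lt_of_le_of_ne hl.out.two_le h2.symm)⟩) admF

end Cfsg.Agent.BH.RO
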