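import Cfsg.Agent.TO.G2D.D4L

/-!
# BH, `RowO` in cross characteristic: `D₄` modulo three, the finite checks (helper19)
-/

set_option autoImplicit false
set_option maxRecDepth 100000
set_option synthInstance.maxSize 4000

namespace Cfsg.Agent.BH.RO.R7

open Cfsg.Agent.TO.G2D Cfsg.Agent.KZ.ClD Cfsg.Agent.KZ.DatX

/-- the minimal vectors up to sign -/
def LM : List V4 := [(1, 0, 0, 0), (1, 0, 0, -1), (1, 0, -1, 0), (1, -1, 1, 0), (1, -1, 0, 1), (1, -1, 0, 0), (0, 1, 0, -1),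
  (0, 1, -1, 0), (0, 1, -1, -1), (0, 0, 1, 0), (0, 0, 1, -1), (0, 0, 0, 1)]

theorem ck2 : ∀ c ∈ A3, 3 ∣ qD (toV c) → e3 c 0 = false → ∃ x ∈ LM, qD (toV x) = 1 ∧ (∀ a ∈ rD, 3 ∣ dt a c → dt a x = 0) ∧
    ∀ m ∈ LW, ∀ s ∈ [(1 : ℤ), -1], e3 (mv (sm4 s (mm m m1)) c) c = true → e3 (mv (sm4 s (mm m m1)) x) x = true := by
  decide +kernel

theorem ck3 : ∀ v ∈ A3, 3 ∣ qD (toV v) - 1 → ∀ m ∈ LW, ∀ s ∈ [(1 : ℤ), -1], ∀ b ∈ [p4, mm p4 p4],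
    e3 (mv (sm4 s (mm m b)) v) v = false := by decide +kernel

theorem ck4 : ∀ m ∈ LW, ∀ s ∈ [(1 : ℤ), -1], (A3.filter fun v => e3 (mv (sm4 s (mm m p4)) v) v).length ≤ 9 := by
  decide +kernel

theorem ck5 : ∀ B ∈ L4, B ^ 2 = 1 ∨ ∃ b ∈ [p4, mm p4 p4], B = toM b := by decide +kernel

end Cfsg.Agent.BH.RO.R7
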