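import Cfsg.Agent.BH.RowO.Lev
import Cfsg.Agent.BH.RowO.R7a
import Cfsg.Agent.KM.Ex.OneX

/-!
# BH, `RowO` in cross characteristic: `PΩ₈⁺(q)` and `³D₄(q)` at `l = 3` (helper19)

`r7_d4`, `r7_td4`.
-/

set_option autoImplicit false
set_option linter.unusedSectionVars false

namespace Cfsg.Agent.BH.RO

open Cfsg Subgroup Matrix Cfsg.Agent.TO Cfsg.Agent.TO.G2D Cfsg.Agent.KZ.ClD
open Cfsg.Agent.KM.Tor (Loc)
open Cfsg.Agent.DL Cfsg.Agent.DL.PP Cfsg.Agent.KZ.Lie Cfsg.Agent.KZ.DatX Cfsg.Agent.Nodes.RGDChev Cfsg.Lie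

namespace R7

theorem sq4 (c : ℤ) (j : ℕ) {A : Matrix (Fin 4) (Fin 4) ℤ} (h : A ^ 2 = 1) : (c ^ j • A) ^ 2 = c ^ (j * 2) • 1 := by
  rw [_root_.smul_pow, h, ← pow_mul]

theorem grp {G : Type} [Group G] {g a t y t' : G} (h : g * (a * t * a⁻¹) * g⁻¹ = y * t' * y⁻¹) :
    y⁻¹ * g * a * t = t' * (y⁻¹ * g * a) := by
  calc _ = y⁻¹ * (g * (a * t * a⁻¹) * g⁻¹) * (g * a) := by group
    _ = _ := by rw [h]; group

theorem dt_eq (a c : V4) : toV a ⬝ᵥ toV c = dt a c := by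
  simp [toV, dt, dotProduct, Fin.sum_univ_four]

/-- the `l`-elements which commute with `D` and `y` lie in `D` -/
theorem loc_mem {S : Type} [Group S] [Finite S] {D : Subgroup S} {y s : S} (h : Loc 3 ⊤ D y) (hj : s ^ 3 = 1)
    (h1 : ∀ d ∈ D, d * s = s * d) (h2 : s * y = y * s) : s ∈ D := by
  have h3 : IsPGroup 3 (zpowers s) := fun ⟨x, n, hn⟩ => ⟨1, Subtype.ext (by
    change x ^ 3 ^ 1 = 1
    rw [← hn, pow_one, ← zpow_natCast, ← _root_.zpow_mul, mul_comm, _root_.zpow_mul, zpow_natCast, hj, _root_.one_zpow])⟩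
  have h4 : D ≤ normalizer (zpowers s : Set S) := fun d hd => centralizer_le_normalizer _ (by
    rintro _ ⟨n, rfl⟩
    exact (Commute.zpow_right (h1 d hd) n).symm)
  refine h.syl (zpowers s ⊔ D) le_top (h3.to_sup_of_normal_left' h.pg h4) le_sup_right
    (fun x hx => ?_) (mem_sup_left (mem_zpowers s))
  exact (show zpowers s ⊔ D ≤ centralizer {y} from sup_le (zpowers_le.2 fun _ e => e ▸ h2.symm)
    fun d hd _ e => e ▸ (h.comm d hd).symm) hx y rfl |>.symm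

variable [Fact (Nat.Prime 3)] {r : ℕ} [Fact r.Prime] {k : Type} [Field k] [CharP k r] [IsAlgClosed k] {ζ : kˣ}

theorem form (hr : 3 ≠ r) {B : Matrix (Fin 4) (Fin 4) ℤ} (hB : X.WM chevD4 4 B) (hζ : IsPrimitiveRoot ζ 3) (j : ℕ) (b : M4) :
    ∃ m ∈ LW, ∃ s ∈ [(1 : ℤ), -1], ∀ v, mon (B * (r : ℤ) ^ j • toM b) (coch (toV v) ζ) = coch (toV v) ζ ↔
      e3 (mv (sm4 s (mm m b)) v) v = true := by
  obtain ⟨m, hm, rfl⟩ := wm_D hB
  have h1 : ¬ (3 : ℤ) ∣ (r : ℤ) ^ j := fun h => hr ((Nat.prime_dvd_prime_iff_eq Nat.prime_three Fact.out).1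
    (Nat.prime_three.dvd_of_dvd_pow (n := j) (by exact_mod_cast h)))
  obtain ⟨s, hs, h2⟩ : ∃ s ∈ [(1 : ℤ), -1], 3 ∣ (r : ℤ) ^ j - s := by
    simp only [List.mem_cons, List.not_mem_nil, or_false, exists_eq_or_imp, exists_eq_left]
    omega
  refine ⟨m, hm, s, hs, fun v => ?_⟩
  rw [mon_coch, coch_eq hζ, e3_iff, toV_mv, toM_sm4, toM_mm, Matrix.mul_smul, smul_mulVec, smul_mulVec]
  refine forall_congr' fun i => ?_
  rw [Pi.smul_apply, Pi.smul_apply, smul_eq_mul, smul_eq_mul, Nat.cast_ofNat,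
    ← dvd_add_right (h2.mul_right (((toM m * toM b) *ᵥ toV v) i)) (c := s * _ - _)]
  exact (congrArg _ (by ring)).to_iff

theorem norm3 (hζ : IsPrimitiveRoot ζ 3) (x : Fin 4 → ℤ) : ∃ v ∈ A3, coch x ζ = coch (toV v) ζ ∧ 3 ∣ qD x - qD (toV v) := by
  obtain ⟨w, h3, h4⟩ := exists_vec hζ (coch_p hζ x)
  obtain ⟨v, h5, rfl⟩ := exists_A3 h3
  exact ⟨v, h5, h4, qD_cong ((coch_eq hζ).1 h4)⟩

theorem coch_zero : coch (0 : Fin 4 → ℤ) ζ = 1 := funext fun _ => zpow_zero ζ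

variable {Mx : Matrix (Fin 4) (Fin 4) ℤ} (X : XF hpD4 r k Mx) (y : ↥(chevD4.group k))

/-- the coordinates of a conjugate torus -/
noncomputable def ty : (Fin 4 → kˣ) →* ↥(chevD4.group k) := (MulAut.conj y).toMonoidHom.comp X.D.τ

theorem ty_inj : Function.Injective (ty X y) := (MulAut.conj y).injective.comp X.D.τ_inj

theorem ty_three (hζ : IsPrimitiveRoot ζ 3) (x : Fin 4 → ℤ) : ty X y (coch x ζ) ^ 3 = 1 := by
  rw [← map_pow, coch_p hζ, map_one]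

theorem ty_au {α : MulAut ↥(chevD4.group k)} {A : Matrix (Fin 4) (Fin 4) ℤ} (h : Au X.D α A) {g : ↥(chevD4.group k)}
    {c : Fin 4 → kˣ} (h1 : g * α (ty X y c) * g⁻¹ = ty X y c) : ∃ B, TO.X.WM chevD4 4 B ∧ mon (B * A) c = c := by
  have h2 : g * α (y * X.D.τ c * y⁻¹) * g⁻¹ = y * X.D.τ c * y⁻¹ := h1
  rw [map_mul, map_mul, map_inv, h.tau c] at h2
  obtain ⟨w, hw⟩ := exists_wm (D := X.D) (y := y⁻¹ * g * α y) trivial (grp h2)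
  exact ⟨_, wm_Wm (X := X) w, (mon_mul _ _ _).trans hw.symm⟩

variable {X y} {Adm : Matrix (Fin 4) (Fin 4) ℤ → Prop} {d : ℕ} {S : Type}
  [Group S] [Finite S] (s : XS X Adm d S) {Q E : Subgroup S} {Γ Γ₀ : Subgroup (MulAut S)}

/-- the elements of `Z0 {z}` commute with the centralizer of `z` -/
theorem comm_Z0 (hr : 3 ≠ r) (hζ : IsPrimitiveRoot ζ 3) (hN : y⁻¹ * X.F y ∈ X.D.NN) {c x : V4}
    (h : ∀ a ∈ rD, 3 ∣ dt a c → dt a x = 0) {g : ↥(chevD4.group k)}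
    (hg : g * ty X y (coch (toV c) ζ) = ty X y (coch (toV c) ζ) * g) :
    g * ty X y (coch (toV x) ζ) = ty X y (coch (toV x) ζ) * g := by
  refine KM.Ht.cen_comm_Z0 (X := X.D.conj trivial hN) {ty X y (coch (toV c) ζ)}
    (KM.Tor.cc ((TO.X.Cn.pi1 X TO.X.Cn.pm_D4).conj trivial hN) Nat.prime_three hr (by decide)
      ((KM.Ex.lev_D4 X Nat.prime_three le_rfl).conj trivial hN) (Set.finite_singleton _)
      (Set.singleton_subset_iff.2 ((X.D.conj trivial hN).τ_mem _)) (fun _ e => ⟨1, e ▸ ty_three X y hζ _⟩) g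
      trivial (mem_centralizer_singleton_iff.2 hg)) (KM.Ht.mem_Z0 (X := X.D.conj trivial hN) (fun a ha => ?_) ζ)
  obtain ⟨a', b1, rfl⟩ := rt_D.1 ((X.rt_iff a).1 ha.1)
  have b2 := (TO.X.Cn.χ_exp (X.D.conj trivial hN) _ _ ζ).1 (ha.2 _ rfl)
  rw [← hζ.eq_orderOf] at b2
  exact (dt_eq _ _).trans (h a' b1 (dt_eq a' c ▸ b2))

/-- a frame for the elements of order three -/
theorem frame (hr : 3 ≠ r) (hζ : IsPrimitiveRoot ζ 3) (hQ : Q ≤ Ce Q) {e : ℕ} {b : M4} (hM : Mx = (r : ℤ) ^ e • toM b) :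
    ∃ y : ↥(chevD4.group k), y⁻¹ * X.F y ∈ X.D.NN ∧ ∃ m ∈ LW, ∃ t ∈ [(1 : ℤ), -1],
      (∀ v, X.F (ty X y (coch (toV v) ζ)) = ty X y (coch (toV v) ζ) ↔ e3 (mv (sm4 t (mm m b)) v) v = true) ∧
      ∀ u ∈ Q, u ^ 3 = 1 → ∃ v ∈ A3, s.ι u = ty X y (coch (toV v) ζ) := by
  obtain ⟨y, hy, hN, h1, -⟩ := KM.Tor.exists_frame (TO.X.Cn.pi1 X TO.X.Cn.pm_D4) Nat.prime_three hr (by decide)
    (KM.Ex.lev_D4 X Nat.prime_three le_rfl) (Z := s.ι '' {u | u ∈ Q ∧ u ^ 3 = 1}) ((Set.toFinite _).image _)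
    (fun _ _ => trivial) (fun _ ⟨u, hu, e⟩ => ⟨u, hu, e.trans (e ▸ (s.ov.mem u).2).symm⟩)
    (fun _ ⟨u, hu, e⟩ => ⟨1, by rw [← e, pow_one, ← map_pow, hu.2, map_one]⟩)
    fun _ ⟨u, hu, e⟩ _ ⟨v, hv, e'⟩ => by rw [← e, ← e', ← map_mul, ← map_mul, hQ hv.1 u hu.1]
  obtain ⟨m, hm, t, ht, h2⟩ := form hr (wm_Wm (X := X) (X.D.pr (y⁻¹ * X.F y))) hζ e b
  refine ⟨y, hN, m, hm, t, ht, fun v => ?_, fun u hu h3 => ?_⟩
  · subst hM
    exact ((congrArg (· = _) ((X.D.conj hy hN).F_τ (coch (toV v) ζ))).to_iff.trans (ty_inj X y).eq_iff).trans (h2 v)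
  · obtain ⟨c, hc⟩ : ∃ c, ty X y c = s.ι u := ((X.D.conj hy hN).mem_T _).1 (h1 ⟨u, ⟨hu, h3⟩, rfl⟩)
    obtain ⟨w, h4, rfl⟩ := exists_vec hζ (e := c) (ty_inj X y (by rw [map_pow, hc, ← map_pow, h3, map_one, map_one]))
    obtain ⟨v, h5, rfl⟩ := exists_A3 h4
    exact ⟨v, h5, hc.symm⟩

include s in
theorem rk2 (hr : 3 ≠ r) (hQ : Q ≤ Ce Q) {e : ℕ} (hM : Mx = (r : ℤ) ^ e • P4) : Rk2 3 Q := by
  obtain ⟨ζ, hζ⟩ := exists_zeta (k := k) hr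
  obtain ⟨y, -, m, hm, t, ht, h1, h2⟩ := frame s hr hζ hQ (hM.trans (by rw [G2D.P4_eq]))
  rw [Rk2, ← Set.ncard_image_of_injective _ s.ov.inj]
  refine (Set.ncard_le_ncard (t := (fun v => ty X y (coch (toV v) ζ)) ''
    ↑(A3.filter fun v => e3 (mv (sm4 t (mm m p4)) v) v).toFinset) ?_ ((Finset.finite_toSet _).image _)).trans
    ((Set.ncard_image_le (Finset.finite_toSet _)).trans ((Set.ncard_coe_finset _).trans_le
      ((List.toFinset_card_le _).trans (ck4 m hm t ht))))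
  rintro _ ⟨u, hu, rfl⟩
  obtain ⟨v, h3, h4⟩ := h2 u hu.1 hu.2
  exact ⟨v, Finset.mem_coe.2 (List.mem_toFinset.2 (List.mem_filter.2 ⟨h3, (h1 v).1 (h4 ▸ (s.ov.mem u).2)⟩)), h4.symm⟩

/-- no element of norm one -/
theorem no_one {e : ℕ} {X : XF hpD4 r k ((r : ℤ) ^ e • 1)} (s : XS X (AdmL r L4) d S) (B : Bx) (hr : 3 ≠ r) (he : 0 < e)
    (hd : ¬ 3 ∣ d) (hζ : IsPrimitiveRoot ζ 3) (h : Sh 3 Q E Γ Γ₀) {u : S} (hu : u ∈ Q)
    {x : Fin 4 → ℤ} (h1 : s.ι u = ty X y (coch x ζ)) : ¬ 3 ∣ qD x - 1 := fun h2 => by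
  obtain ⟨v, h5, h4, h6⟩ := norm3 hζ x
  have h7 : s.ι u ^ 3 = 1 := h1 ▸ ty_three X y hζ x
  refine B.no_lz (s := s.sit) (l := 3) (n := 2) (e := e * 2) (by decide) hr (by decide) (by omega)
    (sq4 r e (one_pow 2)) (idx_xs s hd) h
    (z := ⟨s.ι u, u, rfl⟩) (orderOf_eq_prime (Subtype.ext h7) fun h8 => ?_) ((s.π_ι u).symm ▸ hu)
    (lz_of_lev hr (TO.X.Cn.pi1 X TO.X.Cn.pm_D4) (by decide) (KM.Ex.lev_D4 X Nat.prime_three le_rfl) (s.ov.mem u) h7) ?_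
  · have h10 := qD_cong ((coch_eq hζ).1 ((ty_inj X y (h1.symm.trans ((congrArg Subtype.val h8).trans
      (map_one _).symm))).trans coch_zero.symm))
    rw [show qD 0 = 0 by decide] at h10
    omega
  rintro g - α _ hα ⟨j, A, hA, rfl⟩ h8
  rcases ck5 A hA with h9 | ⟨b, hb, rfl⟩
  · exact ⟨j * 2, sq4 r j h9⟩
  have h9 : g * α (s.ι u) * g⁻¹ = s.ι u := h8
  rw [h1, h4] at h9
  obtain ⟨W, hW, h10⟩ := ty_au X y hα h9
  obtain ⟨m, hm, t, ht, h11⟩ := form hr hW hζ j b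
  exact absurd ((h11 v).1 h10) (Bool.eq_false_iff.1 (ck3 v h5 (by omega) m hm t ht b hb))

theorem no_sh {e : ℕ} {X : XF hpD4 r k ((r : ℤ) ^ e • 1)} (s : XS X (AdmL r L4) d S) (B : Bx) (hr : 3 ≠ r) (he : 0 < e)
    (hd : ¬ 3 ∣ d) (h : Sh 3 Q E Γ Γ₀) : False := by
  obtain ⟨ζ, hζ⟩ := exists_zeta (k := k) hr
  obtain ⟨-, ⟨y₀, hL⟩, ⟨u, hu, v, hv, o1, o2, hn⟩, -⟩ := B.mv 3 S Q E Γ Γ₀ h
  obtain ⟨y, hN, m, hm, t, ht, h1, h2⟩ := frame s hr hζ h.ab (e := e) (b := m1) (by rw [toM_m1])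
  have k1 : ∀ z ∈ Q, ∀ x : Fin 4 → ℤ, s.ι z = ty X y (coch x ζ) → ¬ 3 ∣ qD x - 1 := fun z hz x e =>
    no_one s B hr he hd hζ h hz e
  have k0 : ∀ z ∈ Q, ∀ x : Fin 4 → ℤ, s.ι z = ty X y (coch x ζ) → z ≠ 1 → ¬ 3 ∣ qD x := fun z hz x e1 n1 q => by
    obtain ⟨c, h5, h4, h6⟩ := norm3 hζ x
    rw [h4] at e1
    obtain ⟨x', -, a1, a3, a2⟩ := ck2 c h5 (by omega) (Bool.eq_false_iff.2 fun e => n1 (s.ov.inj (by
      rw [e1, (coch_eq hζ).2 (e3_iff.1 e), toV_zero, coch_zero, map_one, map_one])))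
    have a5 := ty_three X y hζ (toV x')
    obtain ⟨i, hi⟩ := exists_pow_eq_self_of_coprime (x := ty X y (coch (toV x') ζ)) (n := d)
      (((Nat.prime_three.coprime_iff_not_dvd.2 hd).coprime_dvd_left (orderOf_dvd_of_pow_eq_one a5)).symm)
    obtain ⟨z', hz'⟩ : ty X y (coch (toV x') ζ) ∈ s.ι.range :=
      hi ▸ pow_mem (s.pow_mem ⟨trivial, (h1 x').2 (a2 m hm t ht ((h1 c).1 (e1 ▸ (s.ov.mem z).2)))⟩) i
    have a7 : ∀ g : S, g * z = z * g → g * z' = z' * g := fun g hg => s.ov.inj (by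
      rw [map_mul, map_mul, hz']
      exact comm_Z0 hr hζ hN a3 (by rw [← e1, ← map_mul, hg, map_mul]))
    exact k1 z' (loc_mem hL (s.ov.inj (by rw [map_pow, hz', a5, map_one])) (fun g hg => a7 g (h.ab hz g hg))
      (a7 y₀ (hL.comm z hz).symm).symm) _ hz' (by rw [a1]; decide)
  obtain ⟨a, -, ha⟩ := h2 u hu (o1 ▸ pow_orderOf_eq_one u)
  obtain ⟨b, -, hb⟩ := h2 v hv (o2 ▸ pow_orderOf_eq_one v)
  have e1 : s.ι (u * v) = ty X y (coch (toV a + toV b) ζ) := by rw [map_mul, ha, hb, ← map_mul, ← coch_add]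
  have e2 : s.ι (u * v⁻¹) = ty X y (coch (toV a + -toV b) ζ) := by
    rw [map_mul, map_inv, ha, hb, ← map_inv, ← map_mul, ← coch_neg, ← coch_add]
  have q1 := k0 u hu _ ha fun e => by simp [e] at o1
  have q2 := k0 v hv _ hb fun e => hn (e ▸ one_mem _)
  have q3 := k0 _ (mul_mem hu hv) _ e1 fun e => hn (eq_inv_of_mul_eq_one_right e ▸ inv_mem (mem_zpowers u))
  have q4 := k0 _ (mul_mem hu (inv_mem hv)) _ e2 fun e => hn (mul_inv_eq_one.1 e ▸ mem_zpowers u)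
  have q5 := k1 u hu _ ha
  have q6 := k1 v hv _ hb
  have q7 := k1 _ (mul_mem hu hv) _ e1
  have q8 := k1 _ (mul_mem hu (inv_mem hv)) _ e2
  have q9 := qD_par (toV a) (toV b)
  omega

end R7

open R7

/-- **`PΩ₈⁺(q)` at `l = 3`** -/
theorem r7_d4 (B : Bx) (F : Type) [Field F] [Fintype F] (hF : ((3 : ℕ) : F) ≠ 0) (S : Type) [Group S] [Finite S]
    (i : S ≃* POmega F (quadFormPlus 4 F)) : RowO 3 S := by
  have : Fact (Nat.Prime 3) := ⟨Nat.prime_three⟩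
  obtain ⟨r, _⟩ := CharP.exists F
  obtain ⟨e, hr, he⟩ := FiniteField.card F r
  have : Fact r.Prime := ⟨hr⟩
  obtain ⟨k, _, _, _, X, ⟨s⟩⟩ := (has_plus8 he).congr i
  exact row_of_no B.sh fun _ _ _ _ h => no_sh s B (fun e => hF (e ▸ CharP.cast_eq_zero F r)) e.2
    (fun h3 => absurd (h3.trans (Nat.gcd_dvd_left _ _)) (by decide)) h

/-- **`³D₄(q)` at `l = 3`** -/
theorem r7_td4 (B : Bx) (h9 : No9For KM.CTd4) : RowAt KM.CTd4 (· = 3) := by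
  rintro _ _ h2 rfl S _ _ _ hS hC
  refine row_of B.sh B.p2 h2 (fun _ => h9 S hS hC) fun Q E Γ Γ₀ h => ?_
  obtain ⟨K, _, _, q, h1, hq, hK, ⟨i⟩⟩ := hC
  obtain ⟨r, e, _, _, -, -, rfl, -⟩ := DL.Tw.setup hq three_ne_zero hK
  obtain ⟨k, _, _, _, X, ⟨s⟩⟩ := (has_3D4 hK).congr i
  exact rk2 s (fun e => h1 (e ▸ CharP.cast_eq_zero K r)) h.ab rfl

end Cfsg.Agent.BH.RO
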