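import Cfsg.Agent.BH.RowO.Defs

/-!
# BH, `RowO` in cross characteristic: the good primes from the boxes (helper2)

`IDX.lift`, `idx_xs`, `lz_of_lev`, `Bx.no_lz`, `no_of_lev`, `no_of_xs`.
-/

set_option autoImplicit false
set_option linter.unusedSectionVars false

namespace Cfsg.Agent.BH.RO

open Cfsg Subgroup Matrix Cfsg.Agent.TO
open Cfsg.Agent.KM.Tor (Lev)
open Cfsg.Agent.TO.X.Cn (Pi1)
open Cfsg.Agent.DL Cfsg.Agent.DL.PP Cfsg.Agent.KZ.Lie Cfsg.Agent.KZ.DatX Cfsg.Agent.Nodes.RGDChev Cfsg.Lie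

section

variable {p : ℕ} [Fact p.Prime] {k : Type} [Field k] [CharP k p] {Y : Type} [Group Y] {N : Type} [Fintype N]
  [DecidableEq N] {ρ : Y →* GL N k} {F : MulAut Y} {G : Subgroup Y} [IsAlgClosed k] {D : Datum p ρ F G}
  {Adm : Matrix D.R D.R ℤ → Prop} {S : Type} [Group S] {s : Sit D Adm S} {l n e f : ℕ} [hl : Fact l.Prime]

/-- elements of order `l` lift to elements of order `l` -/
theorem IDX.lift (h : IDX l s) {u : S} (hu : orderOf u = l) : ∃ z : s.H0, orderOf z = l ∧ s.π z = u := by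
  obtain ⟨x, rfl⟩ := s.surj u
  have h1 := h.ker (x ^ l) (by rw [map_pow, ← hu, pow_orderOf_eq_one])
  obtain ⟨c, hc⟩ := exists_pow_eq_self_of_coprime (x := s.π x) (n := orderOf (x ^ l))
    (by rw [hu]; exact (hl.out.coprime_iff_not_dvd.2 h1).symm)
  have h2 : s.π ((x ^ orderOf (x ^ l)) ^ c) = s.π x := by rw [map_pow, map_pow, hc]
  refine ⟨_, orderOf_eq_prime ?_ fun h3 => ?_, h2⟩
  · rw [← pow_mul, ← pow_mul, show orderOf (x ^ l) * (c * l) = l * (orderOf (x ^ l) * c) by ring, pow_mul, pow_mul,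
      pow_orderOf_eq_one, one_pow]
  · rw [← h2, h3, map_one, orderOf_one] at hu
    exact hl.out.one_lt.ne hu

theorem lz_of_lev (hp : l ≠ p) (h1 : Pi1 D f) (hf : l.Coprime f) (hL : Lev D l) {z : Y} (hz : z ∈ GF F G)
    (h : z ^ l = 1) : Lz D z := by
  obtain ⟨g, hg, hN, -, h2, h3⟩ := KM.Tor.exists_frame h1 hl.out hp hf hL (Z := {z}) (Set.finite_singleton z)
    (Set.singleton_subset_iff.2 hz.1) (fun _ e => e.symm ▸ hz.2) (fun _ e => ⟨1, by rw [e, pow_one, h]⟩)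
    fun _ e _ e' => by rw [e, e']
  exact ⟨g, hg, hN, h2 rfl, h3⟩

variable [Finite S]

/-- the generic argument for a shadow -/
theorem Bx.no_lz (B : Bx) (h2 : l ≠ 2) (hp : l ≠ p) (hn : ¬ l ∣ n) (he : 0 < e) (hM : D.Mx ^ n = (p : ℤ) ^ e • 1)
    (hI : IDX l s) {Q E : Subgroup S} {Γ Γ₀ : Subgroup (MulAut S)} (h : Sh l Q E Γ Γ₀) {z : s.H0} (hz : orderOf z = l)
    (hQ : s.π z ∈ Q) (hL : Lz D z) : ¬ Scz D Adm n z :=
  let ⟨h3, ⟨y, h4⟩, _⟩ := B.mv l S Q E Γ Γ₀ h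
  B.g D Adm S s l n e hl.out h2 hp hn he hM hI Q y h4 h.ab h3 z hz hQ hL

/-- **good primes** -/
theorem no_of_lev (B : Bx) (s : Sit D Adm S) (h2 : l ≠ 2) (hp : l ≠ p) (hn : ¬ l ∣ n) (he : 0 < e)
    (hM : D.Mx ^ n = (p : ℤ) ^ e • 1) (hI : IDX l s) (h1 : Pi1 D f) (hf : l.Coprime f) (hL : Lev D l)
    (hA : ∀ A, Adm A → ∃ j : ℕ, A ^ n = (p : ℤ) ^ j • 1) : RowO l S := row_of_no B.sh fun Q E Γ Γ₀ h => by
  obtain ⟨-, -, ⟨u, hu, -, -, h3, -⟩, -⟩ := B.mv l S Q E Γ Γ₀ h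
  obtain ⟨z, h4, rfl⟩ := hI.lift h3
  exact B.no_lz h2 hp hn he hM hI h h4 hu (lz_of_lev hp h1 hf hL (s.le z.2)
    (by rw [← coe_pow, ← h4, pow_orderOf_eq_one, coe_one])) fun _ _ _ A _ h5 _ => hA A h5

end

variable {C : ChevalleyDatum} {m : ℕ} {M : CoxeterMatrix (Fin m)} {hp : IsType C m M} {r : ℕ} [Fact r.Prime] {k : Type}
  [Field k] [CharP k r] [IsAlgClosed k] {Mx : Matrix (Fin m) (Fin m) ℤ} {X : XF hp r k Mx}
  {Adm : Matrix (Fin m) (Fin m) ℤ → Prop} {d l n e f : ℕ} [hl : Fact l.Prime] {S : Type} [Group S]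

theorem cn_one {z : ↥(C.group k)} (hp : IsType C m M) (h : Cn ⊤ z) : z = 1 := by
  have h2 : z ∈ center ↥(C.group k) := mem_center_iff.2 fun y => h.2 y trivial
  rwa [H70.OutCount.center_eq_bot hp.inList, mem_bot] at h2

theorem idx_xs (s : XS X Adm d S) (hd : ¬ l ∣ d) : IDX l s.sit where
  ker h h1 := by
    rw [s.sit_π_inj (h1.trans (map_one _).symm), orderOf_one]
    exact hl.out.not_dvd_one
  idx x _ h := ⟨d, hd, 1, ⟨trivial, fun y _ => by rw [mul_one, one_mul]⟩, by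
    rw [mul_one]
    exact s.pow_mem ⟨trivial, (inv_mul_eq_one.1 (cn_one hp h)).symm⟩⟩

/-- **good primes, adjoint groups** -/
theorem no_of_has [Finite S] {T : Type} [Group T] (B : Bx) (h : Has hp r Mx Adm d T) (i : S ≃* T) (h2 : l ≠ 2) (hr : l ≠ r)
    (hn : ¬ l ∣ n) (he : 0 < e) (hM : Mx ^ n = (r : ℤ) ^ e • 1) (hd : ¬ l ∣ d) (hf : l.Coprime f)
    (h1 : ∀ (k : Type) [Field k] [CharP k r] [IsAlgClosed k] (X : XF hp r k Mx), Pi1 X.D f ∧ Lev X.D l)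
    (hA : ∀ A, Adm A → ∃ j : ℕ, A ^ n = (r : ℤ) ^ j • 1) : RowO l S := by
  obtain ⟨k, _, _, _, X, ⟨s⟩⟩ := h.congr i
  exact no_of_lev B s.sit h2 hr hn he hM (idx_xs s hd) (h1 k X).1 hf (h1 k X).2 hA

end Cfsg.Agent.BH.RO
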