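import Cfsg.Agent.BH.RowO.N9c
import Cfsg.Agent.TO.T3.Asm
import Cfsg.Agent.TO.F4.Main
import Cfsg.Agent.TO.X.Rows
import Cfsg.Agent.S0908
import Cfsg.Agent.S1062

/-!
# BH (S4524), `RowO`: no block with the defect group `3²` for `F₄(q)`, `E₇(q)`, `E₈(q)` (helper99)

The end games of `TO/T3` and `TO/F4`, with `Hyp` replaced by `N9`.
-/

set_option autoImplicit false
set_option linter.unusedSectionVars false

namespace Cfsg.Agent.BH.RO.N9a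

section neg

open Cfsg Subgroup Cfsg.Agent.TO Cfsg.Agent.TO.T3 Cfsg.Agent.TO.X3N

variable {Y : Type} [Group Y] {Φ : MulAut Y} {P : Pk Y Φ} {X : Type} [Group X] {ι : X →* Y} {G : Type} [Group G] [Finite G]
  {σ : G →* X} {M : Ideal AlgInt} {b : Set (IrrCharacter G)} {D : Subgroup G} {θ : G → ℂ} {A : Subgroup (MulAut X)}

theorem perf (H : QHyp 3 M b D θ σ) : commutator G = ⊤ := H.qs.1.commutator_eq_top

theorem zd {c : ℕ} (h : TO.X.ZD c X) (H : QHyp 3 M b D θ σ) : Nat.card (center G) ∣ c := h G σ (perf H) H.surj H.ker H.cyc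

theorem bij (h : TO.X.ZD 1 X) (H : QHyp 3 M b D θ σ) : Function.Bijective σ :=
  ⟨(MonoidHom.ker_eq_bot_iff σ).1 (H.ker.trans (Subgroup.card_eq_one.1 (Nat.dvd_one.1 (zd h H)))), H.surj⟩

theorem cov2 (H : QHyp 3 M b D θ σ) (h : Nat.card (center G) ∣ 2) : Cov2 σ := by
  have h1 : ∀ z, σ z = 1 → z ∈ center G := fun z hz => H.ker ▸ hz
  refine ⟨fun z hz => mem_center_iff.1 (h1 z hz), fun z hz => ?_⟩
  exact orderOf_dvd_iff_pow_eq_one.1 (((center G).orderOf_dvd_natCard (h1 z hz)).trans h)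

/-- the principal block has the Sylow subgroups as defect groups -/
theorem not_kr {p n : ℕ} [hp : Fact p.Prime] (h : Can p M b D θ) (h1 : Nat.card D = p ^ n) (h2 : p ^ (n + 1) ∣ Nat.card G)
    (h3 : ∀ c ∈ Ce D, IsPRegular p c → c ∈ h.kr) : False := by
  obtain ⟨χ, h4, h5⟩ := h.prin (h.eq_one_of_kr h3)
  have h6 := S0908.result p M h.hM b h.hb D h.hD
  have h7 : sInf ((fun χ : IrrCharacter G => (charDegree (χ : G → ℂ)).factorization p) '' b) = 0 :=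
    Nat.sInf_eq_zero.2 (.inl ⟨χ, h4, by simp [h5, charDegree]⟩)
  rw [h1, blockDefect, h7, Nat.sub_zero, Nat.pow_right_inj hp.out.one_lt] at h6
  have h8 := (hp.out.pow_dvd_iff_le_factorization Nat.card_pos.ne').1 h2
  omega

theorem false_of_AA (C : Cov2 σ) (hs : Function.Surjective σ) (h : Can 3 M b D θ)
    (s : Sit P ι A (D.map σ)) {z : X} (hz : z ∈ D.map σ) (h1 : z ≠ 1) (hn : ¬ D.map σ ≤ P.H ι (D.map σ) z)
    (hk : ∀ g, σ g ∈ P.AA ι (D.map σ) z → g ^ (P.q ^ 2 + P.q + 1) = 1 → g ∈ h.kr) : False := by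
  have := Fact.mk Nat.prime_three
  have : Finite X := Finite.of_surjective σ hs
  obtain ⟨a1, a2, -, -, c, c1, c2, c3, c4, c5⟩ := boxLI Y Φ P X ι _ _ s (map_ab h.ab) z hz h1 hn
  have hN := odd_N P.q
  have hN3 : Odd (3 * (P.q ^ 2 + P.q + 1)) := Odd.mul (by decide) hN
  obtain ⟨g₀, rfl⟩ := hs c
  obtain ⟨c, e, h3⟩ := C.lift hN3 (g := g₀) (by rw [zpow_mul, zpow_ofNat, a1 _ c3])
  rw [← e] at c1 c2 c3 c4 c5
  rw [zpow_mul, zpow_ofNat] at h3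
  have h4 : c ^ 3 ∈ C.hat a2 hN := ⟨by rwa [map_pow], h3⟩
  have h5 : ∀ a ∈ C.hat a2 hN, c * a * c⁻¹ ∈ C.hat a2 hN := fun a ha =>
    ⟨by rw [map_mul, map_mul, map_inv]; exact c4 _ ha.1, conj_zpow_eq_one ha.2⟩
  have h6 : c ∈ normalizer (D : Set G) := mem_normalizer_fintype fun d hd => by
    obtain ⟨d', h7, h8⟩ := (mem_normalizer_iff.1 c1 _).1 (mem_map_of_mem σ hd)
    obtain ⟨i, hi⟩ := h.pg ⟨d, hd⟩
    obtain ⟨j, hj⟩ := h.pg ⟨d', h7⟩
    rw [C.uniq (g := c * d * c⁻¹) (h := d') (n := (3 ^ (i + j) : ℕ)) (by exact_mod_cast Odd.pow (by decide : Odd 3))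
      (by rw [h8, map_mul, map_mul, map_inv]) (conj_zpow_eq_one (by
        rw [zpow_natCast, pow_add, pow_mul, show d ^ 3 ^ i = 1 from congrArg Subtype.val hi, one_pow]))
      (by rw [zpow_natCast, pow_add, mul_comm, pow_mul, show d' ^ 3 ^ j = 1 from congrArg Subtype.val hj, one_pow])]
    exact h7
  have h7 : c ∈ In D θ := by
    refine ⟨fun y => (mem_normalizer_iff.1 h6 y).symm, fun g => ?_⟩
    show θ (c * g * c⁻¹) = θ g
    by_cases hg : g ∈ Ce D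
    · have h8 := c5 _ (map_Ce (σ := σ) hg)
      rw [← map_inv, ← map_inv, ← map_mul, ← map_mul, ← map_mul] at h8
      obtain ⟨a, e1, e2⟩ := C.lift hN (a1 _ h8)
      have h9 : a ∈ C.hat a2 hN := ⟨e1 ▸ h8, e2⟩
      have h10 : (a⁻¹ * c) ^ 3 ∈ C.hat a2 hN := by
        rw [show (a⁻¹ * c) ^ 3 = a⁻¹ * (c * a⁻¹ * c⁻¹) * (c * (c * a⁻¹ * c⁻¹) * c⁻¹) * c ^ 3 by
          simp only [pow_succ, pow_zero, one_mul, mul_assoc, inv_mul_cancel_left]]
        exact mul_mem (mul_mem (mul_mem (inv_mem h9) (h5 _ (inv_mem h9))) (h5 _ (h5 _ (inv_mem h9)))) h4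
      have h11 : g * c * g⁻¹ = a⁻¹ * c := C.uniq hN3 (by
        rw [map_mul σ a⁻¹, map_inv σ a, e1]
        simp only [map_mul, map_inv, mul_inv_rev, inv_inv, mul_assoc, inv_mul_cancel, mul_one])
        (conj_zpow_eq_one (by rw [zpow_mul, zpow_ofNat, h3])) (by rw [zpow_mul, zpow_ofNat, h10.2])
      rw [← h.kr_mul (hk a h9.1 h9.2) g]
      congr 1
      calc c * g * c⁻¹ = c * (g * c * g⁻¹)⁻¹ * g := by group
        _ = c * c⁻¹ * a * g := by rw [h11]; group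
        _ = _ := by group
    · rw [h.zero g hg, h.zero _ fun h3 => hg ?_]
      have h4 := conj_mem_Ce (inv_mem h6) h3
      rwa [show c⁻¹ * (c * g * c⁻¹) * c⁻¹⁻¹ = g by group] at h4
  exact c2 (map_Ce (h.mem_Ce_of_pow h7 (k := 1) (h.kr_le (hk _ h4.1 h4.2))))

/-- Lemma I for a cover with a centre of order at most two -/
theorem negI (C : Cov2 σ) (hs : Function.Surjective σ) (h : Can 3 M b D θ) (s : Sit P ι A (D.map σ)) {z : X}
    (hz : z ∈ D.map σ) (h1 : z ≠ 1) (hn : ¬ D.map σ ≤ P.H ι (D.map σ) z) {t : G} (ht : t ∈ In D θ)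
    (hi : ∀ d ∈ D, t * d * t⁻¹ = d⁻¹) : False := by
  have := Fact.mk Nat.prime_three
  have : Finite X := Finite.of_surjective σ hs
  obtain ⟨a1, a2, a3, a4, -⟩ := boxLI Y Φ P X ι _ _ s (map_ab h.ab) z hz h1 hn
  have hN := odd_N P.q
  refine false_of_AA C hs h s hz h1 hn fun g g1 g2 => h.kr_of_real (S := C.hat a2 hN) (fun a ha => ?_) (fun c hc a ha => ?_) ?_
    (fun c hc => ⟨3, by decide, 1, one_mem _, fun a ha => ?_⟩) (fun a ha => ?_) ⟨g1, g2⟩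
  · refine mem_centralizer_iff.2 fun d hd => mul_inv_eq_iff_eq_mul.1 (C.uniq hN ?_ (conj_zpow_eq_one ha.2) ha.2)
    rw [map_mul, map_mul, map_inv, ce_comm ha.1.2 (mem_map_of_mem σ hd), mul_inv_cancel_right]
  · exact ⟨by rw [map_mul, map_mul, map_inv]; exact (a3 _ (map_Ce hc)).1 _ ha.1, conj_zpow_eq_one ha.2⟩
  · by_contra h3
    have := Fact.mk Nat.prime_two
    obtain ⟨a, ha⟩ := exists_prime_orderOf_dvd_card' 2 (even_iff_two_dvd.1 (Nat.not_odd_iff_even.1 h3))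
    have h4 : a = 1 := Subtype.ext (eq_one_of_odd hN a.2.2 (congrArg Subtype.val (ha ▸ pow_orderOf_eq_one a)))
    rw [h4, orderOf_one] at ha
    exact absurd ha (by decide)
  · rw [one_mul, inv_one, mul_one]
    refine C.uniq hN ?_ (conj_zpow_eq_one ha.2) ha.2
    rw [map_mul, map_mul, map_inv, map_pow, ← ce_comm (a3 _ (map_Ce hc)).2 ha.1, mul_inv_cancel_right]
  · rw [← (pow_mem ht 3).2 a]
    congr 1
    refine C.uniq hN ?_ (inv_mem ha).2 (conj_zpow_eq_one ha.2)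
    rw [MulAut.conj_apply, map_mul, map_mul, map_inv, map_inv, map_pow, a4 (σ t) ?_ _ ha.1]
    rintro _ ⟨d, hd, rfl⟩
    rw [← map_inv, ← map_inv, ← map_mul, ← map_mul, hi d hd]

omit [Finite G] in
theorem exists_ne_one {Q : Subgroup X} (h : ¬ IsCyclic Q) : ∃ x ∈ Q, x ≠ 1 := by
  by_contra h3
  push Not at h3
  exact h (by rw [(eq_bot_iff_forall Q).2 h3]; infer_instance)

/-- type `E₇` -/
theorem of_no2 (hP : P.No2) (H : N9 M b D θ σ A) (h2 : Nat.card (center G) ∣ 2) (s : Sit P ι A (D.map σ)) : False :=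
  let ⟨_, ht, hi⟩ := H.neg
  let ⟨_, hz, h1⟩ := exists_ne_one s.pure.nc
  negI (cov2 H.q h2) H.q.surj H.q.can s hz h1 (s.not_le_H hP hz h1) ht hi

omit [Finite G] in
/-- `Q = Z(A₂⁴)` -/
theorem of_all [Finite X] {Q : Subgroup X} (hf : ∀ g, Φ g = g → g ∈ ι.range) (nd : P.ND) (s : Sit P ι A Q)
    (dz : DZy Φ (Q.map ι)) (h1 : Q ≤ Ce Q) (h2 : ∀ z ∈ Q, z ≠ 1 → Q ≤ P.H ι Q z) : False := by
  obtain ⟨x, hx, x1⟩ := exists_ne_one s.pure.nc
  obtain ⟨y, hy, yx⟩ : ∃ y ∈ Q, y ∉ zpowers x := by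
    by_contra h3
    push Not at h3
    exact s.pure.nc (by rw [le_antisymm h3 (zpowers_le.2 hx)]; infer_instance)
  have y1 : y ≠ 1 := fun e => yx (e ▸ one_mem _)
  have zx : y * x ∉ zpowers x := fun h3 => yx ((mul_mem_cancel_right (mem_zpowers x)).1 h3)
  have zy : y * x ∉ zpowers y := fun h3 =>
    not_mem_symm x1 (s.cube hy) yx ((mul_mem_cancel_left (mem_zpowers y)).1 h3)
  have z1 : y * x ≠ 1 := fun e => zx (e ▸ one_mem _)
  have hz := mul_mem hy hx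
  have h3 : ∀ u ∈ Q, u ≠ 1 → Q.map ι ≤ Ce (P.S (ι u)) := fun u hu u1 => map_le_iff_le_comap.2 fun d hd => (h2 u hu u1 hd).2
  exact three_comp hf nd dz (s.tyQ hx x1) (s.tyQ hy y1) (s.tyQ hz z1) (s.fix _) (s.fix _)
    (s.fix _) (mem_map_of_mem ι hx) (mem_map_of_mem ι hy) (map_mul ι y x) (h3 x hx x1) (h3 y hy y1) (h3 _ hz z1)
    (two_of s hx hy (ce_comm (h1 hx) hy) x1 yx (h2 x hx x1 hy).2)
    (two_of s hx hz (ce_comm (h1 hx) hz) x1 zx (h2 x hx x1 hz).2)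
    (two_of s hy hz (ce_comm (h1 hy) hz) y1 zy (h2 y hy y1 hz).2)

/-- type `E₈` -/
theorem of_nd (hf : ∀ g, Φ g = g → g ∈ ι.range) (nd : P.ND) (H : N9 M b D θ σ A) (hσ : Function.Injective σ)
    (s : Sit P ι A (D.map σ)) : False := by
  have : Finite X := Finite.of_surjective σ H.q.surj
  have h0 : ∀ z, σ z = 1 → z = 1 := fun z hz => hσ (hz.trans (map_one σ).symm)
  refine of_all hf nd s ?_ (map_ab H.q.can.ab) fun z hz h1 => by_contra fun h2 => ?_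
  · rw [Subgroup.map_map]
    refine dzy_of_block H.q.can.hM H.q.can.hb H.q.can.hD (s.inj.comp hσ) fun y => ⟨fun h => ?_, ?_⟩
    · obtain ⟨x, rfl⟩ := hf y h
      obtain ⟨g, rfl⟩ := H.q.surj x
      exact ⟨g, rfl⟩
    · rintro ⟨x, rfl⟩
      exact s.fix _
  · obtain ⟨_, ht, hi⟩ := H.neg
    exact negI ⟨fun z hz g => by rw [h0 z hz, mul_one, one_mul], fun z hz => by rw [h0 z hz, one_pow]⟩ H.q.surj H.q.can s
      hz h1 h2 ht hi

end neg

section f4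

open CoxeterSystem Cfsg Cfsg.Lie Matrix Subgroup Cfsg.Agent.KZ.DatX Cfsg.Agent.KZ.McX Cfsg.Agent.TO Cfsg.Agent.TO.X
  Cfsg.Agent.TO.F4 Cfsg.Agent.Nodes
  Cfsg.Agent.ChevalleyStructure.CoxeterGeomTypes Cfsg.Agent.ChevalleyStructure.CoxeterGeom Cfsg.Agent.Tits.Roots
  Cfsg.Agent.DL Cfsg.Agent.Nodes.Coroot Cfsg.Agent.Nodes.RGDChev
open Cfsg.Agent.BHZ.Nil (KK)

variable {r : ℕ} [Fact r.Prime] {k : Type} [Field k] [CharP k r] [IsAlgClosed k] {e : ℕ}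
  {X : XF hpF4 r k ((r : ℤ) ^ e • 1)} {Adm : Matrix (Fin 4) (Fin 4) ℤ → Prop} {G : Type} [Group G] [Finite G]
  {s : XS X Adm 1 G} {ζ : kˣ} {hζ : IsPrimitiveRoot ζ 3} {D : Subgroup G} {E : Tor X}

/-- the totally singular plane -/
theorem sing (hr : 3 ≠ r) {M : Ideal AlgInt} {b : Set (IrrCharacter G)} {θ : G → ℂ} (hθ : Can 3 M b D θ)
    (h9 : Nat.card D = 9) (hG : 27 ∣ Nat.card G) {t : G} (ht : t ∈ In D θ) (h7 : ∀ d ∈ D, t * d * t⁻¹ = d⁻¹)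
    (h3 : ∀ d ∈ D, d ^ 3 = 1)
    (hS : ∀ (E : Tor X) (v : V3), v ∈ vs s hζ E (KK 3 D) → Nm v = 0) (hB : ∀ v ∈ B1, v ∈ vs s hζ E D) : False := by
  obtain ⟨h, c, hA, h1, h2⟩ := eps hr E
  rcases fix1 (X := X) (w := h) (fun v hv => (h1 v).symm.trans (fix_of_mem_vs s hζ (hB v hv))) with rfl | ⟨h4, h5⟩
  · obtain ⟨x, hx⟩ := exists_ι s ((E.fix_iff hζ (v := ![1, 0, 0, 0])).2 (by rw [h1, map_one, mv_one])) (E.e_pow hζ _)
      (by norm_num)
    refine absurd (hS E _ ⟨x, mem_KK_of fun y hy ho => ι_inj s ?_, hx⟩) (by decide)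
    rw [map_mul, map_mul, hx, E.T_comm (mem_T1 hB hy ho) (E.e_mem ζ _)]
  have hT : ∀ d ∈ D, s.ι d ∈ E.T := fun d hd =>
    E6.mem_T_of_cop E.D (by
      rintro _ ⟨y, hy, rfl⟩
      exact mem_T1 hB hy.1 hy.2) (sz_empty hS hB h1 h2 h4) (mem_top _) (by
      rintro _ ⟨y, hy, rfl⟩
      rw [← map_mul, ← map_mul, hy.1 d hd]) (n := 3) (by norm_num) (by
      rintro _ ⟨y, hy, rfl⟩
      exact ⟨orderOf y, (Nat.prime_three.coprime_iff_not_dvd.2 hy.2).symm, by rw [← map_pow, pow_orderOf_eq_one, map_one]⟩)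
      (by rw [← map_pow, h3 d hd, map_one]; exact one_mem _)
  have hle : E.T.comap s.ι ≤ Ce D := fun x hx d hd => ι_inj s (by rw [map_mul, map_mul, E.T_comm (hT d hd) hx])
  obtain ⟨n, hn⟩ := exists_neg X
  obtain ⟨w, hw, h8⟩ := rp1 hζ (E := E) (y := s.ι t) (n := n) fun v hv => by
    obtain ⟨d, hd, h8⟩ := hB v hv
    have h10 : t⁻¹ * d * t = d⁻¹ := by
      have h11 := h7 _ (inv_mem hd)
      rw [inv_inv] at h11
      conv_lhs => rw [← h11]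
      group
    rw [← h8, ← map_inv, ← map_mul, ← map_mul, h10, map_inv, h8, hn, ← E.e_neg hζ, ← neg_one_smul ℤ (1 : Matrix _ _ ℤ),
      smul_mv, mv_one, Int.cast_neg, Int.cast_one, neg_one_smul]
  have h10 : wm X (w ^ 3) = -1 := by
    have h11 := congrArg (wm X) h8
    rw [map_pow, map_mul, hn, map_one, mul_neg, mul_one, Odd.neg_pow (by decide)] at h11
    rw [map_pow, neg_eq_iff_eq_neg.1 h11]
  have hc : ∀ y ∈ Ce D, ∃ w, E.Rp w (s.ι y) ∧ w ^ 3 = 1 := fun y hy => by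
    obtain ⟨w, h11, h12⟩ := rp1 hζ (E := E) (y := s.ι y) (n := 1) fun v hv => by
      rw [map_one, mv_one, mul_assoc, cen_of hB hy _ ⟨v, hv, rfl⟩, inv_mul_cancel_left]
    exact ⟨w, h11, by rwa [mul_one] at h12⟩
  refine not_kr hθ (n := 2) h9 hG fun y hy ho => hθ.kr_of_real hle (fun y hy x hx => ?_) (odd_card (c := c) fun x hx => ?_)
    (fun y hy => ⟨3, by decide, 1, one_mem _, fun x hx => ι_inj s ?_⟩) (fun x hx => ?_) (mem_T1 hB hy ho)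
  · obtain ⟨w, h11, -⟩ := hc y hy
    rw [mem_comap, map_mul, map_mul, map_inv]
    exact E.D.conj_mem_T ⟨w, h11⟩ hx
  · obtain ⟨a, ha⟩ := E.mem_T.1 hx
    have h11 : mon E.A a = a := E.fix_τ.1 (by rw [ha, F_ι])
    have h12 : E.A * E.A + c • E.A + (c * c) • 1 = 0 := by
      rw [hA, smul_mul_smul_comm, smul_smul, ← smul_add, ← smul_add, h4, smul_zero]
    have h13 := congrArg (mon · a) h12
    simp only [mon_add, mon_mul, mon_zsmul, h11, mon_one] at h13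
    have h14 : mon (0 : Matrix (Fin 4) (Fin 4) ℤ) a = 1 := funext fun i => chr_zero a
    refine ι_inj s ?_
    rw [map_zpow, ← ha, ← map_zpow, map_one, ← map_one E.τ, ← h14, ← h13, _root_.zpow_add, _root_.zpow_add, _root_.zpow_one]
    congr 1
    ac_rfl
  · obtain ⟨w, h11, h12⟩ := hc y hy
    have h13 := rp_pow h11 3
    rw [h12, E.rp_one_iff] at h13
    rw [one_mul, inv_one, mul_one, map_mul, map_mul, map_inv, map_pow, E.T_comm h13 hx, mul_inv_cancel_right]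
  · obtain ⟨a, ha⟩ := E.mem_T.1 hx
    have h11 : t ^ 3 * x * (t ^ 3)⁻¹ = x⁻¹ := ι_inj s (by
      rw [map_mul, map_mul, map_inv, map_pow, map_inv, ← ha, E.conj_τ (rp_pow hw 3), h10, mon_neg, mon_one, map_inv])
    rw [← h11]
    exact (pow_mem ht 3).2 x

theorem core {S : Type} [Group S] (s : XS X (AdmF4 r) 1 S) (hr : 3 ≠ r) {σ : G →* S} (hσ : Function.Injective σ)
    {M : Ideal AlgInt} {b : Set (IrrCharacter G)} {θ : G → ℂ} {A : Subgroup (MulAut S)} (H : N9 M b D θ σ A)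
    (hG : 27 ∣ Nat.card S) (hR : r = 2 → ∀ u ∈ D.map σ, ∀ v ∈ D.map σ, u ≠ 1 → v ≠ 1 → ∃ y, y * u * y⁻¹ = v) : False := by
  have P := H.pure
  have : Finite S := Finite.of_surjective σ H.q.surj
  let ε := MulEquiv.ofBijective σ ⟨hσ, H.q.surj⟩
  obtain ⟨ζ, hζ⟩ := exists_prim (r := r) k (n := 3) fun h =>
    hr ((Nat.prime_dvd_prime_iff_eq Fact.out Nat.prime_three).1 h).symm
  have h3 : ∀ d ∈ D, d ^ 3 = 1 := fun d hd => hσ (by rw [map_pow, map_one, TO.X.Pure.pow_eq hζ P (mem_map_of_mem σ hd)])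
  obtain ⟨z, hz, z1, h1, x, hx, h2, -⟩ := F4.exists_plane H.q.can.pg fun h =>
    P.nc (isCyclic_of_surjective _ (σ.subgroupMap_surjective D))
  obtain ⟨E, u, v, hu, hv⟩ := F4.exists_pair (s.congr ε) hζ hr (h3 z hz) (h3 x hx) (h1 x hx)
  have hi := ind_of (s.congr ε) hζ E hu hv z1 h2
  have u0 : u ≠ 0 := fun h => one_ne_zero (hi 1 0 (by rw [h, smul_zero, zero_smul, add_zero])).1
  have hK : ∀ a ∈ KK 3 D, σ a ∈ KK 3 (D.map σ) := fun a ha => BHZ.Nil.map_mem_KK H.q.surj H.q.ker.le H.q.can.pg ha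
  have hc : ∀ (E' : Tor X) (w : V3), w ∈ vs (s.congr ε) hζ E' (KK 3 D) → w ≠ 0 → Nm w = Nm u ∨ (r = 2 ∧ Nm w = -Nm u) :=
    fun E' w ⟨a, a1, a2⟩ w0 => nm_cj Fact.out hr (cj_of_pure s hζ P E E' (hK z (le_KK hz)) (hK a a1) hu a2 u0 w0)
  have m1 : u ∈ vs (s.congr ε) hζ E D := ⟨z, hz, hu⟩
  have m2 : v ∈ vs (s.congr ε) hζ E D := ⟨x, hx, hv⟩
  have h4 : ∀ w ∈ vs (s.congr ε) hζ E D, w ≠ 0 → Nm w = Nm u := fun w ⟨a, a1, a2⟩ w0 =>
    (hc E w ⟨a, le_KK a1, a2⟩ w0).elim id fun h => by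
      obtain ⟨y, hy⟩ := hR h.1 _ (mem_map_of_mem σ hz) _ (mem_map_of_mem σ a1) (ne_one_of_e s hζ E hu u0)
        (ne_one_of_e s hζ E a2 w0)
      refine nm_conj hζ E (y := s.ι y) ?_
      rw [← hu, ← a2]
      exact (by rw [← hy, map_mul, map_mul, map_inv] : s.ι (σ a) = s.ι y * s.ι (σ z) * (s.ι y)⁻¹).symm
  have h0 : Nm u = 0 := by
    have h5 := nm_par v u
    rw [h4 v m2 fun h => one_ne_zero (hi 0 1 (by rw [h, smul_zero, zero_smul, add_zero])).2,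
      h4 _ (add_mem m1 m2) fun h => one_ne_zero (hi 1 1 (by rwa [one_smul, one_smul])).1,
      h4 _ (sub_mem m1 m2) fun h => one_ne_zero (hi 1 (-1) (by rwa [one_smul, neg_one_smul, ← sub_eq_add_neg])).1] at h5
    exact (by decide : ∀ a : ZMod 3, a + a = 2 * a + 2 * a → a = 0) _ h5
  have hS : ∀ (E' : Tor X) (w : V3), w ∈ vs (s.congr ε) hζ E' (KK 3 D) → Nm w = 0 := fun E' w hw => by
    by_cases w0 : w = 0
    · rw [w0, nm_zero]
    · exact (hc E' w hw w0).elim (fun h => h.trans h0) fun h => by rw [h.2, h0, neg_zero]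
  obtain ⟨W, hW, h5, h6⟩ := std1 h0 (hS E v ⟨x, le_KK hx, hv⟩) (hS E _ (add_mem ⟨z, le_KK hz, hu⟩ ⟨x, le_KK hx, hv⟩))
  obtain ⟨E', -, h7⟩ := E.exists_move_e hζ hW
  rw [← h7] at hu hv
  obtain ⟨t, ht, h8⟩ := H.neg
  refine sing hr H.q.can H.card (Nat.card_congr ε.toEquiv ▸ hG) ht h8 h3 hS (E := E') fun w hw => ?_
  obtain ⟨i, j, rfl⟩ := span1 h5 h6 (ind_of (s.congr ε) hζ E' hu hv z1 h2) hw
  exact add_mem (Submodule.smul_mem _ _ ⟨z, hz, hu⟩) (Submodule.smul_mem _ _ ⟨x, hx, hv⟩)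

theorem dvd_f4 {F : Type} [Field F] [Fintype F] (h : ¬ 3 ∣ Fintype.card F) : 27 ∣ Nat.card ↥(chevF4.group F) := by
  rw [S1062.result rfl]
  generalize Fintype.card F = q at h
  have h1 : 3 ∣ q ^ 2 - 1 := (Nat.modEq_iff_dvd' (Nat.one_le_pow _ _ (Nat.pos_of_ne_zero fun e => h (by rw [e]; exact dvd_zero 3)))).1
    (Nat.ModEq.pow_totient (Nat.prime_three.coprime_iff_not_dvd.2 h).symm).symm
  have h2 : ∀ n, 3 ∣ q ^ (2 * n) - 1 := fun n => h1.trans (by simpa only [one_pow, pow_mul] using Nat.sub_dvd_pow_sub_pow (q ^ 2) 1 n)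
  exact ((mul_dvd_mul (mul_dvd_mul (h1.mul_left (q ^ 24)) (h2 3)) (h2 4)).mul_right _)

theorem f4 {F : Type} [Field F] [Fintype F] (hq : Fintype.card F ≠ 2) (h3 : (3 : F) ≠ 0) {S : Type} [Group S]
    (ε : S ≃* chevF4.group F) {σ : G →* S} {M : Ideal AlgInt} {b : Set (IrrCharacter G)} {θ : G → ℂ}
    {A : Subgroup (MulAut S)} (H : N9 M b D θ σ A)
    (hR : (2 : F) = 0 → ∀ u ∈ D.map σ, ∀ v ∈ D.map σ, u ≠ 1 → v ≠ 1 → ∃ y, y * u * y⁻¹ = v) : False := by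
  obtain ⟨r, e, _, _, hF, hr⟩ := exists_re F (p := 3) (by exact_mod_cast h3)
  have h1 : Has hpF4 r ((r : ℤ) ^ e • 1) (AdmF4 r) 1 ↥(chevF4.group F) := by
    by_cases h2 : r = 2
    · subst h2
      exact (has_F4two hF).mono fun A hA => .inr ⟨rfl, hA⟩
    · exact (has_F4 hF h2).mono fun A hA => .inl hA
  obtain ⟨k, _, _, _, X, ⟨s⟩⟩ := h1.congr ε
  refine core s hr (bij ((zd_F4 hq).congr ε) H.q).1 H (Nat.card_congr ε.toEquiv ▸ dvd_f4 fun h => hr ?_) fun h => hR ?_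
  · exact (Nat.prime_dvd_prime_iff_eq Nat.prime_three Fact.out).1 (Nat.prime_three.dvd_of_dvd_pow (hF ▸ h))
  · subst h
    exact CharP.cast_eq_zero F 2

end f4

section e78

open CoxeterSystem Cfsg Cfsg.Lie Cfsg.Lie.ChevalleyDatum Subgroup Cfsg.Agent.TO Cfsg.Agent.TO.T3
open Cfsg.Agent.ChevalleyStructure Cfsg.Agent.ChevalleyStructure.Elts Cfsg.Agent.ChevalleyStructure.CoxeterGeom
  Cfsg.Agent.ChevalleyStructure.CoxeterGeomTypes
open Cfsg.Agent.Nodes Cfsg.Agent.Nodes.RGDChev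
open Cfsg.Agent.KFacts.RgdField Cfsg.Agent.KFacts.RgdChevCoord Cfsg.Agent.BpExc Cfsg.Agent.BpExc.Fr
open Cfsg.Agent.DS.Ex (YY)
open Cfsg.Agent.H469.Exc Cfsg.Agent.DS.Nt Cfsg.Agent.KZ.DatX Cfsg.Agent.DL Cfsg.Agent.DL.Ex
open Cfsg.Agent.GpExc.Field Cfsg.Agent.ChevStructure.FieldMap

variable {F : Type} [Field F] [Fintype F] {S : Type} [Group S]

theorem e7 (h0 : (3 : F) ≠ 0) (ε : S ≃* chevE7.group F) : No9 S := by
  intro G _ _ σ M b D θ A H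
  have : Finite S := Finite.of_surjective σ H.q.surj
  obtain ⟨r, e, _, _, hF, h3⟩ := TO.X.exists_re F (p := 3) (by exact_mod_cast h0)
  obtain ⟨f⟩ := exists_emb r F
  have he := pos_of_card hF
  have O := over_E7 f hF hpE7
  let s := ((xsS f (locFin r) he hF O (cop_sub (Fact.out : r.Prime).pos he 2) (fun _ => index_dvd_E7 f hF hpE7)
    List.mem_cons_self (grL_E7 r _ F)).mono fun _ => AdmL.admF).congr ε
  obtain ⟨ψ, C⟩ := cx_E7 (r := r) hpE7 h3.symm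
  have hn := (xfS hpE7 r (locFin r) he).exists_neg_E7
  obtain ⟨q, q3, q1, -, hq⟩ := Tor.frob _ hn h3.symm he rfl
  obtain ⟨cf, J⟩ := C.jd
  refine of_no2 (P := C.pk (fr_frob hpE7 r e) q q3 q1 (Tor.neg _ hn) hq) (ι := s.ι)
    (Fo.no2 J Fo.car_E7 _ rfl (fun _ h => h) (fun _ _ => rfl) (by norm_num)) H
    ((zd ((TO.X.zd_E7 hF).congr ε) H.q).trans (Nat.gcd_dvd_left _ _)) ⟨s.ov.inj, fun x => (s.ov.mem x).2, fun g hg => ?_,
      H.pure, fun _ => F0.om7 s h3.symm H.pure⟩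
  obtain ⟨c, hc⟩ := Nat.gcd_dvd_left 2 (r ^ e - 1)
  have h4 : (g ^ Nat.gcd 2 (r ^ e - 1)) ^ c ∈ s.ι.range := pow_mem (s.ov.mem_range.1 (s.ov.pow_mem ⟨g, trivial, hg⟩)) c
  rwa [← pow_mul, ← hc] at h4

theorem e8 (h0 : (3 : F) ≠ 0) (ε : S ≃* chevE8.group F) : No9 S := by
  intro G _ _ σ M b D θ A H
  have : Finite S := Finite.of_surjective σ H.q.surj
  obtain ⟨r, e, _, _, hF, h3⟩ := TO.X.exists_re F (p := 3) (by exact_mod_cast h0)
  obtain ⟨f⟩ := exists_emb r F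
  have he := pos_of_card hF
  have O := over_E8 f hF hpE8
  let s := ((xsS f (locFin r) he hF O (Nat.coprime_one_left _) (fun _ => idx_of_one O rfl)
    List.mem_cons_self (grL_E8 r _ F)).mono fun _ => AdmL.admF).congr ε
  obtain ⟨ψ, C⟩ := cx_E8 (r := r) hpE8 h3.symm
  have hn := (xfS hpE8 r (locFin r) he).exists_neg_E8
  obtain ⟨q, q3, q1, -, hq⟩ := Tor.frob _ hn h3.symm he rfl
  have hf : ∀ g : YY chevE8 r, frobA hpE8.inList r e g = g → g ∈ s.ι.range := fun g hg => by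
    simpa using s.ov.mem_range.1 (s.ov.pow_mem ⟨g, trivial, hg⟩)
  obtain ⟨cf, J⟩ := C.jd
  exact of_nd (P := C.pk (fr_frob hpE8 r e) q q3 q1 (Tor.neg _ hn) hq) (ι := s.ι) hf
    (ND.nd_JJ J ND.pos_E8 he (isFrob_frobA _ r e) (fr_frob hpE8 r e) _ (fun _ h => h) fun _ _ => rfl) H
    (bij (TO.X.zd_E8.congr ε) H.q).1 ⟨s.ov.inj, fun x => (s.ov.mem x).2, fun g hg => pow_mem (hf g hg) 2, H.pure,
      fun _ => F0.om8 s h3.symm H.pure⟩

end e78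

end Cfsg.Agent.BH.RO.N9a

namespace Cfsg.Agent.BH.RO

open Cfsg Cfsg.Lie

variable {F : Type} [Field F] [Fintype F] {S : Type} [Group S]

/-- **`F₄(q)`**, `q > 2` -/
theorem no9c_f4' (hq : Fintype.card F ≠ 2) (h3 : (3 : F) ≠ 0) (ε : S ≃* chevF4.group F) : No9c S :=
  fun _ _ _ _ _ _ _ _ _ H => N9a.f4 hq h3 ε H.toN9 fun _ u hu v hv h1 h2 =>
    let ⟨s, _, h⟩ := H.reg u hu v hv h1 h2
    ⟨s, h⟩

theorem no9c_f4 (hq : Fintype.card F ≠ 2) (h3 : (3 : F) ≠ 0) : No9c ↥(chevF4.group F) := no9c_f4' hq h3 (.refl _)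

/-- **`F₄(q)`**, `q` odd -/
theorem no9_f4' (h2 : (2 : F) ≠ 0) (h3 : (3 : F) ≠ 0) (ε : S ≃* chevF4.group F) : No9 S :=
  fun _ _ _ _ _ _ _ _ _ H => N9a.f4 (fun h => h2 (by exact_mod_cast h ▸ FiniteField.cast_card_eq_zero F)) h3 ε H
    fun h => absurd h h2

theorem no9_f4 (h2 : (2 : F) ≠ 0) (h3 : (3 : F) ≠ 0) : No9 ↥(chevF4.group F) := no9_f4' h2 h3 (.refl _)

/-- **`E₇(q)`** -/
theorem no9_e7 (h3 : (3 : F) ≠ 0) : No9 ↥(chevE7.group F) := N9a.e7 h3 (.refl _)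

/-- **`E₈(q)`** -/
theorem no9_e8 (h3 : (3 : F) ≠ 0) : No9 ↥(chevE8.group F) := N9a.e8 h3 (.refl _)

theorem no9For_e7 : No9For KM.CE7 := fun _ _ _ _ _ ⟨_, _, _, h, ⟨ε⟩⟩ => N9a.e7 (by exact_mod_cast h) ε

theorem no9For_e8 : No9For KM.CE8 := fun _ _ _ _ _ ⟨_, _, _, h, ⟨ε⟩⟩ => N9a.e8 (by exact_mod_cast h) ε

end Cfsg.Agent.BH.RO
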