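import Cfsg.Agent.BH.RowO.Mv
import Cfsg.Agent.BH.RowO.E2

/-!
# BH (S4524), `RowO`: the box [P2] (helper80)
-/

set_option autoImplicit false
set_option linter.unusedSectionVars false

namespace Cfsg.Agent.BH.RO

open Cfsg Subgroup Cfsg.Agent.TO

namespace P2

variable {l : ℕ} [hl : Fact l.Prime] {S : Type} [Group S] [Finite S] {Q E : Subgroup S} {Γ Γ₀ : Subgroup (MulAut S)}

/-- coordinates on the elements of order `l` -/
structure Fr (Q : Subgroup S) (ι : ZMod l × ZMod l → S) : Prop where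
  add : ∀ v w, ι (v + w) = ι v * ι w
  inj : Function.Injective ι
  mem : ∀ u, (u ∈ Q ∧ u ^ l = 1) ↔ ∃ v, ι v = u

/-- the automorphism acts as the map -/
def Ac (ι : ZMod l × ZMod l → S) (α : MulAut S) (A : ZMod l × ZMod l → ZMod l × ZMod l) : Prop := ∀ v, α (ι v) = ι (A v)

/-- a matrix -/
def mt (p q r s : ZMod l) (v : ZMod l × ZMod l) : ZMod l × ZMod l := (p * v.1 + r * v.2, q * v.1 + s * v.2)

/-- the upper transvection -/
def xx (t : ZMod l) (v : ZMod l × ZMod l) : ZMod l × ZMod l := (v.1 + t * v.2, v.2)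

/-- the lower transvection -/
def yy (t : ZMod l) (v : ZMod l × ZMod l) : ZMod l × ZMod l := (v.1, v.2 + t * v.1)

variable {ι : ZMod l × ZMod l → S}

theorem Fr.zero (f : Fr Q ι) : ι 0 = 1 := by
  have := f.add 0 0
  rwa [add_zero, left_eq_mul] at this

theorem Fr.nsmul (f : Fr Q ι) (n : ℕ) (v : ZMod l × ZMod l) : ι (n • v) = ι v ^ n := by
  induction n with
  | zero => rw [zero_smul, pow_zero, f.zero]
  | succ n ih => rw [succ_nsmul, f.add, ih, pow_succ]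

theorem Fr.neg (f : Fr Q ι) (v : ZMod l × ZMod l) : ι (-v) = (ι v)⁻¹ :=
  eq_inv_of_mul_eq_one_left (by rw [← f.add, neg_add_cancel, f.zero])

theorem Fr.swap (f : Fr Q ι) : Fr Q (ι ∘ Prod.swap) where
  add v w := f.add v.swap w.swap
  inj := f.inj.comp Prod.swap_injective
  mem u := (f.mem u).trans ⟨fun ⟨v, e⟩ => ⟨v.swap, e⟩, fun ⟨v, e⟩ => ⟨v.swap, e⟩⟩

theorem Fr.memQ (f : Fr Q ι) (v : ZMod l × ZMod l) : ι v ∈ Q := ((f.mem _).2 ⟨v, rfl⟩).1

theorem Fr.pow (f : Fr Q ι) (v : ZMod l × ZMod l) : ι v ^ l = 1 := ((f.mem _).2 ⟨v, rfl⟩).2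

theorem Fr.eq_zero (f : Fr Q ι) {v : ZMod l × ZMod l} (e : ι v = 1) : v = 0 := f.inj (e.trans f.zero.symm)

theorem Ac.mul {α β : MulAut S} {A B : ZMod l × ZMod l → ZMod l × ZMod l} (a : Ac ι α A) (b : Ac ι β B) :
    Ac ι (α * β) (A ∘ B) := fun v => by
  rw [MulAut.mul_apply, b, a]; rfl

theorem Ac.pow {α : MulAut S} {A : ZMod l × ZMod l → ZMod l × ZMod l} (a : Ac ι α A) (n : ℕ) : Ac ι (α ^ n) A^[n] := by
  induction n with
  | zero => exact fun _ => rfl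
  | succ n ih => rw [pow_succ, Function.iterate_succ]; exact ih.mul a

theorem Ac.inv {α : MulAut S} {A B : ZMod l × ZMod l → ZMod l × ZMod l} (a : Ac ι α A) (e : ∀ v, A (B v) = v) :
    Ac ι α⁻¹ B := fun v => α.injective (by rw [MulAut.apply_inv_self, a, e])

theorem pow_val_add {a : S} (ha : a ^ l = 1) (i j : ZMod l) : a ^ (i + j).val = a ^ i.val * a ^ j.val := by
  rw [ZMod.val_add, ← pow_eq_pow_mod _ ha, pow_add]

theorem exists_fr (hM : BoxMv) (h : Sh l Q E Γ Γ₀) (hr : Rk2 l Q) : ∃ ι : ZMod l × ZMod l → S, Fr Q ι := by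
  obtain ⟨a, ha, b, hb, a1, b1, h1⟩ := (hM l S Q E Γ Γ₀ h).2.2.1
  have a2 : a ^ l = 1 := a1 ▸ pow_orderOf_eq_one a
  have b2 : b ^ l = 1 := b1 ▸ pow_orderOf_eq_one b
  have hc : Commute a b := E2.qc h ha hb
  have add : ∀ v w : ZMod l × ZMod l, a ^ (v + w).1.val * b ^ (v + w).2.val =
      a ^ v.1.val * b ^ v.2.val * (a ^ w.1.val * b ^ w.2.val) := fun v w => by
    rw [Prod.fst_add, Prod.snd_add, pow_val_add a2, pow_val_add b2, mul_assoc, mul_assoc, ← mul_assoc (a ^ w.1.val),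
      (hc.pow_pow _ _).eq, mul_assoc]
  have ker : ∀ v : ZMod l × ZMod l, a ^ v.1.val * b ^ v.2.val = 1 → v = 0 := fun v e => by
    have h2 : v.2 = 0 := by
      by_contra h2
      have h3 : b ^ v.2.val ∈ zpowers a := by
        rw [eq_inv_of_mul_eq_one_right e]; exact inv_mem (npow_mem_zpowers a _)
      have h4 := pow_mem h3 (v.2⁻¹).val
      rw [← pow_mul, pow_eq_pow_mod _ b2, ← ZMod.val_mul, mul_inv_cancel₀ h2, ZMod.val_one, pow_one] at h4
      exact h1 h4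
    rw [h2, ZMod.val_zero, pow_zero, mul_one, ← orderOf_dvd_iff_pow_eq_one, a1] at e
    exact Prod.ext ((ZMod.val_eq_zero _).1 (Nat.eq_zero_of_dvd_of_lt e (ZMod.val_lt _))) h2
  have inj : Function.Injective fun v : ZMod l × ZMod l => a ^ v.1.val * b ^ v.2.val := fun v w e => by
    have h2 := add (v - w) w
    rw [sub_add_cancel] at h2
    exact sub_eq_zero.1 (ker _ (right_eq_mul.1 (e.symm.trans h2)))
  have sub : Set.range (fun v : ZMod l × ZMod l => a ^ v.1.val * b ^ v.2.val) ⊆ {u | u ∈ Q ∧ u ^ l = 1} := by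
    rintro _ ⟨v, rfl⟩
    refine ⟨mul_mem (pow_mem ha _) (pow_mem hb _), ?_⟩
    rw [(hc.pow_pow _ _).mul_pow, pow_right_comm, a2, pow_right_comm, b2, one_pow, one_pow, one_mul]
  have h2 := Set.eq_of_subset_of_ncard_le sub (hr.trans_eq (by
    rw [Set.ncard_range_of_injective inj, Nat.card_prod, Nat.card_zmod, pow_two]))
  exact ⟨_, add, inj, fun u => (Set.ext_iff.1 h2 u).symm⟩

section fr

variable (hM : BoxMv) (h : Sh l Q E Γ Γ₀) (f : Fr Q ι)
include h f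

theorem exists_mt {α : MulAut S} (hα : α ∈ Γ) : ∃ p q r s, Ac ι α (mt p q r s) := by
  have h1 : ∀ v, ∃ w, ι w = α (ι v) := fun v =>
    (f.mem _).1 ⟨(h.nrm α hα _).2 (f.memQ v), by rw [← map_pow, f.pow, map_one]⟩
  obtain ⟨w, h2⟩ := h1 (1, 0)
  obtain ⟨w', h3⟩ := h1 (0, 1)
  refine ⟨w.1, w.2, w'.1, w'.2, fun v => ?_⟩
  have h4 : v = v.1.val • ((1, 0) : ZMod l × ZMod l) + v.2.val • ((0, 1) : ZMod l × ZMod l) := by
    ext <;> simp
  have h5 : mt w.1 w.2 w'.1 w'.2 v = v.1.val • w + v.2.val • w' := by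
    ext <;> simp [mt, mul_comm]
  rw [h5, f.add, f.nsmul, f.nsmul, h2, h3]
  nth_rewrite 1 [h4]
  rw [f.add, f.nsmul, f.nsmul, map_mul, map_pow, map_pow]

/-- coprime action -/
theorem fix_of {α : MulAut S} (h0 : α ∈ Γ₀) (e : Ac ι α id) {u : S} (hu : u ∈ Q) : α u = u := by
  obtain ⟨m, h1, h2⟩ := E2.reg_pow h h0
  let _ : CommGroup Q := { (inferInstance : Group Q) with mul_comm := fun x y => Subtype.ext (E2.qc h x.2 y.2) }
  have h3 : resQ h.nrm ⟨α, h.le h0⟩ ^ m = 1 := by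
    rw [← map_pow]; exact (resQ_eq_one h.nrm).2 h2
  exact congrArg Subtype.val (KM.Tor.BF.fix_all hl.out h.pg h1 h3 (fun x hx => by
    obtain ⟨v, hv⟩ := (f.mem x).1 ⟨x.2, congrArg Subtype.val hx⟩
    exact Subtype.ext (show α x = x by rw [← hv]; exact e v)) ⟨u, hu⟩)

include hM

/-- the kernel of the action on the elements of order `l` -/
theorem mem_of {α : MulAut S} (hα : α ∈ Γ) (e : Ac ι α id) : α ∈ Γ₀ := by
  by_contra h0
  have := h.normal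
  obtain ⟨a, m, h1, h2⟩ := Nat.exists_eq_pow_mul_and_not_dvd (orderOf_pos α).ne' l hl.out.ne_one
  have h3 : PElt l (α ^ m) := pElt_iff.2 ⟨a, by rw [← pow_mul, mul_comm, ← h2, pow_orderOf_eq_one]⟩
  have h4 : α ^ m ∉ Γ₀ := fun h4 => h0 ((QuotientGroup.eq_one_iff (N := Γ₀.subgroupOf Γ) ⟨α, hα⟩).1
    (eq_one_of_pow (l := l) (k := 1) (by rw [pow_one, ← h.index]; exact pow_card_eq_one')
      (by rw [← QuotientGroup.mk_pow]; exact (QuotientGroup.eq_one_iff _).2 h4) h1))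
  have h5 : Ac ι (α ^ m) id := by
    have := e.pow m
    rwa [Function.iterate_id] at this
  have h6 := pow_mem hα m
  generalize α ^ m = β at h3 h4 h5 h6
  obtain ⟨⟨t, a1, a2⟩, -, a3⟩ := (hM l S Q E Γ Γ₀ h).2.2.2.1 β h6 h4 h3
  obtain ⟨γ, hγ, a4⟩ := a3 t a1
  obtain ⟨p, q, r, s, a5⟩ := exists_mt h f hγ
  have a6 := fix_of h f (E2.comm_mem h h6 hγ) (fun v => by
    rw [MulAut.mul_apply, h5.inv (B := id) (fun _ => rfl), MulAut.mul_apply, MulAut.mul_apply, a5, h5, id, ← a5,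
      MulAut.inv_apply_self]) ((h.nrm β h6 t).2 a1)
  rw [MulAut.mul_apply, MulAut.inv_apply_self, MulAut.mul_apply, MulAut.mul_apply, a4, MulAut.inv_apply_self] at a6
  exact a2 a6.symm

/-- an outer `l`-element is a transvection -/
theorem ac_xx {β : MulAut S} (h1 : β ∈ Γ) (h2 : β ∉ Γ₀) (h3 : PElt l β) (h4 : β (ι (1, 0)) = ι (1, 0)) :
    ∃ i, i ≠ 0 ∧ Ac ι β (xx i) := by
  obtain ⟨p, q, r, s, a⟩ := exists_mt h f h1
  have a1 := f.inj (h4.symm.trans (a _))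
  simp only [mt, mul_one, mul_zero, add_zero, Prod.mk.injEq] at a1
  obtain ⟨rfl, rfl⟩ := a1
  have a2 : ∀ n : ℕ, ((mt 1 0 r s)^[n] (0, 1)).2 = s ^ n := fun n => by
    induction n with
    | zero => rw [pow_zero]; rfl
    | succ n ih => rw [Function.iterate_succ_apply', mt, ih, zero_mul, zero_add, pow_succ']
  have a3 := a2 l
  rw [← f.inj ((((hM l S Q E Γ Γ₀ h).2.2.2.1 β h1 h2 h3).2.1 _ (f.memQ _)).symm.trans (a.pow l (0, 1))), ZMod.pow_card] at a3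
  obtain rfl : 1 = s := a3
  have a4 : Ac ι β (xx r) := fun v => (a v).trans (congrArg ι (by simp [mt, xx]))
  refine ⟨r, ?_, a4⟩
  rintro rfl
  exact h2 (mem_of hM h f h1 fun v => (a4 v).trans (congrArg ι (by simp [xx])))

omit h f hM in
theorem xx_iter (i : ZMod l) (n : ℕ) (v : ZMod l × ZMod l) : (xx i)^[n] v = xx ((n : ZMod l) * i) v := by
  induction n with
  | zero => simp [xx]
  | succ n ih => rw [Function.iterate_succ_apply', ih]; simp only [xx, Nat.cast_succ, Prod.mk.injEq, and_true]; ring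

theorem exists_xx (t : ZMod l) : ∃ X ∈ Γ, Ac ι X (xx t) := by
  obtain ⟨β, h1, h2, h3, h4⟩ := h.fix (f.memQ (1, 0))
  obtain ⟨i, a1, a2⟩ := ac_xx hM h f h1 h2 h3 h4
  refine ⟨_, pow_mem h1 (t * i⁻¹).val, fun v => (a2.pow _ v).trans ?_⟩
  rw [xx_iter, ZMod.natCast_zmod_val, inv_mul_cancel_right₀ a1]

theorem exists_yy (t : ZMod l) : ∃ Y ∈ Γ, Ac ι Y (yy t) :=
  let ⟨Y, h1, h2⟩ := exists_xx hM h f.swap t
  ⟨Y, h1, fun v => h2 v.swap⟩

theorem eq_three (h2 : l ≠ 2) : l = 3 := by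
  obtain ⟨β, b1, b2, b3, b4⟩ := h.fix (f.memQ (1, 0))
  obtain ⟨i, a1, a2⟩ := ac_xx hM h f b1 b2 b3 b4
  have c1 : (2 : ZMod l) ≠ 0 := fun e =>
    h2 ((Nat.prime_dvd_prime_iff_eq hl.out Nat.prime_two).1 ((ZMod.natCast_eq_zero_iff 2 l).1 (by exact_mod_cast e)))
  have c2 := mul_inv_cancel₀ c1
  generalize (2 : ZMod l)⁻¹ = c at c2
  obtain ⟨X, x1, x2⟩ := exists_xx hM h f 1
  obtain ⟨Y, y1, y2⟩ := exists_yy hM h f 1
  obtain ⟨Z, z1, z2⟩ := exists_yy hM h f (-c)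
  have k1 := mul_mem z1 (mul_mem x1 y1)
  have k2 := z2.mul (x2.mul y2)
  generalize Z * (X * Y) = k at k1 k2
  have d1 : ∀ v, (β ^ 4 * k) (ι v) = (k * β) (ι v) := fun v => by
    rw [(a2.pow 4).mul k2, k2.mul a2]
    refine congrArg ι ?_
    simp only [Function.comp, xx_iter, xx, yy, Prod.mk.injEq]
    push_cast
    constructor
    · linear_combination (-4 * i * v.1 - 2 * i * v.2) * c2
    · linear_combination (i * v.2) * c2
  have d2 := mem_of hM h f (mul_mem (inv_mem (mul_mem (pow_mem b1 4) k1)) (mul_mem k1 b1)) fun v => by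
    rw [MulAut.mul_apply, ← d1, MulAut.inv_apply_self, id]
  have d3 := mul_mem (inv_mem d2) (E2.comm_mem h (inv_mem (pow_mem b1 4)) k1)
  rw [show ((β ^ 4 * k)⁻¹ * (k * β))⁻¹ * (k⁻¹ * (β ^ 4)⁻¹ * k * (β ^ 4)⁻¹⁻¹) = β ^ 3 by group] at d3
  obtain ⟨n, hn⟩ := pElt_iff.1 b3
  have d4 := f.inj ((h.c0 _ d3 (pElt_iff.2 ⟨n, by rw [pow_right_comm, hn, one_pow]⟩) _ (f.memQ (0, 1))).symm.trans (a2.pow 3 _))
  rw [xx_iter] at d4
  have d5 := congrArg Prod.fst d4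
  simp only [xx, zero_add, mul_one] at d5
  exact (Nat.prime_dvd_prime_iff_eq hl.out Nat.prime_three).1
    ((ZMod.natCast_eq_zero_iff 3 l).1 ((mul_eq_zero.1 d5.symm).resolve_right a1))

end fr

theorem dec_tr : ∀ u v : ZMod 3 × ZMod 3, u ≠ 0 → v ≠ 0 → ∃ a b c d : ZMod 3, xx a (yy b (xx c (yy d u))) = v := by
  decide +kernel

/-- a power is minus one, or the order is three -/
def Pw (g : ZMod 3 × ZMod 3 → ZMod 3 × ZMod 3) : Prop :=
  (∃ n : Fin 5, ∀ v, g^[n.val] v = -v) ∨ (∀ v, g^[3] v = v) ∧ ¬ ∀ v, g v = v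

theorem dec_neg : ∀ p q r s : ZMod 3, (∀ v, mt p q r s v = 0 → v = 0) → (∀ v, mt p q r s v = v) ∨ Pw (mt p q r s) ∨
    Pw ((xx 1 ∘ mt p q r s ∘ xx (-1)) ∘ mt p q r s) := by
  unfold Pw
  decide +kernel

section three

variable {ι : ZMod 3 × ZMod 3 → S} (hM : BoxMv) (h : Sh 3 Q E Γ Γ₀) (f : Fr Q ι)
include hM h f

theorem tr {u v : ZMod 3 × ZMod 3} (hu : u ≠ 0) (hv : v ≠ 0) : ∃ α ∈ Γ, α (ι u) = ι v := by
  obtain ⟨a, b, c, d, e⟩ := dec_tr u v hu hv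
  obtain ⟨A, a1, a2⟩ := exists_xx hM h f a
  obtain ⟨B, b1, b2⟩ := exists_yy hM h f b
  obtain ⟨C, c1, c2⟩ := exists_xx hM h f c
  obtain ⟨D, d1, d2⟩ := exists_yy hM h f d
  exact ⟨_, mul_mem a1 (mul_mem b1 (mul_mem c1 d1)), (a2.mul (b2.mul (c2.mul d2)) u).trans (congrArg ι e)⟩

theorem cube_of {u₀ : S} (h1 : u₀ ∈ Q) (h2 : (u₀ ^ 3) ^ 3 = 1) : u₀ ^ 3 = 1 := by
  by_contra h3
  obtain ⟨v₀, h4⟩ := (f.mem _).1 ⟨pow_mem h1 3, h2⟩
  have h5 : v₀ ≠ 0 := fun e => h3 (by rw [← h4, e, f.zero])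
  have h6 : ∀ v : ZMod 3 × ZMod 3, v ≠ 0 → ∃ u ∈ Q, u ^ 3 = ι v := fun v hv =>
    let ⟨α, a1, a2⟩ := tr hM h f h5 hv
    ⟨α u₀, (h.nrm α a1 _).2 h1, by rw [← map_pow, ← h4, a2]⟩
  obtain ⟨u, u1, u2⟩ := h6 (1, 0) (by decide)
  obtain ⟨w, w1, w2⟩ := h6 (0, 1) (by decide)
  obtain ⟨β, b1, b2, b3, b4⟩ := h.fix u1
  obtain ⟨i, a1, a2⟩ := ac_xx hM h f b1 b2 b3 (by rw [← u2, map_pow, b4])
  have b5 := ((hM 3 S Q E Γ Γ₀ h).2.2.2.1 β b1 b2 b3).2.1 w w1
  have w3 := (h.nrm β b1 w).2 w1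
  obtain ⟨z, z1, z2⟩ : ∃ z ∈ Q, β w = z * w := ⟨_, mul_mem w3 (inv_mem w1), (inv_mul_cancel_right _ _).symm⟩
  have z3 : z ^ 3 = ι (i, 0) := by
    have c1 : β w ^ 3 = (z * w) ^ 3 := by rw [z2]
    rw [← map_pow, (show Commute z w from E2.qc h z1 w1).mul_pow, w2, a2,
      show xx i (0, 1) = (i, 0) + (0, 1) by simp [xx], f.add] at c1
    exact (mul_right_cancel c1).symm
  have u3 := pow_mem u1 i.val
  obtain ⟨v, z4⟩ := (f.mem (z * (u ^ i.val)⁻¹)).1 ⟨mul_mem z1 (inv_mem u3), by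
    rw [(show Commute z (u ^ i.val)⁻¹ from E2.qc h z1 (inv_mem u3)).mul_pow, z3, inv_pow, pow_right_comm, u2, ← f.nsmul,
      show i.val • ((1, 0) : ZMod 3 × ZMod 3) = (i, 0) by simp, mul_inv_cancel]⟩
  have z5 : β z = ι (i * v.2, 0) * z := by
    rw [← eq_mul_inv_iff_mul_eq.1 z4, map_mul, map_pow, b4, a2, show xx i v = (i * v.2, 0) + v from Prod.ext (add_comm _ _) (zero_add _).symm, f.add,
      mul_assoc]
  have c1 : β (ι (i * v.2, 0)) = ι (i * v.2, 0) := (a2 _).trans (congrArg ι (by simp [xx]))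
  have c2 := f.pow (i * v.2, 0)
  have c3 := E2.qc h z1 (f.memQ (i * v.2, 0))
  generalize ι (i * v.2, 0) = c at z5 c1 c2 c3
  rw [pow_three, MulAut.mul_apply, MulAut.mul_apply, z2, map_mul, z5, z2, map_mul, map_mul, map_mul, c1, z5, z2,
    show c * (c * z) * (c * z * (z * w)) = c * c * (z * c) * z * z * w by group, c3,
    show c * c * (c * z) * z * z * w = c ^ 3 * z ^ 3 * w by simp only [pow_three, mul_assoc], c2, one_mul, mul_eq_right, z3] at b5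
  exact a1 (congrArg Prod.fst (f.eq_zero b5))

theorem cube {u : S} (hu : u ∈ Q) : u ^ 3 = 1 := by
  obtain ⟨k, hk⟩ := pElt_iff.1 (pElt_of_mem h.pg hu)
  induction k generalizing u with
  | zero => rw [pow_zero, pow_one] at hk; rw [hk, one_pow]
  | succ k ih => exact cube_of hM h f hu (ih (pow_mem hu 3) (by rw [← pow_mul, ← pow_succ', hk]))

theorem exists_co {u : S} (hu : u ∈ Q) : ∃ v, ι v = u := (f.mem u).1 ⟨hu, cube hM h f hu⟩

theorem neg_of {t : S} (ht : t ∈ E) {g : ZMod 3 × ZMod 3 → ZMod 3 × ZMod 3} (a : Ac ι (MulAut.conj t) g) (hg : Pw g) :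
    ∃ t ∈ E, ∀ d ∈ Q, t * d * t⁻¹ = d⁻¹ := by
  rcases hg with ⟨n, e⟩ | ⟨e, e'⟩
  · refine ⟨t ^ n.val, pow_mem ht _, fun d hd => ?_⟩
    obtain ⟨v, rfl⟩ := exists_co hM h f hd
    have := a.pow n.val v
    rwa [e, f.neg, ← map_pow, MulAut.conj_apply] at this
  · obtain ⟨m, h1, h2⟩ := E2.reg_pow h (h.inn0 t ht)
    refine absurd (fun v => ?_) e'
    have h3 : Function.IsPeriodicPt g m v := f.inj ((a.pow m v).symm.trans (h2 _ (f.memQ v)))
    have h4 := Function.IsPeriodicPt.gcd (show Function.IsPeriodicPt g 3 v from e v) h3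
    rwa [(Nat.prime_three.coprime_iff_not_dvd.2 h1).gcd_eq_one] at h4

theorem nine : Nine Q E Γ where
  card := by
    have h1 : (Q : Set S) = Set.range ι := Set.ext fun u => ⟨exists_co hM h f, fun ⟨v, e⟩ => e ▸ f.memQ v⟩
    change Nat.card (Q : Set S) = 9
    rw [h1, Nat.card_range_of_injective f.inj, Nat.card_prod, Nat.card_zmod]
  cube u := cube hM h f
  tr u hu v hv h1 h2 := by
    obtain ⟨u, rfl⟩ := exists_co hM h f hu
    obtain ⟨v, rfl⟩ := exists_co hM h f hv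
    exact tr hM h f (fun e => h1 (by rw [e, f.zero])) fun e => h2 (by rw [e, f.zero])
  neg := by
    obtain ⟨s, hs, u, hu, h1⟩ : ∃ s ∈ E, ∃ u ∈ Q, u * s ≠ s * u := by
      by_contra h1
      push Not at h1
      obtain ⟨α, a1, -, u, a2, a3⟩ := h.nc
      exact a3 (h.cz α a1 u ⟨a2, mem_centralizer_iff.2 fun s hs => (h1 s hs u a2).symm⟩)
    obtain ⟨p, q, r, t, a⟩ := exists_mt h f ((h.inn s).2 hs)
    obtain ⟨X, x1, x2⟩ := exists_xx hM h f 1
    rcases dec_neg p q r t (fun v e => f.eq_zero ((MulAut.conj s).injective (by rw [a, e, f.zero, map_one]))) with e | e | e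
    · obtain ⟨v, rfl⟩ := exists_co hM h f hu
      have h2 := a v
      rw [e, MulAut.conj_apply] at h2
      exact absurd (eq_mul_inv_iff_mul_eq.1 h2.symm) h1
    · exact neg_of hM h f hs a e
    · refine neg_of hM h f (mul_mem (E2.act_mem h x1 hs) hs) ?_ e
      have h2 : MulAut.conj (X s) = X * (MulAut.conj s * X⁻¹) := MulEquiv.ext fun g => by
        simp [MulAut.conj_apply, MulAut.mul_apply]
      rw [map_mul, h2]
      exact (x2.mul (a.mul (x2.inv fun v => by simp [xx]))).mul a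

end three

end P2

/-- **[P2]** -/
theorem boxP2_of (hM : BoxMv) : BoxP2 := by
  intro l hl S _ _ Q E Γ Γ₀ h2 h hr
  obtain ⟨ι, f⟩ := P2.exists_fr hM h hr
  obtain rfl := P2.eq_three hM h f h2
  exact ⟨rfl, P2.nine hM h f⟩

theorem boxP2 : BoxP2 := boxP2_of boxMv

end Cfsg.Agent.BH.RO
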