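import Cfsg.Agent.BH.RowO.Lev
import Cfsg.Agent.KM.Sc.C
import Cfsg.Agent.KM.Ex.OneX
import Cfsg.Agent.KZ.Dat.OmS
import Cfsg.Agent.KZ.DatX.Main

/-!
# BH, `RowO` in cross characteristic: symplectic and orthogonal groups (helper42)
-/

set_option autoImplicit false
set_option linter.unusedSectionVars false

namespace Cfsg.Agent.BH.RO

open Cfsg Subgroup Matrix Cfsg.Agent.KM
open Cfsg.Agent.TO.X.Cn (Pi1 cl pi1_of_mat)
open Cfsg.Agent.DL Cfsg.Agent.DL.PP Cfsg.Agent.KZ.Lie Cfsg.Agent.KZ.Dat Cfsg.Agent.KZ.Dat.Om Cfsg.Agent.KZ.DatX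
open Cfsg.Agent.Nodes.TypeC (wt)

namespace R1

section gen

variable {p : ℕ} [Fact p.Prime] {k : Type} [Field k] [CharP k p] {Y : Type} [Group Y] {N : Type} [Fintype N]
  [DecidableEq N] {ρ : Y →* GL N k} {F : MulAut Y} {G : Subgroup Y} [IsAlgClosed k] {D : Datum p ρ F G}
  {Adm : Matrix D.R D.R ℤ → Prop} {S T : Type} [Group S] [Group T] {l n e f : ℕ} [hl : Fact l.Prime]

variable (D) in
/-- twice a character is a sum of two roots -/
def Two : Prop := ∀ j, ∃ a b, D.Rt a ∧ D.Rt b ∧ D.wt (a + b) = (2 : ℤ) • Pi.single j 1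

theorem Two.sq (h : Two D) {z : Y} (hz : Cn G z) : z ^ 2 = 1 := by
  have h1 : z ∈ D.T := D.centralizer_T ▸ ⟨hz.1, fun s hs => hz.2 s (D.T_le_G hs)⟩
  have h2 : ∀ a, D.Rt a → D.χ a z = 1 := fun a ha => by
    have h3 := D.tor' ha h1 1
    rw [← hz.2 _ (D.X_le_G ha (D.x_mem ha 1)), mul_inv_cancel_right, mul_one] at h3
    exact (D.x_inj a ha h3).symm
  obtain ⟨c, rfl⟩ := (D.mem_T z).1 h1
  rw [← map_pow, ← map_one D.τ]
  refine congrArg D.τ (funext fun j => Units.ext ?_)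
  obtain ⟨a, b, ha, hb, e⟩ := h j
  have h3 := D.χ_add a b (D.τ c)
  rw [h2 a ha, h2 b hb, D.χ_τ, e, chr_zsmul, chr_single, mul_one] at h3
  exact h3

theorem idx (s : Sit D Adm S) (h2 : l ≠ 2) (h : Two D) (h1 : ∀ g ∈ GF F G, g ^ 2 ∈ s.H0) : IDX l s where
  ker z hz := fun k => h2 ((Nat.prime_dvd_prime_iff_eq hl.out Nat.prime_two).1 (k.trans (orderOf_dvd_of_pow_eq_one
    (Subtype.ext (h.sq ⟨(s.le z.2).1, (s.ker z).1 hz⟩)))))
  idx x hx hc := ⟨2 * 2, fun k => h2 ((Nat.prime_dvd_prime_iff_eq hl.out Nat.prime_two).1 ((hl.out.dvd_mul.1 k).elim id id)), 1,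
    ⟨one_mem _, fun y _ => by rw [mul_one, one_mul]⟩, by
      rw [mul_one, pow_mul]
      refine h1 _ ⟨pow_mem hx 2, ?_⟩
      change F (x ^ 2) = x ^ 2
      rw [map_pow, ← mul_inv_cancel_left x (F x), Commute.mul_pow (hc.2 x hx), h.sq hc, mul_one]⟩

theorem row [Finite S] (B : Bx) (s : Sit D Adm S) (h2 : l ≠ 2) (hp : l ≠ p) (he : 0 < e)
    (hM : D.Mx ^ 2 = (p : ℤ) ^ e • 1) (h : Two D) (h0 : ∀ g ∈ GF F G, g ^ 2 ∈ s.H0) (h1 : Pi1 D f) (hf : f ∣ 2)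
    (hL : Tor.Lev D l) (hA : ∀ A, Adm A → ∃ j : ℕ, A ^ 2 = (p : ℤ) ^ j • 1) : RowO l S :=
  have h3 := (Nat.coprime_primes hl.out Nat.prime_two).2 h2
  no_of_lev B s h2 hp (hl.out.coprime_iff_not_dvd.1 h3) he hM (idx s h2 h h0) h1 (h3.coprime_dvd_right hf) hL hA

theorem pi_of (h : ∀ j, ∃ β, cl D β = (2 : ℤ) • Pi.single j 1) : Pi1 D 2 := by
  choose β hβ using h
  refine pi1_of_mat D β fun j m => ((Finset.sum_apply m _ _).symm.trans (congrFun (hβ j) m)).trans ?_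
  rw [Pi.smul_apply, Pi.single_apply]
  split_ifs with h1 h2 h2
  exacts [rfl, absurd h1.symm h2, absurd h2.symm h1, rfl]

end gen

section mat

variable {R : Type} [Fintype R] [DecidableEq R] {p n i : ℕ} {B : Matrix R R ℤ}

theorem pw (h : B ^ n = (p : ℤ) ^ i • 1) (j : ℕ) : ((p : ℤ) ^ j • B) ^ n = (p : ℤ) ^ (j * n + i) • 1 := by
  rw [smul_pow, h, smul_smul, ← pow_mul, pow_add]

theorem pw0 (h : B ^ n = 1) (j : ℕ) : ((p : ℤ) ^ j • B) ^ n = (p : ℤ) ^ (j * n + 0) • 1 :=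
  pw (by rw [h, pow_zero, one_smul]) j

theorem pw_Q (A : Matrix R R ℤ) (h : AdmQ p A) : ∃ j : ℕ, A ^ n = (p : ℤ) ^ j • 1 := by
  obtain ⟨j, rfl⟩ := h
  exact ⟨_, pw0 (one_pow n) j⟩

theorem pw_D (A : Matrix (Fin (n + 2)) (Fin (n + 2)) ℤ) (h : AdmD p n A) : ∃ j : ℕ, A ^ 2 = (p : ℤ) ^ j • 1 := by
  obtain ⟨j, rfl | rfl⟩ := h
  exacts [⟨_, pw0 (one_pow 2) j⟩, ⟨_, pw0 ((pow_two _).trans (BD_mul n)) j⟩]

theorem two_wt {m : ℕ} (i j : Fin m) :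
    wt (j, true) + wt (i, true) + (wt (j, true) + wt (i, false)) = (2 : ℤ) • Pi.single j 1 := by
  rw [show wt (i, false) = -wt (i, true) from Pi.single_neg i 1, two_smul]
  exact add_add_add_comm _ _ _ _ |>.trans (by rw [add_neg_cancel, add_zero]; rfl)

end mat

section dat

variable {k : Type} [Field k] {p : ℕ} [Fact p.Prime] [CharP k p] [IsAlgClosed k]
  (hk : ∀ a : k, ∃ j, 0 < j ∧ a ^ p ^ j = a) {e : ℕ} (he : 0 < e) {n l : ℕ}

theorem twoC (hn : 2 ≤ n) : Two (datC n hk he) := fun j => by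
  have : Nontrivial (Fin n) := Fin.nontrivial_iff_two_le.2 hn
  obtain ⟨i, hi⟩ := exists_ne (show Fin n from j)
  obtain ⟨a, ha, h1⟩ := exists_rtC hk he (x := (j, true)) (y := (i, true)) (.inl hi.symm)
  obtain ⟨b, hb, h2⟩ := exists_rtC hk he (x := (j, true)) (y := (i, false)) (.inl hi.symm)
  exact ⟨a, b, ha, hb, by rw [map_add, h1, h2]; exact two_wt i j⟩

theorem twoB (h2 : (2 : k) ≠ 0) : Two (datB n h2 hk he) := fun j => by
  obtain ⟨a, ha, h1⟩ := exists_rtB' h2 hk he (show Fin n × Bool from (j, true))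
  exact ⟨a, a, ha, ha, by rw [map_add, h1, two_smul]; rfl⟩

theorem piB (h2 : (2 : k) ≠ 0) : Pi1 (datB n h2 hk he) 2 := pi_of fun j => by
  obtain ⟨a, -, h1⟩ := exists_rtC hk he (x := (show Fin n × Bool from (j, true))) (y := (j, true)) (.inr rfl)
  exact ⟨a, (Finset.sum_congr rfl fun i _ => congrArg (a i • ·) (datB_cw h2 hk he i)).trans (h1.trans (two_smul ℤ _).symm)⟩

theorem levB (h2 : (2 : k) ≠ 0) (hl : Odd l) : Tor.Lev (datB n h2 hk he) l := fun j u => by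
  obtain ⟨v, hv⟩ := ScC.bal (n := n) (hl.pow (n := j)) u
  refine ⟨1, isCoprime_one_left, v, fun a ha h => ?_⟩
  rw [Nat.cast_pow] at hv
  rcases (rtB_iff h2 hk he).1 ha with ⟨x, y, -, h1⟩ | ⟨x, h1⟩ <;> rw [h1] at h ⊢
  · exact hv x y h
  · exact add_self_eq_zero.1 ((add_dotProduct (wt x) (wt x) _).symm.trans
      (hv x x ((dvd_add h h).trans (dvd_of_eq (add_dotProduct (wt x) (wt x) u).symm))))

variable {s : Fin (n + 2) × Bool → Fin (n + 2) × Bool} {γ : (Fin (n + 2) → ℤ) → Fin (n + 2) → ℤ}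
  {B : Matrix (Fin (n + 2)) (Fin (n + 2)) ℤ} (S : (osD n).Sy s γ B)

theorem twoD : Two (datD S hk he) := fun j => by
  obtain ⟨i, hi⟩ := exists_ne (show Fin (n + 2) from j)
  obtain ⟨a, ha, h1⟩ := exists_rtD S hk he (x := (j, true)) (y := (i, true)) hi.symm
  obtain ⟨b, hb, h2⟩ := exists_rtD S hk he (x := (j, true)) (y := (i, false)) hi.symm
  exact ⟨a, b, ha, hb, by rw [map_add, h1, h2]; exact two_wt i j⟩

theorem piD : Pi1 (datD S hk he) 2 := pi_of fun j =>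
  let ⟨a, b, _, _, h⟩ := twoD hk he S j
  ⟨a + b, (Finset.sum_congr rfl fun i _ => congrArg ((a + b) i • ·) (datD_cw S hk he i)).trans h⟩

theorem levD (hl : Odd l) : Tor.Lev (datD S hk he) l := fun j u => by
  obtain ⟨v, hv⟩ := ScC.bal (n := n + 2) (hl.pow (n := j)) u
  refine ⟨1, isCoprime_one_left, v, fun a ha h => ?_⟩
  obtain ⟨x, y, -, h1⟩ := (rtD_iff _ hk he).1 ha
  rw [h1] at h ⊢
  rw [Nat.cast_pow] at hv
  exact hv x y h

end dat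

theorem chr_of (F : Type) [Field F] [Fintype F] {l : ℕ} (h : (l : F) ≠ 0) : ∃ r, ∃ _ : Fact r.Prime, ∃ _ : CharP F r, l ≠ r := by
  obtain ⟨r, hr⟩ := CharP.exists F
  exact ⟨r, ⟨CharP.char_is_prime F r⟩, hr, fun e => h (e ▸ CharP.cast_eq_zero F r)⟩

theorem sq_B : GamB ^ 2 = ((2 : ℕ) : ℤ) ^ 1 • 1 := by decide +kernel

theorem six_L4 : ∀ B ∈ L4, B ^ 6 = 1 := fun B hB => by
  have h : ∀ B ∈ L4, B * B * B * (B * B * B) = 1 := by decide +kernel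
  rw [← h B hB]
  simp only [pow_succ, pow_zero, one_mul, mul_assoc]

end R1

open R1

theorem r1_psp (B : Bx) : RowOFor CPsp := by
  rintro l hl h2 S _ _ _ - ⟨F, _, _, m, hF, hm, -, ⟨i⟩⟩
  obtain ⟨r, _, _, hr⟩ := chr_of F hF
  obtain ⟨k, _, _, _, hk, e, he, f, hc⟩ := hasC r F
  have := Finite.of_equiv S i.toEquiv
  by_cases h3 : m = 2 ∧ r = 2
  · obtain ⟨rfl, rfl⟩ := h3
    have h4 := (Nat.coprime_primes hl.out Nat.prime_two).2 h2
    refine no_of_has B (has_PSp4 hc) i h2 hr (hl.out.coprime_iff_not_dvd.1 h4) (e := e * 2 + 0) (by omega) (pw0 (one_pow 2) e)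
      hl.out.not_dvd_one h4 (fun k _ _ _ X => ⟨TO.X.Cn.pi1 X TO.X.Cn.pm_B2, Ex.lev_B2 X hl.out
        (Nat.lt_of_le_of_ne hl.out.two_le h2.symm)⟩) ?_
    rintro A ⟨j, C, hC, rfl⟩
    rcases List.mem_cons.1 hC with rfl | hC
    exacts [⟨_, pw0 (one_pow 2) j⟩, ⟨_, List.mem_singleton.1 hC ▸ pw sq_B j⟩]
  · exact RowO.of_equiv i (row B (sitC f hk he hc hm fun a b => h3 ⟨a, b⟩) h2 hr (e := e * 2 + 0) (by omega)
      (pw0 (one_pow 2) e) (twoC hk he hm) (fun g hg => (sitC_H0 f hk he hc _).ge (pow_mem hg 2)) (ScC.pi1C hk he) (one_dvd 2)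
      (ScC.levC hk he (hl.out.odd_of_ne_two h2)) pw_Q)

theorem r1_oodd (B : Bx) : RowOFor COdd := by
  rintro l hl h2 S _ _ _ - ⟨F, _, _, m, hF, hm, ho, ⟨i⟩⟩
  obtain ⟨r, _, _, hr⟩ := chr_of F hF
  obtain ⟨k, _, _, _, hk, e, he, f, hc⟩ := hasC r F
  have := Finite.of_equiv S i.toEquiv
  obtain ⟨t, ht, -⟩ := sitB f hc hk he (two_ne hc ho he) ho hm
  exact RowO.of_equiv i (row B t h2 hr (e := e * 2 + 0) (by omega) (pw0 (one_pow 2) e) (twoB hk he _) ht (piB hk he _) dvd_rfl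
    (levB hk he _ (hl.out.odd_of_ne_two h2)) pw_Q)

theorem r1_ominus (B : Bx) : RowOFor CMinus := by
  rintro l hl h2 S _ _ _ - ⟨F, _, _, m, a, b, hF, hm, ho, ⟨i⟩⟩
  obtain ⟨r, _, _, hr⟩ := chr_of F hF
  obtain ⟨k, _, _, _, hk, e, he, f, hc⟩ := hasC r F
  have := Finite.of_equiv S i.toEquiv
  obtain ⟨n, rfl⟩ : ∃ n, m = n + 2 := ⟨m - 2, by omega⟩
  obtain ⟨t, ht, -⟩ := sitM f hc hk he (n := n) (by omega) ho
  exact RowO.of_equiv i (row B t h2 hr (e := e * 2 + 0) (by omega) (pw0 ((pow_two _).trans (BD_mul n)) e) (twoD hk he _) ht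
    (piD hk he _) dvd_rfl (levD hk he _ (hl.out.odd_of_ne_two h2)) pw_D)

theorem r1_oplus (B : Bx) (h4 : ∀ (F : Type) [Field F] [Fintype F], ((3 : ℕ) : F) ≠ 0 →
    ∀ (S : Type) [Group S] [Finite S] [IsSimpleGroup S], ¬ IsMulCommutative S →
      Nonempty (S ≃* POmega F (quadFormPlus 4 F)) → RowO 3 S) : RowOFor CPlus := by
  rintro l hl h2 S _ _ _ hS ⟨F, _, _, m, hF, hm, ⟨i⟩⟩
  obtain ⟨r, _, _, hr⟩ := chr_of F hF
  obtain ⟨k, _, _, _, hk, e, he, f, hc⟩ := hasC r F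
  have := Finite.of_equiv S i.toEquiv
  have h3 := (Nat.coprime_primes hl.out Nat.prime_two).2 h2
  rcases hm.eq_or_lt with rfl | hm
  · by_cases h5 : l = 3
    · subst h5
      exact h4 F hF S hS ⟨i⟩
    refine no_of_has B (has_plus8 hc) i h2 hr (n := 6) (fun h => ?_) (e := e * 6 + 0) (by omega) (pw0 (one_pow 6) e)
      (fun h => hl.out.coprime_iff_not_dvd.1 h3 (h.trans (Nat.gcd_dvd_left _ _))) h3
      (fun k _ _ _ X => ⟨TO.X.Cn.pi1 X TO.X.Cn.pm_D4, Ex.lev_D4 X hl.out (Nat.lt_of_le_of_ne hl.out.two_le h2.symm)⟩) ?_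
    · exact (hl.out.dvd_mul.1 (show l ∣ 2 * 3 from h)).elim (hl.out.coprime_iff_not_dvd.1 h3)
        fun h => h5 ((Nat.prime_dvd_prime_iff_eq hl.out Nat.prime_three).1 h)
    · rintro A ⟨j, C, hC, rfl⟩
      exact ⟨_, pw0 (six_L4 C hC) j⟩
  · obtain ⟨n, rfl⟩ : ∃ n, m = n + 2 := ⟨m - 2, by omega⟩
    obtain ⟨t, ht, -⟩ := sitP f hc hk he (n := n) (by omega)
    exact RowO.of_equiv i (row B t h2 hr (e := e * 2 + 0) (by omega) (pw0 (one_pow 2) e) (twoD hk he _) ht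
      (piD hk he _) dvd_rfl (levD hk he _ (hl.out.odd_of_ne_two h2)) pw_D)

end Cfsg.Agent.BH.RO
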