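import Cfsg.Agent.BH.RowO.R6c
import Cfsg.Agent.BH.RowO.R45
import Cfsg.Agent.BH.RowO.G
import Cfsg.Agent.BH.RowO.Diag
import Cfsg.Agent.BH.RowO.XC

/-!
# BH, `RowO`, types `E₆`, `²E₆` at `l = 3` : the rows `r6_e6`, `r6_te6` (helper29)
-/

set_option autoImplicit false
set_option linter.unusedSectionVars false

namespace Cfsg.Agent.BH.RO

open Cfsg Cfsg.Lie Matrix Subgroup Cfsg.Agent.KZ.DatX Cfsg.Agent.DL Cfsg.Agent.DL.PP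
open Cfsg.Agent.TO Cfsg.Agent.KM
open Cfsg.Agent.TO.E6 (St)
open Cfsg.Agent.H469.Exc (KK)
open Cfsg.Agent.DS.Ex (YY)
open Cfsg.Agent.H720.TwFr (rho6)
open Cfsg.Agent.KM.Tor (Dl Set3 Toral3)
open Cfsg.Agent.KM.Tor.E6 (Fr)

attribute [local instance] Nat.fact_prime_three

namespace R6

variable {r : ℕ} [hr : Fact r.Prime] {S : Type} [Group S] (Γ : St r S)

theorem adm {A : Matrix (Fin 6) (Fin 6) ℤ} (h : AdmL r [1, P6] A) : ∃ (j : ℕ) (c : ℤ) (ψ : Γ.X.D.W),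
    A ^ 2 = (r : ℤ) ^ (2 * j) • 1 ∧ (c = r ^ j ∨ c = -r ^ j) ∧ A = c • Γ.X.D.Wm ψ := by
  obtain ⟨j, B, h1, rfl⟩ := h
  obtain ⟨w, hw⟩ := Γ.X.exists_neg_E6
  simp only [List.mem_cons, List.not_mem_nil, or_false] at h1
  rcases h1 with rfl | rfl
  · exact ⟨j, _, 1, R45.sq_smul r j, .inl rfl, congrArg _ Γ.X.D.Wm_one.symm⟩
  · exact ⟨j, _, w, by rw [_root_.smul_pow, Nt.P6_sq, ← pow_mul, mul_comm], .inr rfl,
      (neg_smul_neg _ P6).symm.trans (congrArg _ hw.symm)⟩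

theorem adm_comm {A B : Matrix (Fin 6) (Fin 6) ℤ} (h : AdmL r [1, P6] A) (h' : AdmL r [1, P6] B) : A * B = B * A := by
  obtain ⟨j, A, h1, rfl⟩ := h
  obtain ⟨i, B, h2, rfl⟩ := h'
  simp only [List.mem_cons, List.not_mem_nil, or_false] at h1 h2
  refine (Commute.smul_right (Commute.smul_left ?_ _) _).eq
  rcases h1 with rfl | rfl <;> rcases h2 with rfl | rfl <;> simp

theorem exists_m : ∃ (m : ℤ) (φ : Γ.X.D.W), (m = r ^ Γ.e ∨ m = -r ^ Γ.e) ∧ Γ.X.D.Mx = m • Γ.X.D.Wm φ ∧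
    Γ.Mx ^ 2 = m ^ 2 • 1 ∧ (Γ.d = 3 ↔ 3 ∣ m - 1) := by
  obtain ⟨w, hw⟩ := Γ.X.exists_neg_E6
  have h0 : 1 ≤ r ^ Γ.e := Nat.one_le_pow _ _ hr.out.pos
  rcases Γ.typ with ⟨-, h1, h2⟩ | ⟨-, h1, h2⟩
  · refine ⟨_, 1, .inl rfl, h1.trans (congrArg _ Γ.X.D.Wm_one.symm), by rw [h1, _root_.smul_pow, one_pow], ?_⟩
    rw [h2, Nat.gcd_eq_left_iff_dvd, ← Nat.cast_pow]
    omega
  · refine ⟨_, w, .inr rfl, h1.trans ((neg_smul_neg _ P6).symm.trans (congrArg _ hw.symm)),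
      by rw [h1, _root_.smul_pow, Nt.P6_sq, neg_sq], ?_⟩
    rw [h2, Nat.gcd_eq_left_iff_dvd, ← Nat.cast_pow]
    omega

/-- `σ` is induced by `α` up to `G ^ F` -/
def Lf (σ : MulAut S) (α : MulAut (YY chevE6 r)) : Prop := ∃ g, Γ.X.F g = g ∧ ∀ s, Γ.s.ι (σ s) = g * α (Γ.s.ι s) * g⁻¹

variable {Γ} {σ σ' : MulAut S} {α β : MulAut (YY chevE6 r)} {A : Matrix Γ.X.D.R Γ.X.D.R ℤ}

theorem Lf.mul (h : Lf Γ σ α) (h' : Lf Γ σ' β) (hα : Au Γ.X.D α A) : Lf Γ (σ * σ') (α * β) := by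
  obtain ⟨g, g1, g2⟩ := h
  obtain ⟨c, c1, c2⟩ := h'
  refine ⟨g * α c, by rw [map_mul, g1, ← hα.comm, c1], fun s => ?_⟩
  rw [MulAut.mul_apply, g2, c2, map_mul, map_mul, map_inv, MulAut.mul_apply]
  group

theorem Lf.pow (h : Lf Γ σ α) (hα : Au Γ.X.D α A) (n : ℕ) : Lf Γ (σ ^ n) (α ^ n) := by
  induction n with
  | zero => exact ⟨1, map_one _, fun s => by simp⟩
  | succ n ih => rw [pow_succ', pow_succ']; exact h.mul ih hα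

theorem Lf.div (h : Lf Γ σ α) (h' : Lf Γ σ' β) (hα : Au Γ.X.D α A) (hβ : Au Γ.X.D β A) : σ * σ'⁻¹ ∈ Γ.Dg := by
  obtain ⟨g, g1, g2⟩ := h
  obtain ⟨c, c1, c2⟩ := h'
  have h1 := Gn.au_div hα hβ
  obtain ⟨t, -, h2⟩ := boxDiag Γ.X.D _ h1
  have h3 : t⁻¹ * Γ.X.F t = 1 := cn_one hpE6 ⟨trivial, fun y _ => by
    obtain ⟨y, rfl⟩ := Γ.X.F.surjective y
    have h4 := h1.comm y
    rw [h2 _ trivial, h2 _ trivial, map_mul, map_mul, map_inv] at h4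
    calc _ = t⁻¹ * (t * Γ.X.F y * t⁻¹) * Γ.X.F t := by group
      _ = _ := by rw [h4]; group⟩
  refine ⟨g * t * c⁻¹, by rw [map_mul, map_mul, map_inv, g1, c1, ← inv_mul_eq_one.1 h3], fun s => ?_⟩
  obtain ⟨s, rfl⟩ := σ'.surjective s
  have h4 := h2 (β (Γ.s.ι s)) trivial
  rw [MulAut.mul_apply, MulAut.inv_apply_self] at h4 ⊢
  rw [g2, c2, h4]
  group

theorem exists_lf (σ : MulAut S) : ∃ α, ∃ A : Matrix (Fin 6) (Fin 6) ℤ, Au Γ.X.D α A ∧ AdmL r [1, P6] A ∧ Lf Γ σ α :=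
  let ⟨g, hg, α, A, h1, h2, h3⟩ := Γ.s.aut σ
  ⟨α, A, h1, h2, g, hg.2, h3⟩

theorem comm_mem (σ σ' : MulAut S) : σ * σ' * (σ' * σ)⁻¹ ∈ Γ.Dg := by
  obtain ⟨α, A, h1, h2, h3⟩ := exists_lf (Γ := Γ) σ
  obtain ⟨β, B, k1, k2, k3⟩ := exists_lf (Γ := Γ) σ'
  have h4 := KZ.Dat.au_mul k1 h1
  exact (h3.mul k3 h1).div (k3.mul h3 k1) (KZ.Dat.au_mul h1 k1) ((adm_comm k2 h2 : B * A = A * B) ▸ h4)

theorem normal : Γ.Dg.Normal := ⟨fun n hn g => by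
  simpa only [_root_.mul_inv_rev, mul_assoc, inv_mul_cancel, mul_one] using mul_mem (comm_mem g n) hn⟩

theorem pow_mem_Dg (σ : MulAut S) : σ ^ (2 * Γ.e) ∈ Γ.Dg := by
  obtain ⟨α, A, h1, h2, h3⟩ := exists_lf (Γ := Γ) σ
  obtain ⟨j, -, -, h4, -⟩ := adm Γ h2
  obtain ⟨m, -, h5, -, h6, -⟩ := exists_m Γ
  have h7 := KZ.Cl.au_F Γ.X.D_qs
  have h8 : Lf Γ 1 Γ.X.F := ⟨1, map_one _, fun s => by simp [Γ.fix]⟩
  have h9 : Γ.Mx ^ (2 * j) = A ^ (2 * Γ.e) := by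
    rw [pow_mul, pow_mul, h4, h6, _root_.smul_pow, _root_.smul_pow, one_pow, one_pow]
    rcases h5 with rfl | rfl <;> congr 1 <;> ring
  simpa only [one_pow, inv_one, mul_one] using (h3.pow h1 (2 * Γ.e)).div (h8.pow h7 (2 * j)) (Gn.au_pow h1 _)
    (h9 ▸ Gn.au_pow h7 (2 * j))

theorem cube_inn (h : σ ∈ Γ.Dg) : σ ^ 3 ∈ Inn S :=
  let ⟨_, h1, h2⟩ := h
  E6N.mem_inn Γ (E6N.pow_act Γ h2 3) (Γ.cube h1)

theorem ns (Γ : St r S) : NS S 3 := fun α β ⟨i, hi⟩ ⟨j, hj⟩ => by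
  have := normal (Γ := Γ)
  have h1 : Commute (α : MulAut S ⧸ Γ.Dg) β := by
    rw [Commute, SemiconjBy, ← mul_inv_eq_one, ← QuotientGroup.mk_mul, ← QuotientGroup.mk_mul, ← QuotientGroup.mk_inv,
      ← QuotientGroup.mk_mul, QuotientGroup.eq_one_iff]
    exact comm_mem α β
  refine ⟨i + j + 1, ?_⟩
  rw [pow_succ, pow_mul]
  refine cube_inn (Γ := Γ) ((QuotientGroup.eq_one_iff _).1 ?_)
  rw [QuotientGroup.mk_pow, QuotientGroup.mk_mul, h1.mul_pow, ← QuotientGroup.mk_pow, ← QuotientGroup.mk_pow,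
    orderOf_dvd_iff_pow_eq_one.1 (hi ▸ pow_dvd_pow 3 (Nat.le_add_right i j)),
    orderOf_dvd_iff_pow_eq_one.1 (hj ▸ pow_dvd_pow 3 (Nat.le_add_left j i)), QuotientGroup.mk_one, mul_one]

variable {m : ℤ}

/-- for `3 ∥ m - 1` the `3`-automorphisms are inner-diagonal -/
theorem mem_Dg (hm : m = r ^ Γ.e ∨ m = -r ^ Γ.e) (h3 : 3 ∣ m - 1) (h9 : ¬ 9 ∣ m - 1) (h : PElt 3 σ) : σ ∈ Γ.Dg := by
  obtain ⟨j, hj⟩ := h
  refine Gn.mem_of_pow Nat.prime_three (fun e => h9 ?_) (pow_mem_Dg σ) (j := j) (by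
    rw [← hj, pow_orderOf_eq_one]
    exact one_mem _)
  obtain ⟨c, hc⟩ := (Nat.prime_three.dvd_mul.1 e).resolve_left (by decide)
  obtain ⟨n, rfl⟩ : ∃ n : ℤ, m = n ^ 3 := hm.elim (fun e => ⟨r ^ c, by rw [e, hc]; ring⟩)
    fun e => ⟨-r ^ c, by rw [e, hc]; ring⟩
  obtain ⟨x, hx⟩ : 3 ∣ n - 1 := by
    have h4 : 3 ∣ (n - 1) ^ 3 := by
      exact (dvd_sub h3 (dvd_mul_right 3 (n ^ 2 - n))).trans (Eq.dvd (by ring))
    exact Int.prime_three.dvd_of_dvd_pow h4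
  exact ⟨3 * x ^ 3 + 3 * x ^ 2 + x, by rw [eq_add_of_sub_eq hx]; ring⟩

/-- the over group -/
theorem dg [Finite S] (B : Bx) {n : ℕ} (hA : ∀ M : Ideal AlgInt, IsPModular 3 M →
    BHn 3 n M (Γ.s.ι.range.subgroupOf (GF Γ.X.F ⊤))) (hX : r ^ Γ.e = 2 → Γ.π = rho6 → XC S) : Dg S 3 n Γ.Dg := by
  intro K _ _ σ M b Q θ A A₀ H h1 h2 α h3 h4 β h5 h6
  rcases centre Γ H with h | ⟨k1, k2, k3⟩
  swap
  · exact h1.c0 α ⟨h1.inn (hX k1 k2 K σ H.qs H.surj H.ker H.cyc (IsPGroup.of_card (n := 1) k3)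
      (fun e => by rw [e, card_bot] at k3; omega) α h4), h3.2⟩ h4
  have := Γ.X.finite
  have e0 : Γ.s.ι.range.subgroupOf (GF Γ.X.F ⊤) = Γ.s.ov.hom.range := Subgroup.ext fun _ => Γ.s.ov.mem_range.symm
  have : (Γ.s.ι.range.subgroupOf (GF Γ.X.F ⊤)).Normal := e0 ▸ Γ.s.ov.normal
  let j : K →* Γ.s.ι.range.subgroupOf (GF Γ.X.F ⊤) := (Γ.s.ov.hom.comp σ).codRestrict _ fun x => ⟨σ x, rfl⟩
  let e : K ≃* Γ.s.ι.range.subgroupOf (GF Γ.X.F ⊤) := MulEquiv.ofBijective j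
    ⟨fun x y e => h.1 (Γ.inj (congrArg (fun z : Γ.s.ι.range.subgroupOf (GF Γ.X.F ⊤) => z.1.1) e)), fun ⟨x, s, hs⟩ =>
      let ⟨y, hy⟩ := h.2 s
      ⟨y, Subtype.ext (Subtype.ext ((congrArg Γ.s.ι hy).trans hs))⟩⟩
  let act : GF Γ.X.F ⊤ →* MulAut K := (MulAut.congr e.symm).toMonoidHom.comp MulAut.conjNormal
  let c : MulAut K ≃* MulAut S := MulAut.congr (MulEquiv.ofBijective σ h)
  have k1 : ∀ γ x, c γ (σ x) = σ (γ x) := fun γ x =>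
    congrArg (fun y => σ (γ y)) ((MulEquiv.ofBijective σ h).symm_apply_apply x)
  have k2 : ∀ g x, Γ.s.ι (σ (act g x)) = g * Γ.s.ι (σ x) * g⁻¹ := fun g x =>
    congrArg (fun z : Γ.s.ι.range.subgroupOf (GF Γ.X.F ⊤) => z.1.1) (e.apply_symm_apply (MulAut.conjNormal g (e x)))
  have k3 : act.range = Γ.Dg.comap c.toMonoidHom := Subgroup.ext fun γ => ⟨fun ⟨g, hg⟩ => ⟨g, g.2.2, fun s => by
      obtain ⟨x, rfl⟩ := h.2 s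
      exact (congrArg _ (k1 γ x)).trans (hg ▸ k2 g x)⟩,
    fun ⟨g, g1, g2⟩ => ⟨⟨g, trivial, g1⟩, MulEquiv.ext fun x => h.1 (Γ.inj ((k2 _ x).trans
      ((g2 (σ x)).symm.trans (congrArg _ (k1 γ x)))))⟩⟩
  have k4 : Inn K = (Inn S).comap c.toMonoidHom := Subgroup.ext fun γ => ⟨fun ⟨g, hg⟩ => ⟨σ g, MulEquiv.ext fun s => by
      obtain ⟨x, rfl⟩ := h.2 s
      exact Eq.symm ((k1 γ x).trans (by rw [← hg]; simp))⟩,
    fun ⟨g, hg⟩ => by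
      obtain ⟨g, rfl⟩ := h.2 g
      exact ⟨g, MulEquiv.ext fun x => h.1 (Eq.trans (by simp) ((DFunLike.congr_fun hg (σ x)).trans (k1 γ x)))⟩⟩
  refine B.dg 3 K S _ M b Q θ σ A A₀ _ e.symm.toMonoidHom act H h1 ⟨e.symm.surjective, ?_, ?_, fun g n n' hn => ?_⟩
    (h2 ▸ hA M H.can.hM) (fun a _ b hb => ?_) (fun h7 => ?_) α h3 h4 ?_
  · rw [(MonoidHom.ker_eq_bot_iff _).2 e.symm.injective, card_bot]
    decide
  · exact isCyclic_of_card_dvd_prime (p := 3) (show Subgroup.index _ ∣ 3 from e0 ▸ Γ.idx.trans Γ.d_dvd)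
  · exact congrArg e.symm (Subtype.ext (hn.trans (congrArg (fun z : Γ.s.ι.range.subgroupOf (GF Γ.X.F ⊤) => g * z.1 * g⁻¹)
      (e.apply_symm_apply n).symm)))
  · rw [k3] at hb ⊢
    exact (Normal.comap normal _).conj_mem b hb a
  · rw [k3, k4, relIndex_comap, map_comap_eq_self_of_surjective c.surjective] at h7
    exact absurd (h7.trans (E6N.relIndex_Dg Γ)) (by decide)
  · rw [k3, mem_comap]
    refine (MulEquiv.ext fun s => ?_ : β = c.toMonoidHom α) ▸ h5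
    obtain ⟨x, rfl⟩ := h.2 s
    exact (h6 x).symm.trans (k1 α x).symm

section cast

variable {Mx : Matrix (Fin 6) (Fin 6) ℤ} {X : XF hpE6 r (KK r) Mx} {Adm : Matrix (Fin 6) (Fin 6) ℤ → Prop} {d : ℕ}

theorem exists_xs (s : XS X Adm d S) {d' : ℕ} (h : d = d') : ∃ s' : XS X Adm d' S, s'.ι = s.ι := by
  subst h
  exact ⟨s, rfl⟩

end cast

/-- **the row** -/
theorem row [Finite S] (B : Bx) (hA : BoxAd6) (hD : DlA Γ) (hX : r ^ Γ.e = 2 → Γ.π = rho6 → XC S) : RowO 3 S := by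
  obtain ⟨m, φ, m1, m2, m3, m4⟩ := exists_m Γ
  have hp := Γ.h3.symm
  have hF := fr m2 hD
  refine row_of_dg B.sh B.p2 (by decide) Γ.Dg {n | (n = 9 ∨ n = 27) ∧ 3 ∣ m - 1 ∧ ¬ 9 ∣ m - 1}
    (fun n ⟨h1, h2, h3⟩ => dg B (fun M hM => ?_) hX) fun Q E Δ Δ₀ H hC hR h9 => ?_
  · obtain ⟨s, e⟩ := exists_xs Γ.s (m4.2 h2)
    exact e ▸ hA r _ _ Γ.X _ S s m φ hp m2 h2 h3 (e ▸ hD) M hM n h1
  have k1 : Nat.card Q = 9 ∨ Nat.card Q = 27 → 3 ∣ m - 1 → 9 ∣ m - 1 := fun h1 h2 => by_contra fun h3 =>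
    let ⟨α, a1, a2, u, u1, u2⟩ := H.nc
    u2 (hC ⟨h1, h2, h3⟩ α a1 (mem_Dg m1 h2 h3 a2) a2 u u1)
  have k2 : ¬ Rk2 3 Q := fun h => h9 rfl (hR h).2 (no9 hF (k1 (.inl (hR h).2.card)))
  obtain ⟨-, ⟨y, hy⟩, -⟩ := B.mv 3 S Q E Δ Δ₀ H
  have h1 : Set3 Γ.X.F ⊤ Γ.s.ι.range (Q.map Γ.s.ι) (Γ.s.ι y) := ⟨R45.loc_map Γ.inj hy, fun _ ⟨a, ha, e⟩ _ ⟨b, hb, e'⟩ => by
    rw [← e, ← e', ← map_mul, H.ab hb a ha, map_mul], Γ.s.sit.le, Γ.s.sit.comm⟩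
  rcases core hp hF h1 with h | h | h | ⟨h, h2, h3⟩
  · rcases Γ.d_eq with h2 | h2
    · obtain ⟨g, hg, hN, h3, -⟩ := h
      exact B.t1 hpE6 Γ.d (by decide) (by rw [h2]; decide) r _ _ Γ.X _ S Γ.s Γ.e m φ hp Γ.he m1 m2 m3 (fun _ => adm Γ)
        Q E Δ Δ₀ H ⟨g, hg, hN, h3⟩
    · obtain ⟨s, e⟩ := exists_xs Γ.s h2
      exact k2 (B.t6 r _ _ Γ.X _ S s Γ.e m φ hp Γ.he m1 m2 m3 (fun _ => adm Γ) Q E Δ Δ₀ H (m4.1 h2) (e ▸ hD) (e ▸ h))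
  · rw [card_map_of_injective Γ.inj] at h
    exact k2 ((Set.ncard_le_ncard (t := Q) fun _ h => h.1).trans (show (Q : Set S).ncard ≤ 3 ^ 2 from h))
  · exact B.e2.flag S _ ⊤ Γ.s.ι Q E Δ Δ₀ Γ.inj (fun _ => trivial) H (ns Γ) h
  · exact h3 (k1 (.inr ((card_map_of_injective Γ.inj).symm.trans h)) h2)

end R6

/-- **`E₆(q)` at `l = 3`** -/
theorem r6_e6 (B : Bx) (hA : BoxAd6) : RowAt CE6 (· = 3) := by
  rintro _ _ - rfl S _ _ _ - ⟨F, _, _, h1, ⟨i⟩⟩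
  obtain ⟨r, e, _, _, hr, -, hF⟩ := Nt.exists_char F h1
  have := Finite.of_equiv _ i.toEquiv
  obtain ⟨Γ, h2, h3⟩ := R6.ex_E6 hr.symm F hF
  exact RowO.of_equiv i (R6.row B hA h2 fun _ h => absurd (h3.symm.trans h) (by decide))

/-- **`²E₆(q)` at `l = 3`** -/
theorem r6_te6 (B : Bx) (hA : BoxAd6) : RowAt CTe6 (· = 3) := by
  rintro _ _ - rfl S _ _ _ - ⟨F, _, _, q, h1, hq, hF, ⟨i⟩⟩
  obtain ⟨r, e, _, _, hr, -, rfl⟩ := Nt.exists_char' F h1 hq two_ne_zero hF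
  have := Finite.of_equiv _ i.toEquiv
  obtain ⟨Γ, h2, h3⟩ := R6.ex_2E6 hr.symm F hF
  refine RowO.of_equiv i (R6.row B hA h2 fun h _ => ?_)
  rw [h3] at h
  rw [h] at hF ⊢
  exact xc_te62 hF

end Cfsg.Agent.BH.RO
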