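import Cfsg.Agent.KM.Tor.E6
import Cfsg.Agent.KM.Tor.One
import Cfsg.Agent.KM.Tor.NA
import Cfsg.Agent.KM.Tor.LC
import Cfsg.Agent.KM.Tor.LN

/-!
# BH, `RowO`, types `E₆`, `²E₆` at `l = 3` : the group theoretic core (helper29)

`core` : the non-toral groups of order `27` occur only for `3 ∥ m - 1`; `tor9`.
-/

set_option autoImplicit false
set_option linter.unusedSectionVars false

namespace Cfsg.Agent.BH.RO.R6

open Cfsg Cfsg.Lie Cfsg.Agent.DL Matrix Subgroup Cfsg.Agent.KM.Ht Cfsg.Agent.KM.Tor Cfsg.Agent.KM.Tor.E6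
open Cfsg.Agent.KZ.DatX Cfsg.Agent.Nodes.RGDChev
open Cfsg.Agent.KM.Tor.One (tri union plane cj_two)
open Cfsg.Agent.Nodes.Reps (mem_cj)

section

variable {p : ℕ} [Fact p.Prime] {k : Type} [Field k] [CharP k p] {Y : Type} [Group Y] {N : Type} [Fintype N]
  [DecidableEq N] {ρ : Y →* GL N k} {F : MulAut Y} {G : Subgroup Y} [IsAlgClosed k] {X : Datum p ρ F G}
  {H D A : Subgroup Y} {y : Y} {m : ℤ}

/-- toral subgroups which are not of Levi type have order at most three -/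
theorem tor' (h : Fr X H m) (hp : 3 ≠ p) (hf : (A : Set Y).Finite) (hA : A ≤ X.T) (he : El 3 (A : Set Y))
    (hn : ¬ (A : Set Y) ⊆ Z0 X A) : Nat.card A ≤ 3 ∧ ∀ t ∈ A, t ≠ 1 → (X.Sz {t}).ncard = 18 := by
  replace hn : ¬ QC X A := fun e => hn (h.zc.le Nat.prime_three hp hA he e)
  have h0 : ∀ t ∈ Zc X {a | X.Rt a}, t = 1 := fun t ht => by
    obtain ⟨c, rfl⟩ := (X.mem_T t).1 ht.1
    rw [h.ad c fun a ha => Units.ext ((X.χ_τ a c).symm.trans (ht.2 a ha)), map_one]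
  have e : X.Sz ∅ = {a | X.Rt a} := Set.ext fun a => ⟨fun h => h.1, fun h => ⟨h, fun _ h => h.elim⟩⟩
  have P : ∀ d ∈ A, d ≠ 1 → (X.Sz {d}).ncard = 18 ∧ d ^ 3 ∈ Zc X {a | X.Rt a} := fun d hd d1 => by
    obtain ⟨j, hj⟩ := he d hd
    rcases tri Nat.prime_three hp qc_empty (e ▸ h.on) (hA hd) hj with h1 | h1 | ⟨h1, h2⟩
    · exact (d1 (h0 d (e ▸ h1))).elim
    · rwa [e, Set.inter_eq_left.2 fun _ h => h.1] at h1
    · have h3 := (union (f := 1) Nat.prime_three hp h1 h2 hf hA he).1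
      rw [Set.union_eq_left.2 (Set.insert_subset hd (Set.empty_subset _))] at h3
      exact (hn h3).elim
  refine ⟨?_, fun d hd d1 => (P d hd d1).1⟩
  by_cases h1 : A = ⊥
  · rw [h1, card_bot]
    decide
  obtain ⟨⟨z, hz⟩, z1⟩ := ne_bot_iff_exists_ne_one.1 h1
  replace z1 : z ≠ 1 := fun e => z1 (Subtype.ext e)
  have z2 := (P z hz z1).2
  have h2 : A ≤ zpowers z := fun t ht => by
    by_contra h3
    have h4 : ∀ i : ℕ, z ^ i * t ≠ 1 := fun i e => h3 (by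
      rw [eq_inv_of_mul_eq_one_right e]
      exact inv_mem (npow_mem_zpowers z i))
    have h5 := plane (Ψ := {a | X.Rt a}) Nat.prime_three hp (fun _ h => h) h.on.card (hA hz) (hA ht) z2
      (P t ht (by simpa using h4 0)).2 (fun e => z1 (h0 z e)) (fun i e => h4 i (h0 _ e)) fun i j => by
        by_cases h5 : z ^ i * t ^ j = 1
        · exact .inl (h5 ▸ one_mem _)
        · rw [Set.inter_eq_left.2 fun _ h => h.1]
          exact .inr (P _ (mul_mem (pow_mem hz i) (pow_mem ht j)) h5).1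
    have h6 : X.Sz A = ∅ := Set.eq_empty_of_subset_empty (h5 ▸ Set.subset_inter
      (Sz_anti (Set.insert_subset hz (Set.singleton_subset_iff.2 ht))) fun _ h => h.1)
    refine hn (lvs_of_cl (fun _ h => h.1) fun a ha => ?_)
    have h7 := ha.2 (X.cor a) fun b hb => (h6 ▸ hb :).elim
    exact absurd (((X.pair_cor ha.1 a).trans (Nodes.Coroot.cpr_self _ _ ha.1)).symm.trans h7) two_ne_zero
  have h3 := h0 _ z2
  have := (isOfFinOrder_iff_pow_eq_one.2 ⟨3, by decide, h3⟩).finite_zpowers.to_subtype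
  exact (card_le_of_le h2).trans ((Nat.card_zpowers _).trans_le (orderOf_le_of_pow_eq_one (by decide) h3))

/-- the non-toral case -/
theorem nontor {ω : D →* X.W} (W : Wa X D A ω) (h : Set3 F G H D y) (hp : 3 ≠ p) (hX : Fr X H m) (hn : ¬ D ≤ A) :
    3 ∣ m - 1 ∧ (9 ∣ m - 1 → Nat.card D ≤ 9 ∧ ∃ t ∈ D, t ≠ 1 ∧ t ∈ X.T ∧ (X.Sz {t}).ncard = 18) := by
  have : Fact (Nat.Prime 3) := ⟨Nat.prime_three⟩
  have : Finite D := (h.fin X).to_subtype
  obtain ⟨φ, hM⟩ := hX.mx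
  obtain ⟨d, h3, h1⟩ := W.exists_three h hn
  have h2 := fun d => two3 W h boxNA hp hX.lc hX.ln hM (d := d)
  refine ⟨(h2 d h1).1, fun h9 => ?_⟩
  obtain ⟨n, k1⟩ := IsPGroup.iff_card.1 (h.loc.pg.of_surjective _ ω.rangeRestrict_surjective)
  have k2 := burn X ω.range hX.on.card fun _ ⟨e, he⟩ h => he ▸ (h2 e (he ▸ h)).2.2.2.2.1
  have k3 : Nat.card ω.range ≤ 3 := by
    rw [k1] at k2 ⊢
    rcases n with _ | _ | n
    · decide
    · rfl
    · exact absurd ((pow_dvd_pow 3 (by omega : 2 ≤ n + 1 + 1)).trans k2) (by decide)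
  have k5 : Nat.card D = Nat.card ω.range * Nat.card A := by
    rw [← ω.ker.index_mul_card, index_ker, show ω.ker = A.subgroupOf D from Subgroup.ext (W.ker h),
      Nat.card_congr (subgroupOfEquivOfLe W.le).toEquiv]
  obtain ⟨k6, k7⟩ := tor' hX hp ((h.fin X).subset W.le) W.leT (fun z hz => h.el z (W.le hz))
    fun e => not_nine W h boxNA hp hX.lc hX.ln hM hX.dl0 h1 e h9
  obtain ⟨t, ht, k8⟩ := exists_out W h boxNA hp hX.lc h3 h1
  obtain ⟨R, hR⟩ := exists_R W h d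
  have k9 : t ≠ 1 := fun e => k8 ((hR t).1 (e ▸ one_mem R)).2
  exact ⟨k5 ▸ Nat.mul_le_mul k3 k6, t, W.le ht, k9, W.leT ht, k7 t ht k9⟩

end

variable {r : ℕ} [Fact r.Prime] {k : Type} [Field k] [CharP k r] [IsAlgClosed k] {Mx : Matrix (Fin 6) (Fin 6) ℤ}
  {X : XF hpE6 r k Mx} {H D : Subgroup ↥(chevE6.group k)} {y : ↥(chevE6.group k)} {m : ℤ} {φ : X.D.W}

theorem fr (hM : X.D.Mx = m • X.D.Wm φ)
    (hD : ∀ g (hg : g ∈ (⊤ : Subgroup _)) (hN : g⁻¹ * X.F g ∈ X.D.NN), Dl (X.D.conj hg hN) H) : Fr X.D H m :=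
  let ⟨h1, h2, _⟩ := boxK6 r k Mx X
  ⟨boxLC.1 r k Mx X, boxLN r k Mx X, h1, h2, fun c hc => funext fun i => (chr_single i c).symm.trans
    (hc _ (Tits.Roots.isRoot_sr _ _ i)), ⟨φ, hM⟩, hD⟩

/-- **the core** -/
theorem core (hp : 3 ≠ r) (hX : Fr X.D H m) (h : Set3 X.F ⊤ H D y) :
    Toral3 X.D D ∨ Nat.card D ≤ 9 ∨ Flag ⊤ D ∨ (Nat.card D = 27 ∧ 3 ∣ m - 1 ∧ ¬ 9 ∣ m - 1) := by
  obtain ⟨φ, hM⟩ := hX.mx
  rcases exists_wa hp h (fun X => Fr X H m) (fun _ _ hy hN e => e.conj hy hN) hX with ⟨g, hg, h5, e⟩ | ⟨_, _, _, e, W, hn⟩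
  · rcases (hX.conj hg h5).tor hp (h.fin X.D) e h.el with ⟨h6, h7⟩ | h6
    · exact ((boxK6 r k Mx X).2.2.2 _ (X.D.conj hg h5).Sz_root h6).imp (fun e => ⟨g, hg, h5, h7, e⟩) fun e' => .inr (.inl
        (boxCork (X.D.conj hg h5) D hp e e' fun _ hd _ _ h => (h (h7 hd.1)).elim))
    · exact .inr (.inl h6)
  · obtain ⟨h1, h2⟩ := nontor W h hp e hn
    by_cases h9 : 9 ∣ m - 1
    · exact .inr (.inl (h2 h9).1)
    · exact .inr ((nontoral W h boxNA hp e hn).imp_right fun e => e.imp_right fun e => ⟨e.1, h1, h9⟩)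

/-- without elements of type `A₂³` the group is toral -/
theorem tor9 (hp : 3 ≠ r) (hX : Fr X.D H m) (h : Set3 X.F ⊤ H D y) (hm : 3 ∣ m - 1 → 9 ∣ m - 1)
    (hT : ∀ g, ∀ z ∈ D, z ≠ 1 → g⁻¹ * z * g ∈ X.D.T → (X.D.Sz {g⁻¹ * z * g}).ncard ≠ 18) :
    ∃ g, ∀ z ∈ D, g⁻¹ * z * g ∈ X.D.T := by
  refine (exists_wa hp h (fun X => Fr X H m ∧ ∀ g, ∀ z ∈ D, z ≠ 1 → g⁻¹ * z * g ∈ X.T → (X.Sz {g⁻¹ * z * g}).ncard ≠ 18)
    (fun X c hy hN e => ⟨e.1.conj hy hN, fun g z hz h1 h2 => ?_⟩) ⟨hX, hT⟩).elim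
    (fun ⟨g, _, _, e⟩ => ⟨g, fun z hz => mem_cj.1 (e hz)⟩) fun ⟨_, _, _, e, W, hn⟩ => ?_
  · have h3 : (g * c)⁻¹ * z * (g * c) ∈ X.T := cj_two z g c ▸ mem_cj.1 h2
    have h4 : (X.conj hy hN).Sz {g⁻¹ * z * g} = X.Sz {(g * c)⁻¹ * z * (g * c)} :=
      Set.ext fun a => and_congr_right fun _ => by
        simp only [Set.mem_singleton_iff, forall_eq]
        rw [← X.conj_χ hy hN a h3, show c * ((g * c)⁻¹ * z * (g * c)) * c⁻¹ = g⁻¹ * z * g by group]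
    exact h4 ▸ e.2 (g * c) z hz h1 h3
  · obtain ⟨h1, h2⟩ := nontor W h hp e.1 hn
    obtain ⟨-, t, k1, k2, k3, k4⟩ := h2 (hm h1)
    exact (e.2 1 t k1 k2 (by simpa only [inv_one, one_mul, mul_one] using k3)
      (by simpa only [inv_one, one_mul, mul_one] using k4)).elim

end Cfsg.Agent.BH.RO.R6
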