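import Cfsg.Agent.KM.Sc.E3
import Cfsg.Agent.KM.Tor.E6R
import Cfsg.Agent.TO.E6.Defs

/-!
# BH, `RowO`, types `E₆`, `²E₆` at `l = 3` : the setting `TO.E6.St` with the lattice description `Dl` (helper29)
-/

set_option autoImplicit false
set_option linter.unusedSectionVars false

namespace Cfsg.Agent.BH.RO.R6

open Cfsg Cfsg.Lie Cfsg.Agent.DL Cfsg.Agent.DL.Ex Cfsg.Agent.TwoF.DC Cfsg.Agent.KZ.DatX Cfsg.Agent.TwoF.DC.TE
  Cfsg.Agent.H129.TorusChar Cfsg.Agent.BpExc Cfsg.Agent.KM Cfsg.Agent.KM.Sc Cfsg.Agent.Nodes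
open Cfsg.Agent.KM.Tor (Dl)
open Cfsg.Agent.TO.E6 (St frobA_eq sigS_eq)
open Cfsg.Agent.TO.X (zd_E6 zd_2E6 zd_2E6')
open Cfsg.Agent.BHZ.Exc (boxLift6)
open Cfsg.Agent.H469.Exc (KK locFin)
open Cfsg.Agent.H720.TwFr (rho6)
open Cfsg.Agent.H129.StCover (stMap ker_theta)
open Cfsg.Agent.ChevalleyStructure.GraphSymm (symmE6)

theorem dl_of {p : ℕ} [Fact p.Prime] {k : Type} [Field k] [IsAlgClosed k] [CharP k p] (P : Tws (d6 k p))
    (hF : (d6 k p).Fa) (hP : P.Fr = stMap chevE6 (frobenius k p)) {Mx : Matrix (Fin 6) (Fin 6) ℤ} (X : XF hpE6 p k Mx)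
    {π : Equiv.Perm (Fin 6)} {x : Fin 6 → ℕ} (G : Gd hpE6 p X.F π x) (h1 : ∀ i, P.gι P.σ i = π i) (h2 : ∀ i, x i = P.f)
    {S : Type} [Group S] {Adm : Matrix (Fin 6) (Fin 6) ℤ → Prop} {d : ℕ} (t : XS X Adm d S) (hS : IsSimpleGroup S)
    (hn : ¬ IsMulCommutative S) (hπ : ∃ π : P.TT →* S, Function.Surjective π ∧ π.ker ≤ Subgroup.center P.TT) {A : Type}
    [CommGroup A] {a : ℕ} (hA : HasSchurMultiplier S A) (h3 : Nat.card A ∣ d * p ^ a) (h4 : 0 < d)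
    (h5 : d ≤ Nat.card P.Zc) (g : ↥(chevE6.group k)) (hg : g ∈ (⊤ : Subgroup _)) (hN : g⁻¹ * X.F g ∈ X.D.NN) :
    Dl (X.D.conj hg hN) t.ι.range := by
  obtain ⟨π₀, k1, k2⟩ := hπ
  have E := stE6 p k
  obtain ⟨F, X', e, ⟨s⟩, k3, k4, k5, k6⟩ := Dat.boxDat2 p _ _ k _ _ P hF (lf_of_locFin X.hk) _
    ((chevE8.group k).subtype.comp _) ((chevE8.group k).subtype_injective.comp (inj6 k))
    (fun g => by rw [hP]; exact StE.fr (up6 k) g) (E.poly hpE6 (up6 k) X.hk) (E.diag hpE6 (up6 k)) S hS hn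
    π₀ k1 k2 A d a hA h3 h4 h5
  obtain ⟨I⟩ := E.isog hpE6 (by simp) three_pos invC_E6 X X' e (fun g => by rw [k3]; exact E.comm hpE6 P G h1 h2 g) k4 k5 k6
  obtain ⟨s, hs⟩ := I.exists_sc (ker_theta hpE6.inList).le s t.ov
  have hR : I.Rg := I.rg s.pi1 three_ne_zero fun (v : Fin 6 → ℤ) => (Tor.E6R.inQ_iff X _).2 (by
    show 3 ∣ 3 * v 0 - 3 * v 2 + 3 * v 4 - 3 * v 5
    omega)
  refine (le_antisymm ?_ ?_ : t.ι.range = (GF F ⊤).map _) ▸ Isog.dl_conj hR g hg hN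
  · rintro _ ⟨x, rfl⟩
    obtain ⟨x, rfl⟩ := s.surj x
    exact ⟨x, x.2, (hs x).symm⟩
  · rintro _ ⟨x, hx, rfl⟩
    exact ⟨_, hs ⟨x, hx⟩⟩

variable {r : ℕ} [hr : Fact r.Prime]

/-- the lattice description in all frames -/
def DlA {S : Type} [Group S] (Γ : St r S) : Prop :=
  ∀ g (hg : g ∈ (⊤ : Subgroup _)) (hN : g⁻¹ * Γ.X.F g ∈ Γ.X.D.NN), Dl (Γ.X.D.conj hg hN) Γ.s.ι.range

/-- `E₆(q)` -/
theorem ex_E6 (h3 : r ≠ 3) (F : Type) [Field F] [Fintype F] [CharP F r] {e : ℕ} (hF : Fintype.card F = r ^ e) :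
    ∃ Γ : St r ↥(chevE6.group F), DlA Γ ∧ Γ.π = 1 := by
  obtain ⟨f⟩ := RowsUntw.exists_emb r F
  have he := pos_of_card hF
  have h1 : BHZ.Exc.Six.IsStd r e 1 (xfS hpE6 r (locFin r) he).F := Or.inl ⟨rfl, frobA_eq e⟩
  obtain ⟨σL, hL⟩ := boxLift6 r h3 e _ _ he h1.frob h1.fr
  have h2 : (1 : Equiv.Perm (Fin 6)) ≠ rho6 := by decide
  refine ⟨⟨e, 1, _, _, _, xsS f (locFin r) he hF (over_E6 f hF hpE6) (cop_sub hr.out.pos he 3)
    (fun _ => index_dvd_E6 f hF hpE6) List.mem_cons_self (grL_E6 r _ F), σL, he, h3, h1, hL, Or.inl ⟨rfl, rfl, rfl⟩,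
    Or.inl ((zd_E6 hF).mono (Nat.gcd_dvd_left _ _)), fun h => absurd h h2, fun h => absurd h h2⟩, ?_, rfl⟩
  let P := tw6 r (KK r) e he 1
  have hc := fa_of_faith (comb_E6 P car6 tw6_gι).faith 0
  have h4 := S1054.result (F := F) chevE6 (by simp)
  refine dl_of P hc rfl _ (Gd.frob hpE6 r _ e) (fun _ => rfl) (fun _ => rfl) _ h4.1 h4.2
    (pi_untw (st6 r _) TE.hp6 P hc (fun _ => rfl) f hF) (a := 0) (S2105.result hF)
    (by rw [BD.card_cyc, pow_zero, mul_one]) (Nat.gcd_pos_of_pos_left _ three_pos) ?_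
  refine le_card_Zc P Nat.prime_three ![1, 0, 2, 0, 1, 2] 0 rfl (fun i => ?_) fun hm =>
    ⟨not_dvd_of hr.out Nat.prime_three he (Or.inl hm), fun i => ?_⟩
  · change _ ∣ ∑ j, _ * ChevalleyStructure.CoxeterGeomTypes.cartanOf chevE6 6 j i
    revert i; decide +kernel
  · conv_lhs => rw [← mul_one (![1, 0, 2, 0, 1, 2] _)]
    exact Nat.ModEq.mul_left _ ((Nat.modEq_iff_dvd' (Nat.one_le_pow _ _ hr.out.pos)).mpr hm)

/-- `²E₆(q)` -/
theorem ex_2E6 (h3 : r ≠ 3) (K : Type) [Field K] [Fintype K] [CharP K r] {e : ℕ} (hK : Fintype.card K = (r ^ e) ^ 2) :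
    ∃ Γ : St r ↥(twistedE6 K (r ^ e)), DlA Γ ∧ Γ.e = e := by
  obtain ⟨f⟩ := RowsUntw.exists_emb r K
  have he : 0 < e := by
    have h := pos_of_card (hK.trans (pow_mul _ _ _).symm)
    omega
  have hk := locFin r
  have hq : IsPrimePow (r ^ e) := isPrimePow_pow he
  have aut : ∀ σ : MulAut ↥(twistedE6 K (r ^ e)), ∃ g, sigS r hpE6.inList symmE6 e g = g ∧ ∃ j, ∀ s,
      incG hpE6.inList f (e6Words K (r ^ e)) (σ s) =
        g * frobA hpE6.inList r j (incG hpE6.inList f (e6Words K (r ^ e)) s) * g⁻¹ := fun σ => by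
    obtain ⟨φ, hφ, hqq⟩ := ChevalleyStructure.TwE6Basic.exists_frob hq hK
    have hW : Finite CoxeterMatrix.F₄.Group := RGDChev.finite_W hpF4 CoxeterMatrix.F₄.toCoxeterSystem
    obtain ⟨-, τ, y, -, h1, h2⟩ := FamTw.Six.exists_lift hφ hqq CoxeterMatrix.F₄.toCoxeterSystem r f hK
      hq.one_lt (fun a => IsAlgClosed.exists_pow_nat_eq _ three_pos)
      (Φ := iterateFrobeniusEquiv (KK r) r e) (fun a => by rw [hφ, map_pow, iterateFrobeniusEquiv_def]) σ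
    obtain ⟨j, hj⟩ := exists_frob r τ
    refine ⟨y, Subtype.ext (congrArg Subtype.val h1), j, fun s => (h2 s).trans ?_⟩
    congr 2
    exact frob_eq (hp := hpE6) _ hj rfl rfl
  have h1 : BHZ.Exc.Six.IsStd r e rho6 (sigS r hpE6.inList symmE6 e) := Or.inr ⟨rfl, sigS_eq e⟩
  obtain ⟨σL, hL⟩ := boxLift6 r h3 e _ _ he h1.frob h1.fr
  let G := (gd6 r (KK r)).mul (Gd.frob hpE6 r _ e)
  refine ⟨⟨e, rho6, _, _, _, (xsT hk (amb_of_pow hk two_pos (by omega) (sigE6_sq (m := e))) G (pm_frob pi6)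
    (over_2E6 f he hK) (cop_add he 3) (fun _ => index_dvd_2E6 f he hK) aut).mono
    fun A ⟨j, h⟩ => ⟨j, 1, List.mem_cons_self, h⟩, σL, he, h3, h1, hL,
    Or.inr ⟨rfl, rfl, rfl⟩, ?_, fun _ => sigE6_sq, fun _ => aut⟩, ?_, rfl⟩
  · by_cases h2 : r ^ e = 2
    · exact Or.inr ⟨h2, rfl, zd_2E6' hq hK⟩
    · exact Or.inl ((zd_2E6 hq hK h2).mono (Nat.gcd_dvd_left _ _))
  let P := tw6 r (KK r) e he (-1)
  have hc := fa_of_faith (comb_E6 P car6 tw6_gι).faith 0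
  have h4 := S1070.result hq hK
  obtain ⟨A, _, a, h5, h6⟩ : ∃ (A : Type) (_ : CommGroup A) (a : ℕ), HasSchurMultiplier ↥(twistedE6 K (r ^ e)) A ∧
      Nat.card A ∣ Nat.gcd 3 (r ^ e + 1) * r ^ a := by
    by_cases h2 : r ^ e = 2
    · obtain rfl : r = 2 := (Nat.prime_dvd_prime_iff_eq hr.out Nat.prime_two).mp (h2 ▸ dvd_pow_self r he.ne')
      rw [h2] at hK ⊢
      exact ⟨_, _, 2, S2109.result hK, by simp⟩
    · exact cyc r (S2108.result hq hK h2)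
  refine dl_of P hc rfl _ G (fun _ => rfl) (fun _ => rfl) _ h4.1 h4.2 (pi_tw he hc f hq hK) h5 h6
    (Nat.gcd_pos_of_pos_left _ three_pos) ?_
  refine le_card_Zc P Nat.prime_three ![1, 0, 2, 0, 1, 2] 0 rfl (fun i => ?_) fun hm =>
    ⟨not_dvd_of hr.out Nat.prime_three he (Or.inr hm), fun i => ?_⟩
  · change _ ∣ ∑ j, _ * ChevalleyStructure.CoxeterGeomTypes.cartanOf chevE6 6 j i
    revert i; decide +kernel
  · change ![1, 0, 2, 0, 1, 2] (H129.StTw.nod i) % 3 = ![1, 0, 2, 0, 1, 2] i * r ^ e % 3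
    fin_cases i <;> simp [H129.StTw.nod] <;> omega

end Cfsg.Agent.BH.RO.R6
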