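import Cfsg.Agent.BH.RowO.Defs
import Cfsg.Agent.BH.RowO.R6a
import Cfsg.Agent.BH.RowO.R6b
import Cfsg.Agent.TO.E6.Glue
import Cfsg.Agent.TO.E6.Lat

/-!
# BH, `RowO`, types `E₆`, `²E₆` at `l = 3` : `No9` unless `3 ∥ m - 1` (helper29)
-/

set_option autoImplicit false
set_option linter.unusedSectionVars false

namespace Cfsg.Agent.BH.RO.R6

open Cfsg Cfsg.Lie Matrix Cfsg.Agent.KZ.DatX Cfsg.Agent.Nodes Cfsg.Agent.DL Cfsg.Agent.DL.PP Cfsg.Agent.DL.Uni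
open Cfsg.Agent.TO Cfsg.Agent.TO.E6 Cfsg.Agent.TO.X Cfsg.Agent.BHZ.Exc
open Cfsg.Agent.H469.Exc (KK)
open Cfsg.Agent.DS.Ex (YY)
open Cfsg.Agent.H720.TwFr (rho6)
open Cfsg.Agent.KM.Tor.E6 (Fr)

attribute [local instance] Nat.fact_prime_three

variable {r : ℕ} [hr : Fact r.Prime] {S : Type} [Group S] {Γ : St r S} {G : Type} [Group G] [Finite G] {σ : G →* S}
  {A : Subgroup (MulAut S)} {D : Subgroup G} {M : Ideal AlgInt} {b : Set (IrrCharacter G)} {θ : G → ℂ}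

/-- the toral plane -/
theorem fin' {E : Tor Γ.X} {ζ : (KK r)ˣ} {hζ : IsPrimitiveRoot ζ 3} (K : Sp E hζ A (D.map σ)) (hσ : Function.Bijective σ)
    (hθ : Can 3 M b D θ) {t : G} (t1 : t ∈ In D θ) (t2 : ∀ d ∈ D, t * d * t⁻¹ = d⁻¹) : False := by
  obtain ⟨q, h, F⟩ := exists_fq E
  obtain ⟨w, w1, w2⟩ := K.exists_inv hσ t2
  have w3 : E.Rp (w * w * w) ((Γ.s.ι.comp σ) (t * t * t)) := by
    rw [map_mul, map_mul]
    exact (w1.mul w1).mul w1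
  have w4 : wm Γ.X (w * w * w) * wm Γ.X (w * w * w) = 1 := by
    rw [← K.L.six _ w2, map_mul, map_mul]
    noncomm_ring
  have w5 : Fx (-wm Γ.X (w * w * w)) := by
    have h1 := (w2.mul w2).mul w2
    rwa [neg_mul_neg, mul_neg, ← map_mul, ← map_mul] at h1
  obtain ⟨c, c1, c2, c3, c4, c5, c6⟩ := K.L.fin h _ (K.fx F) (K.good F) w5 (WM_wm _ _) w4
    (F.comm.1 (E.comm_of_fix w3 (Γ.fix _))).symm
  obtain ⟨v, rfl⟩ := c1.exists_w Γ.X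
  obtain ⟨m, hm⟩ := K.exists_rep hσ F c3.symm
  have k0 : ∀ {x : G} {u : CoxeterMatrix.E₆.Group}, E.Rp u ((Γ.s.ι.comp σ) x) → ∀ a ∈ E.T.comap (Γ.s.ι.comp σ),
      x * a * x⁻¹ ∈ E.T.comap (Γ.s.ι.comp σ) := fun hx a ha => by
    rw [Subgroup.mem_comap, map_mul, map_mul, map_inv]
    exact rp_T hx ha
  have k1 : m ∈ In D θ := by
    refine mem_In_of_inv hθ (K.T_le hσ) (fun a ha a' ha' => K.finj hσ ?_) (fun c hc => ?_) (fun c hc hn => ?_) (K.odd hσ)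
      (mul_mem (mul_mem t1 t1) t1) (k0 w3) (fun a ha => K.finj hσ ?_) (Subgroup.mem_normalizer_fintype fun d hd => ?_)
      (k0 hm) fun a ha => K.finj hσ ?_
    · rw [map_mul, map_mul]
      exact E.T_comm ha ha'
    · obtain ⟨u, h1, -⟩ := cent_of_empty hζ E K.reg (K.comm (K.ceQ hσ hc))
      exact k0 h1
    · obtain ⟨x, y, y1, y2, ⟨k, y3⟩, y4⟩ := Blocks.PPart.exists_isPPart 3 (⟨c, hc⟩ : Ce D)
      have y5 : (x : G) * y = c := congrArg Subtype.val y1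
      refine hθ.van (x := x) ⟨y, y5, congrArg Subtype.val y2.eq, ⟨k, by rw [Subgroup.orderOf_coe, y3]⟩,
        by rwa [Subgroup.orderOf_coe]⟩ fun h4 => hn ?_
      rw [← y5]
      exact mul_mem (K.D_le hσ h4) (K.reg_mem hσ y.2 (by rwa [Subgroup.orderOf_coe]))
    · obtain ⟨x, hx⟩ := E.mem_T.1 ha
      rw [map_mul _ _ (_⁻¹), map_mul _ _ (_ * _⁻¹), map_mul _ _ (_⁻¹), map_mul _ _ a, map_inv, ← hx, E.conj_τ w3,
        E.conj_τ w3, ← mon_mul, w4, mon_one]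
    · obtain ⟨x, h1, h2⟩ := (K.memD hσ).1 hd
      exact (K.memD hσ).2 ⟨_, c5 x h1, by rw [map_mul, map_mul, map_inv, h2, E.conj_e hζ hm]⟩
    · obtain ⟨x, hx⟩ := E.mem_T.1 ha
      have h1 : (Γ.s.ι.comp σ) (m * a * m⁻¹ * a⁻¹) = E.τ (mon (wm Γ.X v - 1) x) := by
        rw [map_mul, map_mul, map_mul, map_inv, map_inv, ← hx, E.conj_τ hm, mon_sub, mon_one, map_mul, map_inv]
      rw [add_mul, one_mul, add_eq_zero_iff_eq_neg] at c4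
      rw [map_inv, map_mul _ _ (_⁻¹), map_mul _ _ (_ * a⁻¹), map_inv, h1, E.conj_τ w3, ← mon_mul, c4, mon_neg, map_inv]
  have k2 : m ∈ Ce D := by
    refine hθ.mem_Ce_of_pow k1 (k := 1) (K.T_le hσ ?_)
    have h1 : v * v * v = 1 := wm_inj Γ.X (by rw [map_one, ← c2, map_mul, map_mul, pow_three'])
    have h2 := (hm.mul hm).mul hm
    rw [h1, ← map_mul, ← map_mul] at h2
    rw [pow_one, pow_three']
    exact E.rp_one_iff.1 h2
  have k3 : ∀ x ∈ B0, mv (wm Γ.X v) x = x := fun x hx => E.e_inj hζ (by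
    rw [← E.conj_e hζ hm, mul_inv_eq_iff_eq_mul]
    exact (K.comm (K.ceQ hσ k2) x hx).symm)
  exact c6 ⟨k3 _ u0_mem, k3 _ x0_mem⟩

variable (Γ) in
/-- the centre of the cover is trivial unless `S = ²E₆(2)` -/
theorem centre (H : QHyp 3 M b D θ σ) : Function.Bijective σ ∨
    (r ^ Γ.e = 2 ∧ Γ.π = rho6 ∧ Nat.card (Subgroup.center G) = 2) := by
  have h0 : Nat.card (Subgroup.center G) = 1 → Function.Bijective σ := fun h =>
    ⟨(MonoidHom.ker_eq_bot_iff σ).1 (H.ker.trans (Subgroup.card_eq_one.1 h)), H.surj⟩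
  have h3 := fun c (h : ZD c S) => h G σ H.qs.1.commutator_eq_top H.surj H.ker H.cyc
  rcases Γ.zd with h | ⟨h1, h2, h⟩
  · rcases (Nat.dvd_prime Nat.prime_three).1 (h3 _ h) with h4 | h4
    · exact .inl (h0 h4)
    · exact absurd (h4 ▸ dvd_rfl) H.zp
  · exact ((Nat.dvd_prime Nat.prime_two).1 (Nat.Coprime.dvd_of_dvd_mul_right
      ((Nat.Prime.coprime_iff_not_dvd Nat.prime_three).2 H.zp).symm (h3 (2 * 3) h))).imp h0 fun h5 => ⟨h1, h2, h5⟩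

/-- non-toral planes have the type `D₄ T₂` -/
theorem typD {Q : Subgroup S} (P : Pure 3 S A Q) (hab : Q ≤ Ce Q) (hN : NoTor Γ Q) {x : S} (hx : x ∈ Q) (x1 : x ≠ 1) :
    TypD (Γ.s.ι x) ∧ ¬ ∃ g, ∀ z ∈ Q.map Γ.s.ι, g⁻¹ * z * g ∈ Γ.X.D.T := by
  obtain ⟨z, C⟩ := boxCovII r Γ.h3
  obtain ⟨ζ, hζ⟩ := TO.X.exists_prim (r := r) (KK r) (n := 3)
    fun h0 => Γ.h3 ((Nat.prime_dvd_prime_iff_eq Fact.out Nat.prime_three).1 h0)
  obtain ⟨y, hy, y0⟩ : ∃ y ∈ Q, y ∉ Subgroup.zpowers x := by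
    by_contra! h
    exact P.nc ⟨⟨x, hx⟩, fun y => (h y y.2).imp fun n e => Subtype.ext (by simpa using e)⟩
  obtain ⟨a, a2⟩ := C.surj (Γ.s.ι x)
  obtain ⟨c, c2⟩ := C.surj (Γ.s.ι y)
  have h1 : th6 r c * th6 r a = th6 r a * th6 r c := by rw [a2, c2, ← map_mul, ← map_mul, hab hx y hy]
  have hne : c * a ≠ a * c := fun h => by
    rcases hN a c ⟨x, hx, a2.symm⟩ ⟨y, hy, c2.symm⟩ h.symm with h1 | ⟨n, h1⟩
    · exact x1 (Γ.inj (by rw [← a2, h1, map_one]))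
    · exact y0 ⟨n, Γ.inj (by rw [← c2, ← h1, map_zpow, a2])⟩
  have a3 : th6 r a ^ 3 = 1 := by rw [a2, ← map_pow, Pure.pow_eq hζ P hx, map_one]
  have c3 : th6 r c ^ 3 = 1 := by rw [c2, ← map_pow, Pure.pow_eq hζ P hy, map_one]
  refine ⟨a2 ▸ (E6N.typ_or Γ.h3 C a3 h1 hne).resolve_left fun h => ?_, fun ⟨g, hg⟩ => ?_⟩
  · have h2 : ∀ n : ℕ, TypA (th6 r a ^ n * th6 r c) := fun n => by
      rw [a2, c2, ← map_pow, ← map_mul]
      refine (sameT r S Γ _ _ P x hx _ (mul_mem (pow_mem hx n) hy) x1 fun e => y0 ?_).1 (a2 ▸ h)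
      rw [eq_inv_of_mul_eq_one_right e]
      exact inv_mem (pow_mem (Subgroup.mem_zpowers x) n)
    exact E6N.not_allA boxNoA Γ.h3 C c3 h1 hne h (by simpa using h2 0) (by simpa using h2 1) (by simpa [pow_two] using h2 2)
  · obtain ⟨w, rfl⟩ := C.surj g
    have h2 := fun z hz => (map_inv (th6 r) w ▸ inv_inv (th6 r w) ▸ hg z hz :
      th6 r w⁻¹ * z * (th6 r w⁻¹)⁻¹ ∈ Γ.X.D.T)
    exact E6N.not_DZ Γ.h3 C hne w⁻¹ (h2 _ ⟨x, hx, a2.symm⟩) (DS.Nt.T_le_DZ (h2 _ ⟨y, hy, c2.symm⟩))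

theorem ncard_D {z g : YY chevE6 r} (h : TypD z) (hg : g⁻¹ * z * g ∈ Γ.X.D.T) : (Γ.X.D.Sz {g⁻¹ * z * g}).ncard ≠ 18 := by
  obtain ⟨c, ζ, h1, h2, h3⟩ := h
  have h4 := KM.Tor.BT.ncard_conj (X := Γ.X.D) hg (Subgroup.mem_top (c * g))
  rw [show c * g * (g⁻¹ * z * g) * (c * g)⁻¹ = c * z * c⁻¹ by group] at h4
  obtain ⟨u, hu⟩ := (Γ.X.D.mem_T _).1 h2
  have h5 : Γ.X.D.Sz {c * z * c⁻¹} = KM.Tor.RP Γ.X fun a => ((3 : ℕ) : ℤ) ∣ a 0 + a 5 :=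
    Set.ext fun (a : Fin 6 → ℤ) => and_congr_right fun _ => by
      simp only [Set.mem_singleton_iff, forall_eq]
      rw [← h1.zpow_eq_one_iff_dvd, ← h3, ← hu]
      exact (congrArg (· = 1) ((Γ.X.D.χ_τ a u).trans (Ex.cX_tau hpE6 u a).symm)).to_iff
  rw [← h4 h2, h5, KM.Tor.ncard_RP, DS.Nt.nr05_E6]
  decide

/-- **no block with the defect group `3²`** -/
theorem no9 {m : ℤ} (hX : Fr Γ.X.D Γ.s.ι.range m) (hm : 3 ∣ m - 1 → 9 ∣ m - 1) : No9 S := by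
  intro G _ _ σ M b D θ A H
  obtain ⟨ζ, hζ⟩ := TO.X.exists_prim (r := r) (KK r) (n := 3)
    fun h0 => Γ.h3 ((Nat.prime_dvd_prime_iff_eq Fact.out Nat.prime_three).1 h0)
  have hab : D.map σ ≤ Ce (D.map σ) := by
    rintro _ ⟨x, hx, rfl⟩ _ ⟨y, hy, rfl⟩
    rw [← map_mul, ← map_mul, H.q.can.ab hx y hy]
  have h1 : ¬ NoTor Γ (D.map σ) := fun hN => by
    have e : (Γ.s.ι.comp σ).ker = Subgroup.center G := by
      rw [← MonoidHom.comap_ker, (MonoidHom.ker_eq_bot_iff _).2 Γ.inj, MonoidHom.comap_bot, H.q.ker]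
    obtain ⟨y, hy⟩ := KM.Tor.exists_set3 (F := Γ.X.F) (G := ⊤) (j := Γ.s.ι.comp σ) H.q.can.hM H.q.can.hb H.q.can.hD
      ⟨⟨fun a c => Subtype.ext (H.q.can.ab c.2 a a.2)⟩⟩ (fun x => Γ.s.ov.mem _)
      (by
        rw [MonoidHom.range_comp, MonoidHom.range_eq_top.2 H.q.surj, ← MonoidHom.range_eq_map]
        exact Γ.s.sit.comm) e.le (e ▸ H.q.zp)
    rw [MonoidHom.range_comp, MonoidHom.range_eq_top.2 H.q.surj, ← MonoidHom.range_eq_map, ← Subgroup.map_map] at hy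
    obtain ⟨⟨x, hx⟩, x1⟩ := Subgroup.ne_bot_iff_exists_ne_one.1 fun e : D.map σ = ⊥ => H.pure.nc (e ▸ inferInstance)
    refine (typD H.pure hab hN hx fun e => x1 (Subtype.ext e)).2 (tor9 Γ.h3.symm hX hy hm ?_)
    rintro g _ ⟨z, hz, rfl⟩ z1 h2
    exact ncard_D (typD H.pure hab hN hz fun e => z1 (by rw [e, map_one])).1 h2
  obtain ⟨E, h2, h3⟩ := exists_std_plane Γ H.pure h1 hζ
  have K : Sp E hζ A (D.map σ) := ⟨lat, H.pure, h2, h3⟩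
  obtain ⟨t, t1, t2⟩ := H.neg
  rcases centre Γ H.q with h | ⟨h4, h5, -⟩
  · exact fin' K h H.q.can t1 t2
  · exact K.not_two h4 h5

end Cfsg.Agent.BH.RO.R6
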