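import Cfsg.Agent.BH.RowO.R8a
import Cfsg.Agent.BH.RowO.G
import Cfsg.Agent.KM.A.Cov

/-!
# BH, `RowO`, linear and unitary groups with diagonal automorphisms: automorphisms and blocks (helper86)
-/

set_option autoImplicit false
set_option linter.unusedSectionVars false

namespace Cfsg.Agent.BH.RO.R8

open Cfsg Matrix Cfsg.Agent.TO Cfsg.Agent.TO.LU Cfsg.Agent.BHZ.Nil
open Cfsg.Agent.H199.PslAut (mapGL itGL itGL_itGL)
open Cfsg.Agent.KM.Tor (Loc)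

theorem comm_of_rel {Y : Type} [Group Y] {l m k : ℕ} (hl : l.Prime) (hm : ¬ l ∣ m) {a b c : Y} (hc : ∀ g, Commute c g)
    (h : a * b = c * b * a) (ha : a ^ l ^ k = 1) (hb : b ^ m = 1) : a * b = b * a := by
  have h1 := pow_mul_of_rel (hc a) h (l ^ k)
  have h2 := pow_mul_of_rel (a := b) (b := a) (hc b).inv_left (by rw [mul_assoc, h]; group) m
  rw [ha, one_mul, mul_one, eq_comm, mul_eq_right] at h1
  rw [hb, one_mul, mul_one, eq_comm, mul_eq_right, inv_pow, inv_eq_one] at h2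
  rw [h, eq_one_of hl hm h2 h1, one_mul]

theorem exists_syl {Y : Type} [Group Y] {l : ℕ} [Fact l.Prime] (C : Subgroup Y) [Finite C] {P : Subgroup Y} (hP : P ≤ C)
    (hp : IsPGroup l P) : ∃ R : Subgroup Y, P ≤ R ∧ R ≤ C ∧ IsPGroup l R ∧
      ∀ Q : Subgroup Y, Q ≤ C → IsPGroup l Q → ∃ g ∈ C, ∀ x ∈ Q, g * x * g⁻¹ ∈ R := by
  obtain ⟨R, h1⟩ := (hp.comap_of_injective _ C.subtype_injective).exists_le_sylow
  refine ⟨(R : Subgroup C).map C.subtype, fun x hx => ⟨⟨x, hP hx⟩, h1 hx, rfl⟩, Subgroup.map_subtype_le _,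
    R.isPGroup'.map _, fun Q hQ hq => ?_⟩
  obtain ⟨Q₀, h2⟩ := (hq.comap_of_injective _ C.subtype_injective).exists_le_sylow
  obtain ⟨g, hg⟩ := MulAction.exists_smul_eq C Q₀ R
  refine ⟨g, g.2, fun x hx => ⟨g * ⟨x, hQ hx⟩ * g⁻¹, ?_, rfl⟩⟩
  rw [← hg]
  exact Subgroup.smul_mem_pointwise_smul _ (MulAut.conj g) _ (h2 (show (⟨x, hQ hx⟩ : C) ∈ _ from hx))

variable {F : Type} [Field F] [Fintype F] {n l : ℕ} {G X : Type} [Group G] [Group X]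

theorem mapGL_mul (σ τ : F ≃+* F) (x : (Mt n F)ˣ) : mapGL (σ * τ) x = mapGL σ (mapGL τ x) := Units.ext rfl

theorem mapGL_one (x : (Mt n F)ˣ) : mapGL (1 : F ≃+* F) x = x := Units.ext rfl

theorem mapGL_it (σ : F ≃+* F) (x : (Mt n F)ˣ) : itGL (mapGL σ x) = mapGL σ (itGL x) := Units.ext rfl

/-- `α` is induced by `Φ` -/
def Idc (ι : G →* (Mt n F)ˣ) (π : G →* X) (α : MulAut X) (Φ : (Mt n F)ˣ → (Mt n F)ˣ) : Prop :=
  ∀ g, ∃ g', π g' = α (π g) ∧ ι g' = Φ (ι g)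

/-- `α` is induced by a semilinear map -/
def Fd (ι : G →* (Mt n F)ˣ) (π : G →* X) (Γ : Subgroup (Mt n F)ˣ) (α : MulAut X) (σ : F ≃+* F) : Prop :=
  ∃ B ∈ Γ, Idc ι π α fun x => B * mapGL σ x * B⁻¹

/-- the setting with the description of the automorphisms -/
structure Sy (l : ℕ) (ι : G →* (Mt n F)ˣ) (π : G →* X) (Γ : Subgroup (Mt n F)ˣ) (μ : Subgroup Fˣ) : Prop
    extends Sys l ι π Γ μ where
  det1 : ∀ g, GeneralLinearGroup.det (ι g) = 1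
  map : ∀ σ : F ≃+* F, ∀ x ∈ Γ, mapGL σ x ∈ Γ
  frm : ∀ α, ∃ σ, Fd ι π Γ α σ ∨ Γ = ⊤ ∧ ∃ B, Idc ι π α fun x => B * mapGL σ (itGL x) * B⁻¹

variable {ι : G →* (Mt n F)ˣ} {π : G →* X} {Γ : Subgroup (Mt n F)ˣ} {μ : Subgroup Fˣ} {α β : MulAut X}
  {Φ Ψ : (Mt n F)ˣ → (Mt n F)ˣ} {σ τ : F ≃+* F}

theorem Idc.mul (h : Idc ι π α Φ) (h' : Idc ι π β Ψ) : Idc ι π (α * β) fun x => Φ (Ψ x) := fun g => by
  obtain ⟨g1, e1, e2⟩ := h' g
  obtain ⟨g2, e3, e4⟩ := h g1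
  exact ⟨g2, by rw [e3, e1, MulAut.mul_apply], by rw [e4, e2]⟩

theorem Idc.congr (h : Idc ι π α Φ) (e : ∀ x, Φ x = Ψ x) : Idc ι π α Ψ := funext e ▸ h

namespace Sy

variable (S : Sy l ι π Γ μ)
include S

theorem uniq (h : Idc ι π α Φ) (h' : Idc ι π β Φ) : α = β := MulEquiv.ext fun x => by
  obtain ⟨g, rfl⟩ := S.surj x
  obtain ⟨g1, e1, e2⟩ := h g
  obtain ⟨g2, e3, e4⟩ := h' g
  rw [← e1, ← e3, S.inj (e2.trans e4.symm)]

theorem fd_mul (h : Fd ι π Γ α σ) (h' : Fd ι π Γ β τ) : Fd ι π Γ (α * β) (σ * τ) := by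
  obtain ⟨A, hA, h⟩ := h
  obtain ⟨B, hB, h'⟩ := h'
  refine ⟨A * mapGL σ B, mul_mem hA (S.map σ B hB), (h.mul h').congr fun x => ?_⟩
  rw [mapGL_mul, map_mul, map_mul, map_inv]
  group

theorem fd_pow (h : Fd ι π Γ α σ) (k : ℕ) : Fd ι π Γ (α ^ k) (σ ^ k) := by
  induction k with
  | zero => exact ⟨1, one_mem _, fun g => ⟨g, rfl, by simp [mapGL_one]⟩⟩
  | succ k ih => rw [pow_succ, pow_succ]; exact S.fd_mul ih h

theorem fd_sq (α : MulAut X) : ∃ σ, Fd ι π Γ (α ^ 2) σ := by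
  obtain ⟨σ, h | ⟨rfl, B, h⟩⟩ := S.frm α
  · exact ⟨_, S.fd_pow h 2⟩
  · refine ⟨σ * σ, B * mapGL σ (itGL B), trivial, sq α ▸ (h.mul h).congr fun x => ?_⟩
    simp only [mapGL_mul, map_mul, map_inv, mapGL_it, itGL_itGL]
    group

theorem fd_of (hl : l.Prime) {k : ℕ} (h : α ^ l ^ k = 1) : ∃ σ j, Fd ι π Γ α σ ∧ σ ^ l ^ j = 1 ∨ l = 2 := by
  have : Finite (F ≃+* F) := Finite.of_injective (fun f : F ≃+* F => (f : F → F)) DFunLike.coe_injective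
  obtain ⟨σ, h1⟩ := S.fd_sq α
  obtain ⟨u, j, h2, h3⟩ := expo hl k (N := 2 * Nat.card (F ≃+* F)) (mul_ne_zero two_ne_zero Nat.card_pos.ne')
  by_cases h4 : l = 2
  · exact ⟨σ, 0, .inr h4⟩
  obtain ⟨v, rfl⟩ : 2 ∣ u := (((Nat.coprime_primes Nat.prime_two hl).2 (Ne.symm h4)).pow_right j).dvd_of_dvd_mul_right
    ((dvd_mul_right _ _).trans h3)
  refine ⟨σ ^ v, j, .inl ⟨by simpa only [← pow_mul, pow_eq_self h h2] using S.fd_pow h1 v, ?_⟩⟩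
  rw [mul_assoc] at h3
  obtain ⟨w, hw⟩ := Nat.dvd_of_mul_dvd_mul_left two_pos h3
  rw [← pow_mul, hw, pow_mul, pow_card_eq_one', one_pow]

theorem model (α : MulAut X) : ∃ (Φ : (Mt n F)ˣ →* (Mt n F)ˣ) (t : Fˣ →* Fˣ), Idc ι π α Φ ∧ (∀ x ∈ Γ, Φ x ∈ Γ) ∧
    Function.Injective t ∧ ∀ (x : (Mt n F)ˣ) (c : Fˣ), ed (Φ x).1 (t c) = ed x.1 c := by
  obtain ⟨σ, ⟨B, hB, h⟩ | ⟨rfl, B, h⟩⟩ := S.frm α
  · exact ⟨(MulAut.conj B).toMonoidHom.comp (mapGL σ), un σ, h,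
      fun x hx => mul_mem (mul_mem hB (S.map σ x hx)) (inv_mem hB), un_inj σ,
      fun x c => (ed_conj B _ _).trans (ed_map σ _ _)⟩
  · exact ⟨(MulAut.conj B).toMonoidHom.comp ((mapGL σ).comp itGL), (un σ).comp invMonoidHom, h, fun _ _ => trivial,
      (un_inj σ).comp inv_injective, fun x c => (ed_conj B _ _).trans ((ed_map σ _ _).trans (ed_inv x c))⟩

theorem exists_conj {A : (Mt n F)ˣ} (hA : A ∈ Γ) (g : G) : ∃ g', ι g' = A * ι g * A⁻¹ :=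
  S.ex _ (mul_mem (mul_mem hA (S.mem g)) (inv_mem hA)) (congrArg Units.val (show GeneralLinearGroup.det _ = 1 by
    rw [map_mul, map_mul, S.det1, map_inv, mul_one, mul_inv_cancel]))

theorem cen {g : G} (h : π g = 1) : ι.codRestrict Γ S.mem g ∈ Subgroup.center Γ := by
  obtain ⟨c, -, e⟩ := (S.ker g).1 h
  exact Subgroup.mem_center_iff.2 fun y => Subtype.ext (show _ * ι g = ι g * _ by rw [e, (commute_sc c _).eq])

theorem exists_dg : ∃ dg : Γ →* MulAut X, ∀ A : Γ, Idc ι π (dg A) fun x => A * x * (A : (Mt n F)ˣ)⁻¹ := by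
  obtain ⟨act, h⟩ := exists_act (ι.codRestrict Γ S.mem) π S.surj
    (fun A g => (S.exists_conj A.2 g).imp fun _ => Subtype.ext)
    (fun g e => by rw [S.inj ((congrArg Subtype.val e).trans (map_one ι).symm), map_one]) fun _ => S.cen
  exact ⟨act, fun A g => (S.exists_conj A.2 g).imp fun g' e => ⟨h A g g' (Subtype.ext e), e⟩⟩

variable {dg : Γ →* MulAut X} (hd : ∀ A : Γ, Idc ι π (dg A) fun x => A * x * (A : (Mt n F)ˣ)⁻¹)

include hd in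
theorem dg_normal : dg.range.Normal := ⟨by
  rintro _ ⟨A, rfl⟩ α
  obtain ⟨Φ, -, h1, h2, -⟩ := S.model α
  refine ⟨⟨Φ A, h2 A A.2⟩, eq_mul_inv_of_mul_eq (S.uniq ((hd _).mul h1) ((h1.mul (hd A)).congr fun x => ?_))⟩
  rw [map_mul, map_mul, map_inv]⟩

include hd in
theorem mem_dg (h : Fd ι π Γ α 1) : α ∈ dg.range :=
  let ⟨B, hB, h⟩ := h
  ⟨⟨B, hB⟩, S.uniq (hd _) (h.congr fun x => by rw [mapGL_one])⟩

variable [hl : Fact l.Prime] [Finite G]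

theorem lift_y {y : X} (hy : ¬ l ∣ orderOf y) : ∃ (z : G) (m : ℕ), π z = y ∧ ¬ l ∣ m ∧ z ^ m = 1 := by
  obtain ⟨z, rfl⟩ := S.surj y
  obtain ⟨u, m, h1, h2, h3⟩ := expo' hl.out hy (orderOf_pos z).ne'
  exact ⟨z ^ u, m, by rw [map_pow, pow_eq_self (pow_orderOf_eq_one _) h1], h2,
    by rw [← pow_mul, orderOf_dvd_iff_pow_eq_one.1 h3]⟩

theorem lift_u {u : X} {k : ℕ} (hu : u ^ l ^ k = 1) : ∃ (x : G) (j : ℕ), π x = u ∧ x ^ l ^ j = 1 := by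
  obtain ⟨z, rfl⟩ := S.surj u
  obtain ⟨v, j, h1, h3⟩ := expo hl.out k (orderOf_pos z).ne'
  exact ⟨z ^ v, j, by rw [map_pow, pow_eq_self hu h1], by rw [← pow_mul, orderOf_dvd_iff_pow_eq_one.1 h3]⟩

theorem comm_y {z x : G} {m k : ℕ} (hm : ¬ l ∣ m) (hz : z ^ m = 1) (hx : x ^ l ^ k = 1) (h : π x * π z = π z * π x) :
    ι x * ι z = ι z * ι x := by
  obtain ⟨c, -, e⟩ := S.of_eq (x := x * z) (y := z * x) (by rw [map_mul, map_mul, h])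
  rw [map_mul, map_mul, ← mul_assoc] at e
  exact comm_of_rel hl.out hm (commute_sc c) e (k := k) (by rw [← map_pow, hx, map_one]) (by rw [← map_pow, hz, map_one])

variable (h2 : l ≠ 2) (hall : ∀ (c : Fˣ) (k : ℕ), c ^ l ^ k = 1 → c ∈ μ)

include h2 hall in
theorem ab_or {Q : Subgroup X} {z : G} {m : ℕ} (hm : ¬ l ∣ m) (hz : z ^ m = 1) (hL : Loc l ⊤ Q (π z)) (hQ : Q ≤ Ce Q) :
    Nat.card Q ≤ l ^ 2 ∨ (∀ x y, π x ∈ Q → π y ∈ Q → x * y = y * x) ∧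
      ∀ R : Subgroup (Mt n F)ˣ, R ≤ Γ ⊓ Subgroup.centralizer {ι z} → IsPGroup l R → ∀ a ∈ R, ∀ b ∈ R, a * b = b * a := by
  have : Finite X := Finite.of_surjective π S.surj
  obtain ⟨P, h1, -, rfl⟩ := exists_lift_pgroup S.surj IsPGroup.of_bot hL.pg (by simp)
  obtain ⟨R, h3, h4, h5, h6⟩ := exists_syl (Γ ⊓ Subgroup.centralizer {ι z}) (P := P.map ι) (by
    rintro _ ⟨x, hx, rfl⟩
    obtain ⟨k, hk⟩ := h1 ⟨x, hx⟩
    exact ⟨S.mem x, Subgroup.mem_centralizer_singleton_iff.2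
      (S.comm_y hm hz (congrArg Subtype.val hk) (hL.comm _ ⟨x, hx, rfl⟩))⟩) (h1.map ι)
  have h7 : ∀ x, ι x ∈ R → π x ∈ P.map π := fun x hx => hL.syl ((R.comap ι).map π) le_top
    ((h5.comap_of_injective ι S.inj).map π) (Subgroup.map_mono fun y hy => h3 ⟨y, hy, rfl⟩) (by
      rintro _ ⟨y, hy, rfl⟩
      rw [← map_mul, ← map_mul, S.inj (a₁ := y * z) (a₂ := z * y) (by
        rw [map_mul, map_mul, Subgroup.mem_centralizer_singleton_iff.1 (h4 hy).2])]) ⟨x, hx, rfl⟩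
  have h8 : ∀ x ∈ R ⊓ GeneralLinearGroup.det.ker, ∃ x', ι x' = x := fun x hx =>
    S.ex x (h4 hx.1).1 (congrArg Units.val (MonoidHom.mem_ker.1 hx.2))
  have h9 : ∀ x, ι x ∈ R → ι x ∈ (KM.A.sc F _).range → π x = 1 := by
    rintro x hx ⟨c, hc⟩
    obtain ⟨k, hk⟩ := h5 ⟨_, hx⟩
    have e : sc n c = ι x := hc
    exact (S.ker x).2 ⟨c, hall c k (sc_inj S.n0 (by rw [map_pow, e, map_one]; exact congrArg Subtype.val hk)), e.symm⟩
  rcases KM.A.sylow_or (S := GeneralLinearGroup.det.ker) S.hF (S.cut.inf_centralizer {ι z})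
    (Subgroup.commutator_le.2 fun a _ b _ => by
      rw [MonoidHom.mem_ker, map_commutatorElement, commutatorElement_eq_one_iff_mul_comm, mul_comm])
    (KM.A.gen_odd h2) h4 h5 h6 (fun a ha b hb aS bS => by
      obtain ⟨a, rfl⟩ := h8 a ⟨ha, aS⟩
      obtain ⟨b, rfl⟩ := h8 b ⟨hb, bS⟩
      obtain ⟨c, -, e⟩ := (S.ker (a * b * a⁻¹ * b⁻¹)).1 (by
        rw [map_mul, map_mul, map_mul, hQ (h7 b hb) _ (h7 a ha), map_inv, map_inv]
        group)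
      exact ⟨c, by rw [← map_inv, ← map_inv, ← map_mul, ← map_mul, ← map_mul, e]; rfl⟩) with h | ⟨a, ha, b, hb, e1, e2, h⟩
  · have h' : ∀ a ∈ R, ∀ b ∈ R, a * b = b * a := fun a ha b hb => congrArg Subtype.val (h.is_comm.comm ⟨a, ha⟩ ⟨b, hb⟩)
    refine .inr ⟨?_, fun R' e1 e2 a ha b hb => ?_⟩
    · rintro x y ⟨x', hx, e1⟩ ⟨y', hy, e2⟩
      obtain ⟨c, -, e3⟩ := S.of_eq e1.symm
      obtain ⟨d, -, e4⟩ := S.of_eq e2.symm
      refine S.inj ?_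
      rw [map_mul, map_mul, e3, e4, (commute_sc d _).symm.mul_mul_mul_comm, (commute_sc c _).symm.mul_mul_mul_comm,
        (commute_sc c _).eq, h' _ (h3 ⟨x', hx, rfl⟩) _ (h3 ⟨y', hy, rfl⟩)]
    · obtain ⟨g, -, hg⟩ := h6 R' e1 e2
      exact (MulAut.conj g).injective (by rw [map_mul, map_mul]; exact h' _ (hg a ha) _ (hg b hb))
  · obtain ⟨a, rfl⟩ := h8 a ha
    obtain ⟨b, rfl⟩ := h8 b hb
    refine .inl (KM.A.card_le_sq (α := π a) (β := π b) ?_ ?_ ?_)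
    · rw [← map_pow] at e1 ⊢
      exact h9 _ (map_pow ι a l ▸ pow_mem ha.1 l) e1
    · rw [← map_pow] at e2 ⊢
      exact h9 _ (map_pow ι b l ▸ pow_mem hb.1 l) e2
    · rintro _ ⟨x, hx, rfl⟩
      obtain ⟨i, m, h10⟩ := h (ι x) ⟨h3 ⟨x, hx, rfl⟩, S.det1 x⟩
      have h11 := mul_mem (mul_mem (h3 ⟨x, hx, rfl⟩) (pow_mem hb.1 i)) (pow_mem ha.1 m)
      rw [← map_pow, ← map_pow, ← map_mul, ← map_mul] at h10 h11
      exact ⟨i, m, by rw [← map_pow, ← map_pow, ← map_mul, ← map_mul, h9 _ h11 h10]⟩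

end Sy

end Cfsg.Agent.BH.RO.R8
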