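import Cfsg.Agent.BH.RowO.R8b

/-!
# BH, `RowO`, linear and unitary groups with diagonal automorphisms: the shadow (helper86)
-/

set_option autoImplicit false
set_option linter.unusedSectionVars false

namespace Cfsg.Agent.BH.RO.R8

open Cfsg Matrix Cfsg.Agent.TO Cfsg.Agent.TO.LU Cfsg.Agent.BHZ.Nil
open Cfsg.Agent.H199.PslAut (mapGL)
open Cfsg.Agent.KM.Tor (Loc)

variable {F : Type} [Field F] [Fintype F] {n l : ℕ} {G X : Type} [Group G] [Group X]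
  {ι : G →* (Mt n F)ˣ} {π : G →* X} {Γ : Subgroup (Mt n F)ˣ} {μ : Subgroup Fˣ} {C : Set (Mt n F)}

theorem fam_swap {e : Fin 3 → Mt n F} (h : Fam C Γ μ e) : Fam C Γ μ fun i => e (Equiv.swap 0 1 i) :=
  ⟨fun _ => h.gd _, fun _ _ hij => h.orth _ _ fun e => hij ((Equiv.swap 0 1).injective e),
    (Equiv.sum_comp (Equiv.swap 0 1) e).trans h.sum⟩

/-- an element with the eigenvalues `η`, `ζ`, `1` -/
def Tri (l : ℕ) (ι : G →* (Mt n F)ˣ) (C : Set (Mt n F)) (ζ : Fˣ) : Prop := ∃ (t : G) (k : ℕ) (η : Fˣ), t ^ l ^ k = 1 ∧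
  (∀ y ∈ C, Commute y (ι t).1) ∧ (∀ c : Fˣ, ed (ι t).1 c ≠ 0 ↔ c = η ∨ c = ζ ∨ c = 1) ∧
  (η ≠ ζ → η ≠ 1 → ed (ι t).1 η = ed (ι t).1 ζ → η * ζ = 1)

namespace Sy

variable (S : Sy l ι π Γ μ) [hl : Fact l.Prime] [Finite G]
include S

theorem tri0 {e : Fin 3 → Mt n F} (h : Fam C Γ μ e) (he : ∀ i, e i ≠ 0) {η ζ : Fˣ} (h1 : η ∈ μ) (h2 : ζ ∈ μ) (z1 : ζ ≠ 1)
    {k : ℕ} (h3 : η ^ l ^ k = 1) (h4 : ζ ^ l ^ k = 1) (h5 : η ^ (e 0).rank * ζ ^ (e 1).rank = 1)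
    (h6 : (e 0).rank = (e 1).rank → η * ζ = 1) : Tri l ι C ζ := by
  classical
  obtain ⟨t, e1, e2⟩ := S.exists_x h ![η, ζ, 1] (fun i => by fin_cases i <;> simp [h1, h2]) (N := l ^ k)
    (fun i => by fin_cases i <;> simp [h3, h4]) (by simpa [Fin.prod_univ_three] using h5)
  refine ⟨t, k, η, e2, fun y hy => h.commute e1 hy, fun c => ?_, fun a1 a2 a3 => h6 ?_⟩
  · rw [h.eig_iff e1]
    simp [Fin.exists_fin_succ, he, eq_comm]
  · rw [h.ed_eq e1, h.ed_eq e1] at a3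
    simp only [Units.val_inj] at a3
    simpa [Finset.sum_filter, Fin.sum_univ_three, a1, a2, z1, a1.symm, a2.symm, z1.symm] using a3

theorem tri {e : Fin 3 → Mt n F} (h : Fam C Γ μ e) (he : ∀ i, e i ≠ 0) {ζ : Fˣ} (h2 : ζ ∈ μ) (z1 : ζ ≠ 1) {k : ℕ}
    (h4 : ζ ^ l ^ k = 1) : Tri l ι C ζ := by
  by_cases h0 : (e 0).rank = (e 1).rank
  · exact S.tri0 h he (inv_mem h2) h2 z1 (by rw [inv_pow, h4, inv_one]) h4 (by rw [h0, inv_pow, inv_mul_cancel])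
      fun _ => inv_mul_cancel _
  have h5 : ∀ j, (ζ ^ j) ^ l ^ k = 1 := fun j => by rw [← pow_mul, mul_comm, pow_mul, h4, one_pow]
  rcases exists_pow_rel (K := F) (congrArg Units.val (h5 (e 0).rank)) (congrArg Units.val (h5 (e 1).rank)) with
    ⟨j, hj⟩ | ⟨j, hj⟩
  · exact S.tri0 h he (pow_mem h2 j) h2 z1 (h5 j) h4
      (by rw [← pow_mul, mul_comm j, pow_mul, mul_comm]; exact Units.ext hj) fun a => (h0 a).elim
  · exact S.tri0 (fam_swap h) (fun _ => he _) (pow_mem h2 j) h2 z1 (h5 j) h4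
      (by rw [← pow_mul, mul_comm j, pow_mul, mul_comm]; exact Units.ext hj) fun a => (h0 a.symm).elim

theorem three_or {Q : Subgroup X} (hab : ∀ x y, π x ∈ Q → π y ∈ Q → x * y = y * x) (hR : ¬ Rk2 l Q) :
    ∃ a b, π a ∈ Q ∧ π b ∈ Q ∧ a ^ l = 1 ∧ b ^ l = 1 ∧ π a ≠ 1 ∧ π b ∉ Subgroup.zpowers (π a) := by
  have : Finite X := Finite.of_surjective π S.surj
  by_contra! h
  obtain ⟨α, h1, h2⟩ : ∃ α : X, α ^ l = 1 ∧ ∀ b, π b ∈ Q → b ^ l = 1 → π b ∈ Subgroup.zpowers α := by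
    by_cases h1 : ∃ a, π a ∈ Q ∧ a ^ l = 1 ∧ π a ≠ 1
    · obtain ⟨a, h2, h3, h4⟩ := h1
      exact ⟨π a, by rw [← map_pow, h3, map_one], fun b h5 h6 => h a b h2 h5 h3 h6 h4⟩
    · exact ⟨1, one_pow _, fun b h5 h6 => by
        rw [(not_not.1 fun h7 => h1 ⟨b, h5, h6, h7⟩ : π b = 1)]; exact one_mem _⟩
  let H : Subgroup Fˣ :=
    { carrier := {c | c ∈ μ ∧ ∃ x, π x ∈ Q ∧ ι x ^ l = sc n c}
      one_mem' := ⟨one_mem _, 1, by simp, by simp⟩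
      mul_mem' := fun ⟨m1, x, h3, h4⟩ ⟨m2, y, h5, h6⟩ => ⟨mul_mem m1 m2, x * y, by rw [map_mul]; exact mul_mem h3 h5, by
        rw [map_mul, (Commute.map (hab x y h3 h5) ι).mul_pow, h4, h6, map_mul]⟩
      inv_mem' := fun ⟨m1, x, h3, h4⟩ => ⟨inv_mem m1, x⁻¹, by rw [map_inv]; exact inv_mem h3,
        by rw [map_inv, inv_pow, h4, map_inv]⟩ }
  obtain ⟨c, hc⟩ := (Subgroup.isCyclic_iff_exists_zpowers_eq_top H).1 inferInstance
  obtain ⟨m1, x, h3, h4⟩ : c ∈ H := hc ▸ Subgroup.mem_zpowers c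
  let V : Subgroup X :=
    { carrier := {u | u ∈ Q ∧ u ^ l = 1}
      one_mem' := ⟨one_mem _, one_pow _⟩
      mul_mem' := fun {a b} ha hb => ⟨mul_mem ha.1 hb.1, by
        obtain ⟨a, rfl⟩ := S.surj a
        obtain ⟨b, rfl⟩ := S.surj b
        rw [(Commute.map (hab a b ha.1 hb.1) π).mul_pow, ha.2, hb.2, one_mul]⟩
      inv_mem' := fun ha => ⟨inv_mem ha.1, by rw [inv_pow, ha.2, inv_one]⟩ }
  have h5 : π x ^ l = 1 := (map_pow π x l).symm.trans ((S.ker _).2 ⟨c, m1, (map_pow ι x l).trans h4⟩)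
  refine hR ((Nat.card_coe_set_eq _).symm.trans_le (KM.A.card_le_sq (D := V) h1 h5 fun u hu => ?_))
  obtain ⟨y, rfl⟩ := S.surj u
  obtain ⟨d, m2, hd⟩ := (S.ker (y ^ l)).1 (by rw [map_pow, hu.2])
  obtain ⟨i, hi⟩ := (mem_powers_iff_mem_zpowers (x := c) (y := d⁻¹)).2 (hc ▸ inv_mem (show d ∈ H from
    ⟨m2, y, hu.1, by rw [← map_pow, hd]⟩))
  obtain ⟨m, hm⟩ := mem_powers_iff_mem_zpowers.2 (inv_mem (h2 (y * x ^ i) (by
    rw [map_mul, map_pow]; exact mul_mem hu.1 (pow_mem h3 i)) (S.inj (by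
      rw [((show Commute y x from hab y x hu.1 h3).pow_right i).mul_pow, map_mul, hd, ← pow_mul, mul_comm i, pow_mul,
        map_pow, map_pow, h4, ← map_pow, show c ^ i = d⁻¹ from hi, ← map_mul, mul_inv_cancel, map_one, map_one]))))
  exact ⟨i, m, by rw [show α ^ m = _ from hm, map_mul, map_pow, mul_inv_cancel]⟩

variable {ω : Fˣ} (hω : ω ^ l = 1) (h1 : ω ≠ 1) (hm : ω ∈ μ)
include hω h1 hm

theorem three {a b : G} (hab : Commute a b) (ap : a ^ l = 1) (bp : b ^ l = 1) (a1 : π a ≠ 1)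
    (b1 : π b ∉ Subgroup.zpowers (π a)) (ca : ∀ y ∈ C, Commute y (ι a).1) (cb : ∀ y ∈ C, Commute y (ι b).1) :
    ∃ e : Fin 3 → Mt n F, Fam C Γ μ e ∧ ∀ i, e i ≠ 0 := by
  classical
  have xp : ι a ^ l = 1 := by rw [← map_pow, ap, map_one]
  have yp : ι b ^ l = 1 := by rw [← map_pow, bp, map_one]
  have ap' : π a ^ l = 1 := by rw [← map_pow, ap, map_one]
  have bp' : π b ^ l = 1 := by rw [← map_pow, bp, map_one]
  obtain ⟨e, hf, f1, f2⟩ : ∃ e : ZMod l × ZMod l → Mt n F, Fam C Γ μ e ∧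
      (∀ t, (ι a).1 * e t = (zt ω t.1 : F) • e t) ∧ ∀ t, (ι b).1 * e t = (zt ω t.2 : F) • e t :=
    ⟨_, fam_ev2 S.hF hω h1 S.cut S.scal hm (S.mem a) xp ca (S.mem b) yp cb (hab.map ι),
      fun t => by rw [← mul_assoc, mul_ev hω xp, smul_mul_assoc], fun t => by
        rw [← mul_assoc, (commute_ev (hab.map ι).units_val.symm _).eq, mul_assoc, mul_ev hω yp, Matrix.mul_smul]⟩
  have f3 : ∀ i j : ZMod l, ∀ t, (ι (a ^ i.val * b ^ j.val)).1 * e t = (zt ω (t.1 * i + t.2 * j) : F) • e t :=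
    fun i j t => by
      rw [map_mul, map_pow, map_pow, Units.val_mul, Units.val_pow_eq_pow_val, Units.val_pow_eq_pow_val, mul_assoc,
        Fam.pow_mul f2, Matrix.mul_smul, Fam.pow_mul f1, smul_smul, ← Units.val_pow_eq_pow_val,
        ← Units.val_pow_eq_pow_val, ← Units.val_mul, zt_pow_val hω, zt_pow_val hω, zt_add hω, mul_comm (zt ω _)]
  have f4 : ∀ i j : ZMod l, π (a ^ i.val * b ^ j.val) = 1 → i = 0 ∧ j = 0 := fun i j h => by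
    rw [map_mul, map_pow, map_pow] at h
    have h2 : π b ^ j.val = 1 := by
      by_contra h2
      refine b1 ((Subgroup.zpowers_le_of_mem ?_) (mem_zp bp' h2))
      rw [← mul_eq_one_iff_inv_eq.1 h]
      exact inv_mem (Subgroup.npow_mem_zpowers _ _)
    rw [h2, mul_one] at h
    have h3 : ∀ (u : X) (i : ZMod l), u ≠ 1 → u ^ l = 1 → u ^ i.val = 1 → i = 0 := fun u i u1 up h =>
      (ZMod.val_eq_zero i).1 (Nat.eq_zero_of_dvd_of_lt ((orderOf_eq_prime up u1).symm.dvd.trans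
        (orderOf_dvd_of_pow_eq_one h)) i.val_lt)
    exact ⟨h3 _ _ a1 ap' h, h3 _ _ (fun e => b1 (by rw [e]; exact one_mem _)) bp' h2⟩
  have f5 : ∀ i j s : ZMod l, ¬ (i = 0 ∧ j = 0) → ∃ t, e t ≠ 0 ∧ t.1 * i + t.2 * j ≠ s := fun i j s h => by
    by_contra! h2
    refine h (f4 i j ((S.ker _).2 ⟨zt ω s, pow_mem hm _, Units.ext (hf.ext fun t => ?_)⟩))
    rw [f3, val_sc, smul_mul_assoc, one_mul]
    by_cases h3 : e t = 0
    · rw [h3, smul_zero, smul_zero]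
    · rw [h2 t h3]
  obtain ⟨r, r0, -⟩ := f5 1 0 0 (by simp)
  obtain ⟨s, s0, hs⟩ := f5 1 0 r.1 (by simp)
  have hs' : s.1 - r.1 ≠ 0 := fun e => hs (by linear_combination e)
  obtain ⟨t, t0, ht⟩ := f5 (r.2 - s.2) (s.1 - r.1) (r.1 * (r.2 - s.2) + r.2 * (s.1 - r.1)) fun h => hs' h.2
  have rs : r ≠ s := fun e => hs' (by rw [e, sub_self])
  have rt : r ≠ t := fun e => ht (by rw [e])
  have st : s ≠ t := fun e => ht (by rw [← e]; ring)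
  have hi : Function.Injective ![r, s, t] := fun i j => by
    fin_cases i <;> fin_cases j <;> simp [rs, rt, st, rs.symm, rt.symm, st.symm]
  have he : ∀ j, e (![r, s, t] j) ≠ 0 := fun j => by fin_cases j <;> assumption
  refine ⟨_, hf.merge (Function.invFun ![r, s, t]), fun v e1 => ?_⟩
  have h2 := (hf.gd_sum _).2.symm.trans ((congrArg _ e1).trans rank_zero)
  exact he v (eq_zero_of_rank (Finset.sum_eq_zero_iff.1 h2 _ (by simp [Function.leftInverse_invFun hi v])))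

omit hω h1 hm in
/-- inner-diagonal automorphisms centralize -/
theorem diag_fix {Q : Subgroup X} {z : G} {m : ℕ} (hm : ¬ l ∣ m) (hz : z ^ m = 1) (hL : Loc l ⊤ Q (π z))
    (hab : ∀ x y, π x ∈ Q → π y ∈ Q → x * y = y * x)
    (hR : ∀ R : Subgroup (Mt n F)ˣ, R ≤ Γ ⊓ Subgroup.centralizer {ι z} → IsPGroup l R → ∀ a ∈ R, ∀ b ∈ R, a * b = b * a)
    {β : MulAut X} {k : ℕ} (hβ : β ^ l ^ k = 1) (hQ : ∀ u ∈ Q, β u ∈ Q) (hy : β (π z) = π z) {dg : Γ →* MulAut X}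
    (hd : ∀ A : Γ, Idc ι π (dg A) fun x => A * x * (A : (Mt n F)ˣ)⁻¹) (h : β ∈ dg.range) {u : X} (hu : u ∈ Q) :
    β u = u := by
  obtain ⟨A, j, rfl, hA⟩ : ∃ (A : Γ) (j : ℕ), dg A = β ∧ A ^ l ^ j = 1 := by
    obtain ⟨A, rfl⟩ := h
    obtain ⟨v, j, h2, h3⟩ := expo hl.out k (orderOf_pos A).ne'
    exact ⟨A ^ v, j, by rw [map_pow, pow_eq_self hβ h2], by rw [← pow_mul, orderOf_dvd_iff_pow_eq_one.1 h3]⟩
  have hA' : (A : (Mt n F)ˣ) ^ l ^ j = 1 := congrArg Subtype.val hA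
  have h2 : (A : (Mt n F)ˣ) * ι z = ι z * A := by
    obtain ⟨z', e1, e2⟩ := hd A z
    obtain ⟨c, -, e3⟩ := S.of_eq (e1.trans hy)
    exact comm_of_rel hl.out hm (commute_sc c) (mul_inv_eq_iff_eq_mul.1 (e2.symm.trans e3)) hA'
      (by rw [← map_pow, hz, map_one])
  let P : Subgroup G :=
    { carrier := {x | π x ∈ Q ∧ ∃ k, x ^ l ^ k = 1}
      one_mem' := ⟨by simp, 0, one_pow _⟩
      mul_mem' := fun {a b} ⟨a1, i, a2⟩ ⟨b1, k, b2⟩ => ⟨by rw [map_mul]; exact mul_mem a1 b1, i + k, by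
        rw [(show Commute a b from hab a b a1 b1).mul_pow, pow_add, pow_mul, a2, one_pow, pow_mul', b2, one_pow, one_mul]⟩
      inv_mem' := fun ⟨a1, i, a2⟩ => ⟨by rw [map_inv]; exact inv_mem a1, i, by rw [inv_pow, a2, inv_one]⟩ }
  have hP : IsPGroup l P := fun x => x.2.2.imp fun _ => Subtype.ext
  have h3 : (A : (Mt n F)ˣ) ∈ Subgroup.normalizer (P.map ι : Set (Mt n F)ˣ) :=
    Subgroup.mem_normalizer_fintype (by
      rintro _ ⟨x, ⟨x1, i, x2⟩, rfl⟩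
      obtain ⟨x', e1, e2⟩ := hd A x
      exact ⟨x', ⟨e1 ▸ hQ _ x1, i, S.inj (by rw [map_pow, e2, conj_pow, ← map_pow, x2]; simp)⟩, e2⟩)
  obtain ⟨i, hi⟩ := hL.pg ⟨u, hu⟩
  obtain ⟨x, i, rfl, hx⟩ := S.lift_u (congrArg Subtype.val hi)
  have h4 := hR (Subgroup.zpowers (A : (Mt n F)ˣ) ⊔ P.map ι) (sup_le
    (Subgroup.zpowers_le_of_mem ⟨A.2, Subgroup.mem_centralizer_singleton_iff.2 h2⟩) (by
      rintro _ ⟨x, ⟨x1, i, x2⟩, rfl⟩
      exact ⟨S.mem x, Subgroup.mem_centralizer_singleton_iff.2 (S.comm_y hm hz x2 (hL.comm _ x1))⟩))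
    (IsPGroup.to_sup_of_normal_right' (fun ⟨_, i, rfl⟩ => ⟨j, Subtype.ext (show (_ ^ i) ^ _ = 1 by
      rw [← zpow_natCast, ← _root_.zpow_mul, mul_comm, _root_.zpow_mul, zpow_natCast, hA', _root_.one_zpow])⟩) (hP.map ι)
      (Subgroup.zpowers_le_of_mem h3)) A (Subgroup.mem_sup_left (Subgroup.mem_zpowers _)) (ι x)
    (Subgroup.mem_sup_right ⟨x, ⟨hu, i, hx⟩, rfl⟩)
  obtain ⟨x', e1, e2⟩ := hd A x
  rw [← e1, S.inj (e2.trans (mul_inv_eq_iff_eq_mul.2 h4))]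

/-- no shadow -/
theorem no_sh (h2 : l ≠ 2) (hmv : BoxMv) {dg : Γ →* MulAut X}
    (hd : ∀ A : Γ, Idc ι π (dg A) fun x => A * x * (A : (Mt n F)ˣ)⁻¹) {Q E : Subgroup X} {Δ Δ₀ : Subgroup (MulAut X)}
    (h : Sh l Q E Δ Δ₀) (hC : (Nat.card Q = 9 ∧ l = 3 ∧ ∀ η ∈ μ, η ^ 9 = 1 → η ^ 3 = 1) → Cd l Q Δ dg.range)
    (hR : Rk2 l Q → l = 3 ∧ Nine Q E Δ) (hN : l = 3 → Nine Q E Δ → ¬ No9 X) : False := by
  have : Finite X := Finite.of_surjective π S.surj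
  have hall := S.dich.resolve_left fun e => h1 (e ω hm hω)
  obtain ⟨-, -, -, b1, -, β, hβ, b2, b3, y, hL, hy⟩ := hmv l X Q E Δ Δ₀ h
  obtain ⟨⟨u, hu, b4⟩, -, b5⟩ := b1 β hβ b2 b3
  obtain ⟨k, hk⟩ := pElt_iff.1 b3
  obtain ⟨σ, j, ⟨b6, b7⟩ | e⟩ := S.fd_of hl.out hk
  swap
  · exact h2 e
  by_cases h3 : Rk2 l Q
  · obtain ⟨rfl, h4⟩ := hR h3
    have h5 : ∀ η ∈ μ, η ^ 9 = 1 → η ^ 3 = 1 := by
      by_contra h5
      refine hN rfl h4 fun K _ _ s M b Q' θ A h6 => h5 ?_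
      obtain ⟨P, -, c⟩ := S.toSys.exists_ctx h6.pure
      obtain ⟨-, -, -, -, -, -, -, -, -, -, -, h7, -⟩ := c.core
      exact h7
    refine b4 (hC ⟨h4.card, rfl, h5⟩ β hβ (S.mem_dg hd ((by_contra fun h6 => ?_ : σ = 1) ▸ b6)) b3 u hu)
    obtain ⟨ζ, i, h7, h8⟩ := moved hl.out h2 hω h1 h6 b7
    refine h8 (cube_fix σ ?_)
    clear h8
    induction i generalizing ζ with
    | zero => rw [(pow_one ζ).symm.trans h7, one_pow]
    | succ i ih => exact h5 ζ (hall ζ _ h7) ((pow_mul ζ 3 3).trans (ih _ (by rwa [← pow_mul, ← pow_succ'])))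
  obtain ⟨z, m, rfl, c1, c2⟩ := S.lift_y hL.reg
  obtain c3 | ⟨c3, c4⟩ := S.ab_or h2 hall c1 c2 hL h.ab
  · exact h3 ((Set.ncard_le_ncard fun _ e => e.1).trans ((Nat.card_coe_set_eq _).symm.trans_le c3))
  by_cases h4 : σ = 1
  · exact b4 (S.diag_fix c1 c2 hL c3 c4 hk (fun u => (h.nrm β hβ u).2) hy hd (S.mem_dg hd (h4 ▸ b6)) hu)
  obtain ⟨ζ, i, h5, h6⟩ := moved hl.out h2 hω h1 h4 b7
  obtain ⟨a, b, a1, a2, a3, a4, a5, a6⟩ := S.three_or c3 h3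
  obtain ⟨e, e1, e2⟩ := S.three hω h1 hm (C := {y | Commute y (ι a).1 ∧ Commute y (ι b).1}) (c3 a b a1 a2) a3 a4 a5 a6
    (fun _ e => e.1) fun _ e => e.2
  obtain ⟨t, r, η, t1, t2, t3, t4⟩ := S.tri e1 e2 (hall ζ i h5) (fun e => h6 (by rw [e, map_one, map_one])) h5
  have t5 : ∀ x, ι x * ι a = ι a * ι x → ι x * ι b = ι b * ι x → π x * π t = π t * π x := fun x x1 x2 => by
    rw [← map_mul, ← map_mul, S.inj (a₁ := x * t) (a₂ := t * x) (by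
      rw [map_mul, map_mul]; exact Units.ext (t2 _ ⟨congrArg Units.val x1, congrArg Units.val x2⟩))]
  have t6 : π t ∈ Q := Gn.loc_mem hL trivial (j := r) (by rw [← map_pow, t1, map_one])
    (t5 z (S.comm_y c1 c2 (k := 1) (by rwa [pow_one]) (hL.comm _ a1)).symm
      (S.comm_y c1 c2 (k := 1) (by rwa [pow_one]) (hL.comm _ a2)).symm).symm
    (Subgroup.centralizer_le_normalizer _ fun w hw => by
      obtain ⟨x, rfl⟩ := S.surj w
      exact t5 x (by rw [← map_mul, c3 x a hw a1, map_mul]) (by rw [← map_mul, c3 x b hw a2, map_mul]))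
  obtain ⟨γ, -, g1⟩ := b5 _ t6
  obtain ⟨Φ, τ, g2, -, g3, g4⟩ := S.model γ
  obtain ⟨t', g5, g6⟩ := g2 t
  obtain ⟨B, -, b6⟩ := b6
  obtain ⟨t'', g7, g8⟩ := b6 t'
  obtain ⟨c, -, g9⟩ := S.of_eq (x := t') (y := t'') (by rw [g7, g5, g1])
  obtain ⟨c, rfl⟩ := (Finite.injective_iff_surjective.1 g3) c
  refine comb (un σ) (un_inj σ) c (fun x => ed (ι t).1 x) (fun x => ?_) t3 h6 t4
  rw [← g4, ← g4 (ι t) x, ← g6, map_mul, hom_comm τ]
  conv_lhs => rw [g9, val_sc_mul, Units.val_mul, ed_smul (τ c).ne_zero, g8]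
  exact (ed_conj B _ _).trans (ed_map σ _ _)

end Sy

end Cfsg.Agent.BH.RO.R8
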