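import Cfsg.Agent.BH.RowO.R8c
import Cfsg.Agent.H95.StemCover

/-!
# BH, `RowO`, linear and unitary groups with diagonal automorphisms: the over group (helper86)
-/

set_option autoImplicit false
set_option linter.unusedSectionVars false

namespace Cfsg.Agent.BH.RO.R8

open Cfsg Matrix Cfsg.Agent.TO Cfsg.Agent.TO.LU Cfsg.Agent.BHZ.Nil

variable {F : Type} [Field F] [Fintype F] {n l : ℕ} {G X : Type} [Group G] [Group X]
  {ι : G →* (Mt n F)ˣ} {π : G →* X} {Γ : Subgroup (Mt n F)ˣ} {μ : Subgroup Fˣ}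

/-- the height zero statement for the quotient by the scalars of order three -/
def Ovb (Γ : Subgroup (Mt n F)ˣ) : Prop := ∀ M : Ideal AlgInt, IsPModular 3 M → ∀ (H : Type) [Group H] [Finite H]
  (p : Γ →* H) (N : Subgroup H), Function.Surjective p → p.ker ≤ Subgroup.center _ → Nat.card p.ker = 3 →
  N = ((GeneralLinearGroup.det.ker).subgroupOf Γ).map p → BHn 3 9 M N

/-- the covers are quotients or have no outer automorphisms of order three -/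
def Cvr (π : G →* X) : Prop := ∀ (K : Type) [Group K] [Finite K] (σ : K →* X), IsQuasisimple K → Function.Surjective σ →
  σ.ker = Subgroup.center K → IsCyclic (Subgroup.center K) → ¬ 3 ∣ Nat.card (Subgroup.center K) →
  (∃ ψ : G →* K, Function.Surjective ψ ∧ ∀ g, σ (ψ g) = π g) ∨ ∀ α : MulAut K, PElt 3 α → α ∈ Inn K

theorem Sy.dg_of [Finite G] (S : Sy 3 ι π Γ μ) {ω : Fˣ} (hω : ω ^ 3 = 1) (h1 : ω ≠ 1) (hm : ω ∈ μ)
    (hη : ∀ η ∈ μ, η ^ 9 = 1 → η ^ 3 = 1) (hD : BoxDG) (hB : Ovb Γ) (hK : Cvr π) {dg : Γ →* MulAut X}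
    (hd : ∀ A : Γ, Idc ι π (dg A) fun x => A * x * (A : (Mt n F)ˣ)⁻¹) : Dg X 3 9 dg.range := by
  intro K _ _ σ M b Q θ A A₀ H hA hQ α hα hp β hβ e u hu
  have : Fact (Nat.Prime 3) := ⟨Nat.prime_three⟩
  obtain ⟨ψ, s1, s2⟩ | h := hK K σ H.qs H.surj H.ker H.cyc H.zp
  swap
  · exact hA.c0 α ⟨hA.inn (h α hp), hα.2⟩ hp u hu
  obtain ⟨w, hw⟩ : ∃ w : Γ, (w : (Mt n F)ˣ) = sc n ω := ⟨⟨_, S.scal ω hm⟩, rfl⟩
  have w1 : Subgroup.zpowers w ≤ Subgroup.center Γ := Subgroup.zpowers_le_of_mem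
    (Subgroup.mem_center_iff.2 fun y => Subtype.ext (show _ * w.1 = w.1 * _ by rw [hw, (commute_sc ω _).eq]))
  have w2 : w ^ 3 = 1 := Subtype.ext (show w.1 ^ 3 = 1 by rw [hw, sc_pow hω])
  have w3 : ∀ x ∈ Subgroup.zpowers w, x ^ 3 = 1 ∧ ∃ c ∈ μ, x.1 = sc n c := by
    rintro _ ⟨i, rfl⟩
    exact ⟨by rw [← zpow_natCast, ← _root_.zpow_mul, mul_comm, _root_.zpow_mul, zpow_natCast, w2, _root_.one_zpow],
      ω ^ i, zpow_mem hm i, by rw [map_zpow, ← hw]; rfl⟩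
  have w4 : ∀ (x : Γ) (c : Fˣ), x.1 = sc n c → c ^ 3 = 1 → x ∈ Subgroup.zpowers w := fun x c e1 e2 => by
    obtain ⟨i, -, rfl⟩ := (IsPrimitiveRoot.iff_orderOf.2 (orderOf_eq_prime hω h1)).eq_pow_of_mem_rootsOfUnity
      (show c ∈ rootsOfUnity 3 F from e2)
    exact ⟨i, Subtype.ext (by rw [e1, map_pow, ← hw]; exact zpow_natCast _ _)⟩
  have : (Subgroup.zpowers w).Normal := ⟨fun x hx g => by
    rw [Subgroup.mem_center_iff.1 (w1 hx) g, mul_inv_cancel_right]; exact hx⟩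
  obtain ⟨p, p1, p2⟩ : ∃ p : Γ →* Γ ⧸ Subgroup.zpowers w, Function.Surjective p ∧ p.ker = Subgroup.zpowers w :=
    ⟨_, QuotientGroup.mk'_surjective _, QuotientGroup.ker_mk' _⟩
  obtain ⟨N, hN⟩ : ∃ N, N = ((GeneralLinearGroup.det.ker).subgroupOf Γ).map p := ⟨_, rfl⟩
  have : N.Normal := hN ▸ Subgroup.Normal.map inferInstance p p1
  obtain ⟨k, hk⟩ : ∃ k : G →* Γ, ∀ g, (k g).1 = ι g := ⟨ι.codRestrict Γ S.mem, fun _ => rfl⟩
  have k1 : ∀ x : Γ, GeneralLinearGroup.det x.1 = 1 → ∃ g, k g = x := fun x hx =>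
    (S.ex x x.2 (congrArg Units.val hx)).imp fun g e => Subtype.ext ((hk g).trans e)
  have k2 : ∀ g, p.comp k g ∈ N := fun g => hN ▸ ⟨k g, show GeneralLinearGroup.det (k g).1 = 1 by rw [hk, S.det1], rfl⟩
  have k3 : Function.Surjective ((p.comp k).codRestrict N k2) := fun ⟨x, hx⟩ => by
    obtain ⟨y, hy, rfl⟩ := hN ▸ hx
    obtain ⟨g, rfl⟩ := k1 y hy
    exact ⟨g, rfl⟩
  have k4 : ∀ g, p.comp k g = 1 → ψ g = 1 := fun g e1 => by
    obtain ⟨e2, c, hc, e3⟩ := w3 _ (p2.le (e1 : k g ∈ p.ker))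
    have e4 : ψ g ∈ Subgroup.center K := by rw [← H.ker, MonoidHom.mem_ker, s2]; exact (S.ker g).2 ⟨c, hc, hk g ▸ e3⟩
    refine eq_one_of Nat.prime_three H.zp (congrArg Subtype.val (pow_card_eq_one' (x := (⟨_, e4⟩ : Subgroup.center K))))
      (k := 1) ?_
    rw [pow_one, ← map_pow, S.inj (a₁ := g ^ 3) (a₂ := 1) (by rw [← hk, map_pow, e2, map_one]; rfl), map_one]
  have k5 : ∀ g, ψ g = 1 → ∃ c ∈ μ, (k g).1 = sc n c := fun g e1 => hk g ▸ (S.ker g).1 (by rw [← s2, e1, map_one])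
  have k6 : ∀ (x : Γ) (g g' : G), ι g' = x * ι g * x.1⁻¹ → p.comp k g' = p x * p.comp k g * (p x)⁻¹ := fun x g g' e1 => by
    rw [MonoidHom.comp_apply, MonoidHom.comp_apply, ← map_inv, ← map_mul, ← map_mul]
    exact congrArg p (Subtype.ext (by rw [hk, e1, ← hk]; rfl))
  obtain ⟨act, ha⟩ := exists_act (p.comp k) ψ s1 (fun h g => by
    obtain ⟨x, rfl⟩ := p1 h
    exact (S.exists_conj x.2 g).imp (k6 x g)) k4 fun g e1 => Subgroup.mem_center_iff.2 fun h => by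
      obtain ⟨x, rfl⟩ := p1 h
      obtain ⟨c, -, e2⟩ := k5 g e1
      rw [MonoidHom.comp_apply, ← map_mul, ← map_mul]
      exact congrArg p (Subtype.ext (show _ * (k g).1 = (k g).1 * _ by rw [e2, (commute_sc c _).eq]))
  obtain ⟨q, hq⟩ : ∃ q : N →* K, ∀ g, q ((p.comp k).codRestrict N k2 g) = ψ g :=
    ⟨MonoidHom.liftOfSurjective _ k3 ⟨ψ, fun g e1 => k4 g (congrArg Subtype.val e1)⟩,
      fun g => MonoidHom.liftOfRightInverse_comp_apply _ _ _ _ g⟩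
  obtain ⟨f, f1, f2, -⟩ := H.exists_dn
  have f3 : ∀ x : Γ, f (act (p x)) = dg x := fun x => MulEquiv.ext fun y => by
    obtain ⟨g, rfl⟩ := S.surj y
    obtain ⟨g', e1, e2⟩ := hd x g
    rw [← e1, ← s2, ← f1, ← ha _ g g' (k6 x g g' e2), s2]
  have f4 : act.range = dg.range.comap f := by
    ext γ
    refine ⟨fun ⟨h, e1⟩ => ?_, fun ⟨x, e1⟩ => ⟨p x, f2 ((f3 x).trans e1)⟩⟩
    obtain ⟨x, rfl⟩ := p1 h
    exact ⟨x, by rw [← e1, f3]⟩
  refine hD 3 K X _ M b Q θ σ A A₀ N q act H hA ⟨fun y => ?_, fun h3 => ?_, ?_, fun h a a' e1 => ?_⟩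
    (hQ ▸ hB M H.can.hM _ p N p1 (p2.le.trans w1) ?_ hN) (fun γ _ δ hδ => ?_) (fun h9 => ?_) α hα hp ?_ u hu
  · obtain ⟨g, rfl⟩ := s1 y
    exact ⟨_, hq g⟩
  · obtain ⟨⟨x, hx⟩, e1⟩ := exists_prime_orderOf_dvd_card' 3 h3
    obtain ⟨g, rfl⟩ := k3 x
    obtain ⟨c, hc, e2⟩ := k5 g ((hq g).symm.trans hx)
    have e3 : p (k g ^ 3) = 1 := (map_pow p _ 3).trans
      (congrArg (fun y : q.ker => (y.1 : Γ ⧸ Subgroup.zpowers w)) (e1 ▸ pow_orderOf_eq_one _))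
    have e4 := congrArg Subtype.val (w3 _ (p2.le (e3 : k g ^ 3 ∈ p.ker))).1
    have e5 : k g ∈ p.ker := p2.ge (w4 _ c e2 (hη c hc (sc_inj S.n0 (by
      rw [map_pow, ← e2, map_one]; exact (pow_mul _ 3 3).trans e4))))
    exact absurd (e1.symm.trans (orderOf_eq_one_iff.2 (Subtype.ext (Subtype.ext (MonoidHom.mem_ker.1 e5))))) (by decide)
  · obtain ⟨c, hc⟩ := (Subgroup.isCyclic_iff_exists_zpowers_eq_top (GeneralLinearGroup.det.comp Γ.subtype).range).1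
      inferInstance
    obtain ⟨x, rfl⟩ : c ∈ (GeneralLinearGroup.det.comp Γ.subtype).range := hc ▸ Subgroup.mem_zpowers c
    refine ⟨p x, fun y => ?_⟩
    obtain ⟨y, rfl⟩ := QuotientGroup.mk_surjective y
    obtain ⟨y, rfl⟩ := p1 y
    obtain ⟨i, hi⟩ := hc.ge ⟨y, rfl⟩
    refine ⟨i, (QuotientGroup.mk_zpow N _ _).symm.trans (QuotientGroup.eq.2 (hN ▸ ⟨(x ^ i)⁻¹ * y, ?_, by simp⟩))⟩
    show (GeneralLinearGroup.det.comp Γ.subtype) _ = 1
    rw [map_mul, map_inv, map_zpow, show _ ^ i = _ from hi, inv_mul_cancel]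
  · obtain ⟨g, rfl⟩ := k3 a
    obtain ⟨g', rfl⟩ := k3 a'
    rw [hq, hq]
    exact ha h g g' e1
  · rw [p2, Nat.card_zpowers]
    exact orderOf_eq_prime w2 fun e1 => h1 (sc_inj S.n0 (by rw [← hw, e1, map_one]; rfl))
  · rw [f4] at hδ ⊢
    exact ((S.dg_normal hd).comap f).conj_mem δ hδ γ
  · have h2 : act.range = (act.comp p).range := by
      rw [MonoidHom.range_comp, MonoidHom.range_eq_top.2 p1, ← MonoidHom.range_eq_map]
    rw [h2, ← Subgroup.index_comap] at h9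
    have h3 := h9.trans (Subgroup.index_dvd_of_le (H := (GeneralLinearGroup.det.comp Γ.subtype).ker) fun x hx => by
      obtain ⟨g, rfl⟩ := k1 x hx
      refine ⟨ψ g, MulEquiv.ext fun y => ?_⟩
      obtain ⟨g', rfl⟩ := s1 y
      rw [MulAut.conj_apply, ← map_inv, ← map_mul, ← map_mul]
      exact ha _ _ _ (by simp))
    rw [Subgroup.index_ker] at h3
    obtain ⟨_, ⟨x, rfl⟩, e1, e2⟩ := nine_of h3
    obtain ⟨c, hc, e3⟩ := S.detm x x.2
    exact e2 (hη _ ((Units.ext e3 : GeneralLinearGroup.det x.1 = c) ▸ hc) e1)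
  · rw [f4, Subgroup.mem_comap, show f α = β from MulEquiv.ext fun y => by
      obtain ⟨g, rfl⟩ := H.surj y
      rw [← f1, e]]
    exact hβ

/-- the row in the abstract setting -/
theorem Sy.row [Fact l.Prime] [Finite G] [Finite X] (S : Sy l ι π Γ μ) (B : Bx) (h2 : l ≠ 2) {ω : Fˣ} (hω : ω ^ l = 1)
    (h1 : ω ≠ 1) (hm : ω ∈ μ) (h : l = 3 → (∀ η ∈ μ, η ^ 9 = 1 → η ^ 3 = 1) → Ovb Γ ∧ Cvr π) : RowO l X := by
  obtain ⟨dg, hd⟩ := S.exists_dg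
  refine row_of_dg B.sh B.p2 h2 dg.range {m | m = 9 ∧ l = 3 ∧ ∀ η ∈ μ, η ^ 9 = 1 → η ^ 3 = 1} ?_
    fun Q E Δ Δ₀ h3 => S.no_sh hω h1 hm h2 B.mv hd h3
  rintro _ ⟨rfl, rfl, h3⟩
  exact S.dg_of hω h1 hm h3 B.dg (h rfl h3).1 (h rfl h3).2 hd

theorem cvr_of [Finite G] [Finite X] (hG : commutator G = ⊤) (hπ : Function.Surjective π) (hk : π.ker = Subgroup.center G)
    {A : Type} [CommGroup A] [Finite A] (hA : HasSchurMultiplier X A) (hc : Nat.card (Subgroup.center G) = Nat.card A) :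
    Cvr π := fun _ _ _ σ h1 h2 h3 _ _ => .inl (H95.StemCover.exists_cover' (by
      rw [commutator_def, ← MonoidHom.range_eq_top.2 hπ, MonoidHom.range_eq_map, ← Subgroup.map_commutator,
        ← commutator_def, hG]) hA π (H95.StemCover.isStem hG hπ hk.le) (hk ▸ hc) h1.1.commutator_eq_top σ h2 h3.le)

theorem cvr_xc (hπ : Function.Surjective π) {A : Type} [CommGroup A] (hA : HasSchurMultiplier X A) {j : ℕ}
    (hc : Nat.card A = 3 * 2 ^ j) (hX : XC X) : Cvr π := fun K _ _ σ h1 h2 h3 h4 h5 => by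
  by_cases h : Subgroup.center K = ⊥
  · let e := MulEquiv.ofBijective σ ⟨(MonoidHom.ker_eq_bot_iff σ).1 (h3.trans h), h2⟩
    exact .inl ⟨e.symm.toMonoidHom.comp π, e.symm.surjective.comp hπ, fun g => e.apply_symm_apply _⟩
  · have h6 := H95.StemCover.card_ker_dvd hA h1.1.commutator_eq_top σ h2 h3.le
    rw [h3, hc] at h6
    obtain ⟨i, -, hi⟩ := (Nat.dvd_prime_pow Nat.prime_two).1
      (((Nat.prime_three.coprime_iff_not_dvd.2 h5).symm).dvd_of_dvd_mul_left h6)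
    exact .inr (hX K σ h1 h2 h3 h4 (IsPGroup.of_card hi) h)

end Cfsg.Agent.BH.RO.R8
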