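import Cfsg.Agent.BH.RowO.G
import Cfsg.Agent.KM.Tor.E6a

/-!
# BH, `RowO` in cross characteristic: automorphisms on the torus `Z0` (helper2)

`La` the cocharacter lattice of `Z0`, `Ac` the matrix of an automorphism on it, `Lf` lifts, `Dc` the dichotomy.
-/

set_option autoImplicit false
set_option linter.unusedSectionVars false

namespace Cfsg.Agent.BH.RO.Tt

open Cfsg Subgroup Matrix Cfsg.Agent.TO Cfsg.Agent.BH.RO.Gn
open Cfsg.Agent.KM.Tor (Loc Pp El)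
open Cfsg.Agent.KM.Ht (Z0 Z0_le_T mem_Z0 cen_comm_Z0)
open Cfsg.Agent.DL Cfsg.Agent.DL.PP

theorem num {j e : ℕ} (he : 0 < e) : (∃ ρ σ, ¬ 3 ∣ ρ ∧ j * ρ = e * σ) ∨
    ∃ ρ σ i f, ¬ 3 ∣ ρ ∧ 0 < i ∧ j * ρ = f + e * σ ∧ f * 3 ^ i = e := by
  rcases eq_or_ne j 0 with rfl | hj
  · exact .inl ⟨1, 0, by decide, by simp⟩
  obtain ⟨a, j', h1, rfl⟩ := Nat.exists_eq_pow_mul_and_not_dvd hj 3 (by decide)
  obtain ⟨b, e', h2, rfl⟩ := Nat.exists_eq_pow_mul_and_not_dvd he.ne' 3 (by decide)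
  rcases le_or_gt b a with h | h
  · obtain ⟨c, rfl⟩ := Nat.exists_eq_add_of_le h
    exact .inl ⟨e', 3 ^ c * j', h2, by ring⟩
  obtain ⟨i, rfl⟩ := Nat.exists_eq_add_of_lt h
  have h3 : 1 < 3 ^ (i + 1) := Nat.one_lt_pow i.succ_ne_zero (by decide)
  obtain ⟨ρ, -, h4⟩ := Nat.exists_mul_mod_eq_one_of_coprime
    (((Nat.prime_three.coprime_iff_not_dvd.2 h1).symm).pow_right (i + 1)) h3
  have h5 := Nat.mod_add_div (j' * ρ) (3 ^ (i + 1))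
  rw [h4] at h5
  refine .inr ⟨e' * ρ, j' * ρ / 3 ^ (i + 1), i + 1, 3 ^ a * e', fun h6 => (Nat.prime_three.dvd_mul.1 h6).elim h2 fun h7 => ?_,
    i.succ_pos, ?_, by ring⟩
  · have h8 := h7.mul_left j'
    rw [← h5, pow_succ, mul_right_comm] at h8
    omega
  · calc _ = 3 ^ a * e' * (j' * ρ) := by ring
      _ = _ := by
        conv_lhs => rw [← h5]
        ring

variable {p : ℕ} [Fact p.Prime] {k : Type} [Field k] [CharP k p] {Y : Type} [Group Y] {N : Type} [Fintype N]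
  [DecidableEq N] {ρ : Y →* GL N k} {F : MulAut Y} {G : Subgroup Y} [IsAlgClosed k] (X : Datum p ρ F G)
  {S : Type} [Group S]

/-- the cocharacters of `Z0` -/
def La (A : Set Y) : AddSubgroup (X.R → ℤ) where
  carrier := {v | Pp X (X.Sz A) v}
  add_mem' h h' b hb := by rw [dotProduct_add, h b hb, h' b hb, add_zero]
  zero_mem' _ _ := dotProduct_zero _
  neg_mem' h b hb := by rw [dotProduct_neg, h b hb, neg_zero]

/-- `ψ` acts on `Z0` by the matrix `B` -/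
def Ac (A : Set Y) (ψ : MulAut Y) (B : Matrix X.R X.R ℤ) : Prop :=
  ∀ u ∈ La X A, B *ᵥ u ∈ La X A ∧ ∀ ζ, ψ (X.τ (coch u ζ)) = X.τ (coch (B *ᵥ u) ζ)

/-- `ψ` lifts `γ` and is a twisted power map on the torus -/
structure Lf (ι : S →* Y) (γ : MulAut S) (c : ℤ) (ψ : MulAut Y) : Prop where
  comm : ∀ y, ψ (F y) = F (ψ y)
  lift : ∀ s, ψ (ι s) = ι (γ s)
  tor : ∃ h ∈ G, ∀ t ∈ X.T, ψ t = h * t ^ c * h⁻¹

/-- inner-diagonal, or a root of `F ^ 2` -/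
def Dc (ι : S →* Y) (m : ℤ) (β : MulAut S) : Prop := ∃ n : ℕ, ¬ 3 ∣ n ∧ ∃ x ∈ GF F G,
  (∀ s, ι ((β ^ n) s) = x * ι s * x⁻¹) ∨ ∃ (i : ℕ) (r : ℤ) (ψ : MulAut Y), 0 < i ∧ 3 ∣ r - 1 ∧ r ^ 3 ^ i = m ^ 2 ∧
    Lf X ι (β ^ n) r ψ ∧ ∀ y ∈ G, (ψ ^ 3 ^ i) y = x * (F ^ 2) y * x⁻¹

variable {X} {A : Set Y} {ψ ψ' α β : MulAut Y} {B B' : Matrix X.R X.R ℤ} {u : X.R → ℤ} {c : ℤ}

theorem sat (hc : c ≠ 0) (h : c • u ∈ La X A) : u ∈ La X A := fun b hb => by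
  have h1 := h b hb
  rw [dotProduct_smul] at h1
  exact (smul_eq_zero.1 h1).resolve_left hc

theorem Ac.mul (h : Ac X A ψ B) (h' : Ac X A ψ' B') : Ac X A (ψ * ψ') (B * B') := fun u hu => by
  rw [← mulVec_mulVec]
  exact ⟨(h _ (h' u hu).1).1, fun ζ => by rw [MulAut.mul_apply, (h' u hu).2, (h _ (h' u hu).1).2]⟩

theorem Ac.pow (h : Ac X A ψ B) (n : ℕ) : Ac X A (ψ ^ n) (B ^ n) := by
  induction n with
  | zero => exact fun u hu => by rw [pow_zero, pow_zero, one_mulVec]; exact ⟨hu, fun _ => rfl⟩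
  | succ n ih => rw [pow_succ, pow_succ]; exact ih.mul h

theorem Ac.eq (h : Ac X A ψ B) (h' : Ac X A ψ' B') (e : ∀ z ∈ Z0 X A, ψ z = ψ' z) (hu : u ∈ La X A) :
    B *ᵥ u = B' *ᵥ u :=
  coch_inj (k := k) fun ζ => X.τ_inj (by rw [← (h u hu).2, ← (h' u hu).2, e _ (mem_Z0 hu ζ)])

theorem mem_La (h : ∀ ζ, X.τ (coch u ζ) ∈ Z0 X A) : u ∈ La X A := fun b hb => by
  obtain ⟨ζ, hζ⟩ := KM.Tor.exists_prim p k (n := p * (X.wt b ⬝ᵥ u).natAbs + 1) fun h1 =>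
    (Fact.out : p.Prime).one_lt.ne' (Nat.dvd_one.1 ((Nat.dvd_add_right (dvd_mul_right _ _)).1 h1))
  have h1 := (TO.X.Cn.χ_exp X b u ζ).1 ((KM.Ht.Sz_le_Z0 X A hb).2 _ (h ζ))
  rw [hζ, Int.natCast_dvd] at h1
  refine Int.natAbs_eq_zero.1 (Nat.eq_zero_of_dvd_of_lt h1 (Nat.lt_succ_of_le ?_))
  exact Nat.le_mul_of_pos_left _ (Fact.out : p.Prime).pos

theorem ac_F {A : Subgroup Y} (hA : A ≤ X.T) (hF : ∀ a ∈ A, F a = a) : Ac X A F X.Mx := fun u hu =>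
  have h1 : ∀ ζ, F (X.τ (coch u ζ)) = X.τ (coch (X.Mx *ᵥ u) ζ) := fun ζ => by rw [X.F_τ, mon_coch]
  ⟨mem_La fun ζ => h1 ζ ▸ (KM.Ht.boxP X A hA hF).1 _ (mem_Z0 hu ζ), h1⟩

theorem ac_conj {A : Subgroup Y} (hA : A ≤ X.T) {g : Y} (hg : g ∈ G) (hn : g ∈ normalizer (A : Set Y)) :
    ∃ w, Ac X A (MulAut.conj g) (X.Wm w) := by
  have h0 : ∀ a : A, g * a * g⁻¹ ∈ A := fun a => (mem_normalizer_iff.1 hn _).1 a.2
  obtain ⟨c, hc, m, ⟨w, hm⟩, e, rfl⟩ := X.exists_conj_form (s := fun a : A => (a : Y)) (t := fun a : A => g * a * g⁻¹)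
    (fun a => hA a.2) (fun a => hA (h0 a)) hg fun a => by group
  have h3 : c ∈ X.cen A := by
    refine X.cen_anti (fun x hx => ?_) (X.S_le_cen _ hc)
    refine ⟨⟨(c * m)⁻¹ * x * (c * m), (mem_normalizer_iff.1 hn _).2 ?_⟩, by group⟩
    rw [show c * m * ((c * m)⁻¹ * x * (c * m)) * (c * m)⁻¹ = x by group]
    exact hx
  refine ⟨w, fun u hu => ?_⟩
  have h1 : X.Wm w *ᵥ u ∈ La X A := fun b hb => by
    rw [dotProduct_mulVec, ← X.wt_act']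
    refine hu _ ⟨hb.1.act _, fun x hx => ?_⟩
    rw [← X.χ_rp hm _ (hA hx), ← CF.act_mul, mul_inv_cancel, CF.act_one, e ⟨x, hx⟩, mul_inv_cancel_right]
    exact hb.2 _ (h0 ⟨x, hx⟩)
  refine ⟨h1, fun ζ => ?_⟩
  rw [MulAut.conj_apply, show c * m * X.τ (coch u ζ) * (c * m)⁻¹ = c * (m * X.τ (coch u ζ) * m⁻¹) * c⁻¹ by group,
    X.conj_τ hm, mon_coch, cen_comm_Z0 X A h3 (mem_Z0 h1 ζ), mul_inv_cancel_right]

theorem Lf.ac {ι : S →* Y} {γ : MulAut S} (h : Lf X ι γ c ψ) (hc : ¬ 3 ∣ c) {Q : Subgroup S} [Finite S]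
    (hQ : Q.map ι ≤ X.T) (h3 : IsPGroup 3 Q) (hγ : ∀ s ∈ Q, γ s ∈ Q) :
    ∃ w, (∀ u ∈ La X (Q.map ι), X.Wm w *ᵥ u ∈ La X (Q.map ι)) ∧ Ac X (Q.map ι) ψ (c • X.Wm w) := by
  obtain ⟨g, hg, h1⟩ := h.tor
  have : Finite ↥((Q.map ι : Subgroup Y) : Set Y) := ((Set.toFinite (Q : Set S)).image ι).to_subtype
  obtain ⟨w, hw⟩ := ac_conj hQ hg (mem_normalizer_fintype (by
    rintro _ ⟨s, hs, rfl⟩
    obtain ⟨j, hj⟩ := h3 ⟨s, hs⟩
    obtain ⟨a, b, e⟩ := (Int.prime_three.coprime_iff_not_dvd.2 hc).pow_left (m := j)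
    have h4 : s ^ (3 : ℤ) ^ j = 1 := by exact_mod_cast (show s ^ 3 ^ j = 1 from congrArg Subtype.val hj)
    refine ⟨γ (s ^ b), hγ _ (zpow_mem hs b), ?_⟩
    rw [← h.lift, h1 _ (hQ ⟨_, zpow_mem hs b, rfl⟩), ← map_zpow, ← _root_.zpow_mul]
    conv_rhs => rw [← _root_.zpow_one s, ← e, _root_.zpow_add, mul_comm a, _root_.zpow_mul, h4, _root_.one_zpow, one_mul]))
  refine ⟨w, fun u hu => (hw u hu).1, fun u hu => ?_⟩
  rw [smul_mulVec]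
  exact ⟨zsmul_mem (hw u hu).1 c, fun ζ => by
    rw [h1 _ (X.τ_mem _), ← map_zpow, ← map_zpow, coch_zsmul, ← (hw u hu).2, MulAut.conj_apply]⟩

/-! ### the lifts -/

theorem au_div' (h : Au X α (B * B')) (h' : Au X β B') : Au X (α * β⁻¹) B where
  comm y := by
    rw [MulAut.mul_apply, MulAut.mul_apply, ← h.comm, show β⁻¹ (F y) = F (β⁻¹ y) from
      β.injective (by rw [h'.comm]; simp)]
  memG y := by rw [MulAut.mul_apply, h.memG, ← h'.memG]; simp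
  memT y := by rw [MulAut.mul_apply, h.memT, ← h'.memT]; simp
  memU y := by rw [MulAut.mul_apply, h.memU, ← h'.memU]; simp
  tau c := by
    obtain ⟨c', hc⟩ := (X.mem_T _).1 ((h'.memT (β⁻¹ (X.τ c))).1 (by simpa using X.τ_mem c))
    have h1 : mon B' c' = c := X.τ_inj (by rw [← h'.tau, hc]; simp)
    rw [MulAut.mul_apply, ← hc, h.tau, mon_mul, h1]

theorem exists_diag (hD : BoxDiag) (hZ : ∀ z, Cn G z → z = 1) (h : Au X α B) (h' : Au X β B) :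
    ∃ t ∈ GF F G, ∀ y ∈ G, α y = t * β y * t⁻¹ := by
  have h1 := au_div h h'
  obtain ⟨t, ht, h2⟩ := hD X _ h1
  have h3 := X.T_le_G ht
  refine ⟨t, ⟨h3, (inv_mul_eq_one.1 (hZ _ ⟨mul_mem (inv_mem h3) ((X.F_mem_G_iff _).2 h3), fun y hy => ?_⟩)).symm⟩,
    fun y hy => by rw [← h2 _ ((h'.memG y).2 hy)]; simp⟩
  obtain ⟨x, rfl⟩ := F.surjective y
  have h4 := h1.comm x
  rw [h2 _ hy, h2 _ ((X.F_mem_G_iff _).1 hy), map_mul, map_mul, map_inv] at h4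
  calc _ = t⁻¹ * (t * F x * t⁻¹) * F t := by group
    _ = _ := by rw [h4]; group

theorem conj_pow_au (h : Au X α B) {g : Y} (hg : g ∈ GF F G) (n : ℕ) :
    ∃ g' ∈ GF F G, (MulAut.conj g * α) ^ n = MulAut.conj g' * α ^ n := by
  induction n with
  | zero => exact ⟨1, one_mem _, by simp⟩
  | succ n ih =>
    obtain ⟨g', h3, h4⟩ := ih
    refine ⟨g * α g', mul_mem hg (KZ.Dat.au_GF h h3), MulEquiv.ext fun x => ?_⟩
    rw [pow_succ', h4, pow_succ' α]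
    simp only [MulAut.mul_apply, MulAut.conj_apply, map_mul, map_inv, _root_.mul_inv_rev, mul_assoc]

variable {ι : S →* Y} {γ : MulAut S} {g y : Y} {hy : y ∈ G} {hN : y⁻¹ * F y ∈ X.NN}

theorem lift_pow (h : ∀ s, ψ (ι s) = ι (γ s)) (n : ℕ) (s : S) : (ψ ^ n) (ι s) = ι ((γ ^ n) s) := by
  induction n generalizing s with
  | zero => rfl
  | succ n ih => rw [pow_succ, pow_succ, MulAut.mul_apply, MulAut.mul_apply, h, ih]

theorem lf_of {w : X.W} (hg : g ∈ GF F G) (h : Au X α (c • X.Wm w)) (e : ∀ s, ι (γ s) = g * α (ι s) * g⁻¹) :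
    Lf (X.conj hy hN) ι γ c (MulAut.conj g * α) where
  comm x := by
    rw [MulAut.mul_apply, MulAut.mul_apply, MulAut.conj_apply, MulAut.conj_apply, h.comm, map_mul, map_mul, map_inv,
      show F g = g from hg.2]
  lift s := (e s).symm
  tor := by
    obtain ⟨n, hn, -⟩ := X.exists_rp w
    refine ⟨g * α y * n * y⁻¹, mul_mem (mul_mem (mul_mem hg.1 ((h.memG y).2 hy)) hn.mem_G) (inv_mem hy), fun t ht => ?_⟩
    obtain ⟨x, rfl⟩ := ((X.conj hy hN).mem_T t).1 ht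
    rw [X.conj_tau, MulAut.mul_apply, MulAut.conj_apply, map_mul, map_mul, map_inv, h.tau, mon_zsmul, map_zpow,
      ← X.conj_τ hn, conj_zpow, conj_zpow]
    group

/-- **the dichotomy** -/
theorem dc_of (hD : BoxDiag) (hZ : ∀ z, Cn G z → z = 1) (hq : X.QS) (h3 : 3 ≠ p) (hι : ∀ s, ι s ∈ GF F G) {m : ℤ} {e j : ℕ}
    (he : 0 < e) (hm : m ^ 2 = (p : ℤ) ^ (2 * e)) (hM : X.Mx ^ 2 = m ^ 2 • 1) (hg : g ∈ GF F G) (h : Au X α B)
    (hB : B ^ 2 = (p : ℤ) ^ (2 * j) • 1) (e1 : ∀ s, ι (γ s) = g * α (ι s) * g⁻¹) : Dc (X.conj hy hN) ι m γ := by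
  have hF := KZ.Cl.au_F hq
  have k1 : ∀ n, B ^ (2 * n) = (p : ℤ) ^ (2 * (j * n)) • 1 := fun n => by
    rw [pow_mul, hB, smul_pow, one_pow, ← pow_mul, mul_assoc]
  have k2 : ∀ n, X.Mx ^ (2 * n) = (p : ℤ) ^ (2 * (e * n)) • 1 := fun n => by
    rw [pow_mul, hM, hm, smul_pow, one_pow, ← pow_mul, mul_assoc]
  have k3 : ∀ n, ∃ g' ∈ GF F G, ∀ s, ι ((γ ^ n) s) = g' * (α ^ n) (ι s) * g'⁻¹ := fun n =>
    let ⟨g', h1, h2⟩ := conj_pow_au h hg n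
    ⟨g', h1, fun s => by rw [← lift_pow (ψ := MulAut.conj g * α) fun s => (e1 s).symm, h2]; rfl⟩
  have k4 : ∀ n, ¬ 3 ∣ n → ¬ 3 ∣ 2 * n := fun n hn => by omega
  rcases num (j := j) he with ⟨n, n', h1, h2⟩ | ⟨n, n', i, f, h1, h2, h4, h5⟩
  · obtain ⟨g', h4, h5⟩ := k3 (2 * n)
    obtain ⟨t, ht, h6⟩ := exists_diag hD hZ (au_pow h (2 * n)) (by rw [k1, h2, ← k2]; exact au_pow hF (2 * n'))
    refine ⟨_, k4 n h1, g' * t, mul_mem h4 ht, .inl fun s => ?_⟩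
    rw [h5, h6 _ (hι s).1, Mk.pow_fix (hι s).2]
    group
  obtain ⟨g', h6, h7⟩ := k3 (2 * n)
  have h8 : Au X (α ^ (2 * n) * (F ^ (2 * n'))⁻¹) ((p : ℤ) ^ (2 * f) • X.Wm 1) := au_div' (by
    rw [X.Wm_one, k2, smul_mul_smul_comm, one_mul, ← pow_add, ← mul_add, ← h4, ← k1]
    exact au_pow h _) (au_pow hF (2 * n'))
  obtain ⟨g'', h9, k5⟩ := conj_pow_au h8 h6 (3 ^ i)
  have k6 : ((p : ℤ) ^ (2 * f)) ^ 3 ^ i = m ^ 2 := by rw [← pow_mul, mul_assoc, h5, hm]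
  obtain ⟨t, ht, k7⟩ := exists_diag hD hZ (au_pow h8 (3 ^ i)) (by
    rw [X.Wm_one, smul_pow, one_pow, k6, ← hM]
    exact au_pow hF 2)
  refine ⟨_, k4 n h1, g'' * t, mul_mem h9 ht, .inr ⟨i, _, _, h2, ?_, k6, lf_of h6 h8 fun s => ?_, fun x hx => ?_⟩⟩
  · have k8 : ¬ (3 : ℤ) ∣ (p : ℤ) ^ f := fun e => h3 ((Nat.prime_dvd_prime_iff_eq Nat.prime_three Fact.out).1
      (by exact_mod_cast Int.prime_three.dvd_of_dvd_pow e))
    rw [mul_comm, pow_mul, ← one_pow 2, sq_sub_sq]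
    generalize (p : ℤ) ^ f = a at k8
    rcases (by omega : 3 ∣ a + 1 ∨ 3 ∣ a - 1) with e | e
    · exact e.mul_right _
    · exact e.mul_left _
  · rw [h7, MulAut.mul_apply, show (F ^ (2 * n'))⁻¹ (ι s) = ι s from (F ^ (2 * n')).injective (by
      rw [Mk.pow_fix (hι s).2]; simp)]
  · rw [k5, MulAut.mul_apply, MulAut.conj_apply, k7 x hx]
    group

end Cfsg.Agent.BH.RO.Tt
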