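import Cfsg.Agent.BH.RowO.T0

/-!
# BH, `RowO` in cross characteristic: toral defect groups, the core (helper2)

`core` : the reduction to the lattice lemma.
-/

set_option autoImplicit false
set_option linter.unusedSectionVars false

namespace Cfsg.Agent.BH.RO.Tt

open Cfsg Subgroup Matrix Cfsg.Agent.TO Cfsg.Agent.BH.RO.Gn
open Cfsg.Agent.KM.Tor (Loc Pp El)
open Cfsg.Agent.KM.Tor.E6 (τ_eq_iff ord_ne)
open Cfsg.Agent.KM.Ht (Z0 Z0_le_T mem_Z0 cen_comm_Z0)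
open Cfsg.Agent.DL Cfsg.Agent.DL.PP

variable {p : ℕ} [Fact p.Prime] {k : Type} [Field k] [CharP k p] {Y : Type} [Group Y] {N : Type} [Fintype N]
  [DecidableEq N] {ρ : Y →* GL N k} {F : MulAut Y} {G : Subgroup Y} [IsAlgClosed k] (X : Datum p ρ F G)
  {S : Type} [Group S]

/-- an invariant form -/
noncomputable def Bf : Matrix X.R X.R ℤ := ∑ᶠ w : X.W, (X.Wm w)ᵀ * X.Wm w

theorem Bf_eq [Fintype X.W] : Bf X = ∑ w : X.W, (X.Wm w)ᵀ * X.Wm w := finsum_eq_sum_of_fintype _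

theorem Bf_sym : (Bf X)ᵀ = Bf X := by
  have := Fintype.ofFinite X.W
  simp only [Bf_eq, transpose_sum, transpose_mul, transpose_transpose]

theorem Bf_inv (v : X.W) : (X.Wm v)ᵀ * Bf X * X.Wm v = Bf X := by
  have := Fintype.ofFinite X.W
  rw [Bf_eq, Finset.mul_sum, Finset.sum_mul]
  refine Fintype.sum_equiv (Equiv.mulRight v) _ _ fun w => ?_
  rw [Equiv.coe_mulRight, X.Wm_mul, transpose_mul]
  simp only [Matrix.mul_assoc]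

theorem Bf_pos (v : X.R → ℤ) (hv : v ≠ 0) : 0 < v ⬝ᵥ Bf X *ᵥ v := by
  have := Fintype.ofFinite X.W
  have h1 : ∀ w, v ⬝ᵥ ((X.Wm w)ᵀ * X.Wm w) *ᵥ v = (X.Wm w *ᵥ v) ⬝ᵥ (X.Wm w *ᵥ v) := fun w => by
    rw [← mulVec_mulVec, dotProduct_mulVec, vecMul_transpose]
  have h2 : ∀ u : X.R → ℤ, 0 ≤ u ⬝ᵥ u := fun u => Finset.sum_nonneg fun i _ => mul_self_nonneg _
  rw [Bf_eq, sum_mulVec, dotProduct_sum]
  refine Finset.sum_pos' (fun w _ => h1 w ▸ h2 _) ⟨1, Finset.mem_univ _, ?_⟩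
  rw [h1, X.Wm_one, one_mulVec]
  exact (h2 v).lt_of_ne fun e => hv (dotProduct_self_eq_zero.1 e.symm)

/-- the elements of order three of `Z0 ^ F` -/
def Om (A : Set Y) : Set Y := {z | z ∈ Z0 X A ∧ F z = z ∧ z ^ 3 = 1}

/-- the situation -/
structure St (ι : S →* Y) (Q : Subgroup S) (Ls : AddSubgroup (X.R → ℤ)) (m ε : ℤ) (w : X.W) : Prop where
  ne : 3 ≠ p
  inj : Function.Injective ι
  mem : ∀ s, ι s ∈ GF F G
  tor : Q.map ι ≤ Z0 X (Q.map ι)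
  three : ∀ v, (3 : ℤ) • v ∈ Ls
  idx : ∀ u v, u ∉ Ls → v ∈ Ls ∨ u + v ∈ Ls ∨ u - v ∈ Ls
  rk : Fintype.card X.R ≤ 8
  rk' : Ls = ⊤ ∨ Fintype.card X.R ≤ 6
  st : ∀ v, ∀ u ∈ Ls, X.Wm v *ᵥ u ∈ Ls
  eps : ε = 1 ∨ ε = -1
  mx : X.Mx = m • ε • X.Wm w
  m3 : 3 ∣ m - 1
  m1 : m ≠ 1
  k0 : ∀ x ∈ GF F G, ∀ i : ℕ, x ^ 3 ^ i = 1 → ∃ δ ∈ Z0 X (Q.map ι), ∃ j : ℕ, δ ^ 3 ^ j = 1 ∧ δ * x ∈ ι.range
  dl : ∀ (j : ℕ) (ζ : kˣ), orderOf ζ = 3 ^ j → ∀ u ∈ Ls, ∀ β ∈ Ls, X.Mx *ᵥ u = u + (3 : ℤ) ^ j • β → X.τ (coch u ζ) ∈ ι.range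
  lf : ∀ γ, ∃ c ψ, ¬ 3 ∣ c ∧ Lf X ι γ c ψ
  dc : ∀ γ, Dc X ι m γ

variable {X} {ι : S →* Y} {Q E : Subgroup S} {Γ Γ₀ : Subgroup (MulAut S)} {Ls : AddSubgroup (X.R → ℤ)} {m ε : ℤ}
  {w : X.W} {y : S} {A : Set Y}

theorem iso_of {v : X.W} (hε : ε = 1 ∨ ε = -1) (h1 : ∀ u ∈ La X A, X.Wm v *ᵥ u ∈ La X A) (h2 : ∀ u ∈ Ls, X.Wm v *ᵥ u ∈ Ls) :
    Iso (Bf X) (La X A) Ls (ε • X.Wm v) where
  iso := by
    rw [transpose_smul, smul_mul_assoc, smul_mul_smul_comm, Bf_inv]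
    rcases hε with rfl | rfl <;> simp
  fin := ⟨2 * orderOf v, Nat.mul_pos two_pos (orderOf_pos v), by
    rw [smul_pow, show X.Wm v ^ (2 * orderOf v) = 1 from (map_pow X.WmHom v _).symm.trans (by
      rw [mul_comm, pow_mul, pow_orderOf_eq_one, one_pow, map_one]), pow_mul]
    rcases hε with rfl | rfl <;> simp⟩
  mem u hu := by rw [smul_mulVec]; exact zsmul_mem (h1 u hu) ε
  mem' u hu := by rw [smul_mulVec]; exact zsmul_mem (h2 u hu) ε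

theorem exists_three {ζ : kˣ} (hζ : orderOf ζ = 3) {z : Y} (hz : z ∈ Z0 X A) (h3 : z ^ 3 = 1) :
    ∃ v ∈ La X A, z = X.τ (coch v ζ) := by
  obtain ⟨v, ξ, h1, rfl⟩ := KM.Tor.BT.exists_of_Z0 hz
  obtain ⟨η, i, j, rfl, rfl⟩ := KM.Tor.E6.com X ξ ζ
  have h4 : X.τ (coch ((3 * i) • v) η) = X.τ (coch 0 η) := by
    rw [coch_zsmul, mul_comm, _root_.zpow_mul, map_zpow, map_zpow, show coch 0 η = 1 from funext fun _ => zpow_zero _, map_one]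
    exact_mod_cast h3
  obtain ⟨κ, hκ⟩ := τ_eq_iff.1 h4
  obtain ⟨b, hb⟩ : (orderOf η : ℤ) ∣ j * 3 := by
    rw [orderOf_dvd_iff_zpow_eq_one, _root_.zpow_mul]
    exact_mod_cast hζ ▸ pow_orderOf_eq_one (η ^ j)
  have h5 : ¬ 3 ∣ b := fun ⟨c, hc⟩ => by
    rw [orderOf_dvd_iff_zpow_eq_one.1 (⟨c, by rw [hc] at hb; linarith⟩ : (orderOf η : ℤ) ∣ j), orderOf_one] at hζ
    omega
  obtain ⟨a, c, e⟩ := Int.prime_three.coprime_iff_not_dvd.2 h5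
  rw [zero_add] at hκ
  refine ⟨c • κ, zsmul_mem (sat (ord_ne X η) (hκ ▸ zsmul_mem (show v ∈ La X A from h1) _)) c, ?_⟩
  rw [← coch_zsmul, ← coch_zsmul, τ_eq_iff]
  refine ⟨a • κ, smul_right_injective _ (show (3 : ℤ) ≠ 0 by decide) ?_⟩
  simp only [smul_add, smul_smul]
  rw [hκ, ← add_smul]
  congr 1
  linear_combination (-c) * hb - (orderOf η : ℤ) * e

namespace St

variable (h : St X ι Q Ls m ε w)
include h

theorem leT : Q.map ι ≤ X.T := h.tor.trans (Z0_le_T _ _)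

theorem acF : Ac X (Q.map ι) F (m • ε • X.Wm w) := h.mx ▸ ac_F h.leT fun _ ⟨s, _, e⟩ => e ▸ (h.mem s).2

theorem m0 : m ≠ 0 := fun e => by have := h.m3; omega

theorem om_le : ∃ φ : (X.R → ZMod 3) → Y, Om X (Q.map ι) ⊆ φ '' K3 (La X (Q.map ι)) (ε • X.Wm w) := by
  obtain ⟨ζ, hζ⟩ := KM.Tor.exists_prim p k (n := 3) fun e =>
    h.ne ((Nat.prime_dvd_prime_iff_eq Fact.out Nat.prime_three).1 e).symm
  refine ⟨fun x => X.τ (coch (fun i => ((x i).val : ℤ)) ζ), fun z ⟨h1, h2, h3⟩ => ?_⟩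
  obtain ⟨v, hv, rfl⟩ := exists_three hζ h1 h3
  rw [(h.acF v hv).2, τ_eq_iff, hζ, smul_mulVec] at h2
  obtain ⟨κ, h2⟩ := h2
  obtain ⟨c, hc⟩ := h.m3
  refine ⟨_, ⟨v, hv, ⟨κ - c • (ε • X.Wm w) *ᵥ v, ?_⟩, rfl⟩, τ_eq_iff.2 ⟨fun i => -(v i / 3), funext fun i => ?_⟩⟩
  · rw [smul_sub, ← add_sub_assoc, smul_smul, ← hc, show v + (3 : ℤ) • κ = _ from h2.symm, sub_smul, one_smul, sub_sub_cancel]
  · simp only [hζ, ZMod.val_intCast, Pi.add_apply, Pi.smul_apply, smul_eq_mul]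
    omega

variable (hL : Loc 3 ⊤ Q y)
include hL

theorem el : ∀ z ∈ (Q.map ι : Set Y), ∃ j, z ^ 3 ^ j = 1 := fun _ ⟨s, hs, e⟩ =>
  let ⟨j, hj⟩ := hL.pg ⟨s, hs⟩
  ⟨j, by rw [← e, ← map_pow, show s ^ 3 ^ j = 1 from congrArg Subtype.val hj, map_one]⟩

theorem y_comm {z : Y} (hz : z ∈ Z0 X (Q.map ι)) : ι y * z = z * ι y :=
  cen_comm_Z0 X _ (TO.X.Cn.ppr_ord X Nat.prime_three h.leT (h.el hL) (h.mem y).1
    (fun _ ⟨s, hs, e⟩ => by rw [← e, ← map_mul, hL.comm s hs, map_mul]) (by rw [orderOf_injective ι h.inj]; exact hL.reg)) hz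

theorem mem_Q {s : S} {j : ℕ} (h1 : ι s ^ 3 ^ j = 1) (h2 : ι s * ι y = ι y * ι s)
    (h3 : ι s ∈ normalizer ((Q.map ι : Subgroup Y) : Set Y)) : s ∈ Q :=
  loc_mem hL trivial (h.inj (by rw [map_pow, h1, map_one])) (h.inj (by rw [map_mul, h2, map_mul]))
    (mem_normalizer_iff.2 fun a => by
      rw [← mem_map_iff_mem h.inj, mem_normalizer_iff.1 h3, ← map_inv, ← map_mul, ← map_mul, mem_map_iff_mem h.inj])

theorem nrm_Z {z : Y} (hz : z ∈ Z0 X (Q.map ι)) : z ∈ normalizer ((Q.map ι : Subgroup Y) : Set Y) :=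
  centralizer_le_normalizer _ fun _ ha => X.T_comm (h.leT ha) (Z0_le_T _ _ hz)

/-- the elements which fix `y` and normalize `Q` -/
theorem pow_mem_Z {x : Y} (hx : x ∈ GF F G) (h2 : x * ι y = ι y * x) (h3 : x ∈ normalizer ((Q.map ι : Subgroup Y) : Set Y)) :
    ∃ o, ¬ 3 ∣ o ∧ x ^ o ∈ Z0 X (Q.map ι) := by
  obtain ⟨i, o, ho, e⟩ := Nat.exists_eq_pow_mul_and_not_dvd (X.amb.isOfFinOrder x).orderOf_pos.ne' 3 (by decide)
  refine ⟨o, ho, ?_⟩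
  have k1 : (x ^ o) ^ 3 ^ i = 1 := by rw [← pow_mul, mul_comm, ← e, pow_orderOf_eq_one]
  have k2 : x ^ o * ι y = ι y * x ^ o := (show Commute x (ι y) from h2).pow_left o
  have k3 := pow_mem h3 o
  have k4 := pow_mem hx o
  generalize x ^ o = x at k1 k2 k3 k4
  obtain ⟨δ, a1, j, a2, s, a3⟩ := h.k0 x k4 i k1
  let P : Subgroup Y :=
    { carrier := {z | z ∈ Z0 X (Q.map ι) ∧ z ^ 3 ^ j = 1}
      one_mem' := ⟨one_mem _, one_pow _⟩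
      mul_mem' := fun ha hb => ⟨mul_mem ha.1 hb.1, by
        rw [Commute.mul_pow (X.T_comm (Z0_le_T _ _ ha.1) (Z0_le_T _ _ hb.1)), ha.2, hb.2, mul_one]⟩
      inv_mem' := fun ha => ⟨inv_mem ha.1, by rw [inv_pow, ha.2, inv_one]⟩ }
  have b1 : ∀ g ∈ G, g ∈ normalizer ((Q.map ι : Subgroup Y) : Set Y) → ∀ z ∈ P, g * z * g⁻¹ ∈ P := fun g hg hn z hz =>
    ⟨KM.Ht.conj_mem_Z0 X h.leT hg hn hz.1, by rw [conj_pow, hz.2, mul_one, mul_inv_cancel]⟩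
  have b2 : IsPGroup 3 (zpowers x) := fun ⟨_, n, e⟩ => ⟨i, Subtype.ext (by
    simp only [coe_pow, coe_one, ← e]
    rw [← _root_.zpow_natCast, ← _root_.zpow_mul, mul_comm, _root_.zpow_mul, _root_.zpow_natCast, k1, _root_.one_zpow])⟩
  obtain ⟨n, hn⟩ := b2.to_sup_of_normal_right' (K := P) (fun z => ⟨j, Subtype.ext z.2.2⟩)
    (zpowers_le.2 (mem_normalizer_iff.2 fun z => ⟨b1 x k4.1 k3 z, fun hz => by
      simpa [mul_assoc] using b1 _ (inv_mem k4.1) (inv_mem k3) _ hz⟩))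
    ⟨δ * x, mul_mem (mem_sup_right ⟨a1, a2⟩) (mem_sup_left (mem_zpowers x))⟩
  have b3 : s ∈ Q := h.mem_Q hL (j := n) (a3 ▸ congrArg Subtype.val hn)
    (by rw [a3, mul_assoc, k2, ← mul_assoc, ← h.y_comm hL a1, mul_assoc]) (a3 ▸ mul_mem (h.nrm_Z hL a1) k3)
  exact (Subgroup.mul_mem_cancel_left _ a1).1 (a3 ▸ h.tor ⟨s, b3, rfl⟩)

end St

theorem conj_pow_ι {γ : MulAut S} {x : Y} (h : ∀ s, ι (γ s) = x * ι s * x⁻¹) (n : ℕ) (s : S) :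
    ι ((γ ^ n) s) = x ^ n * ι s * (x ^ n)⁻¹ := by
  rw [← lift_pow (ψ := MulAut.conj x) fun s => (h s).symm, ← map_pow, MulAut.conj_apply]

/-- **the core** -/
theorem core [Finite S] (hT : BoxTL) (hV : BoxMv) (h : St X ι Q Ls m ε w) (H : Sh 3 Q E Γ Γ₀) :
    Ls ≠ ⊤ ∧ 1 + ε • X.Wm w + (ε • X.Wm w) ^ 2 = 0 ∧ (Om X (Q.map ι)).Finite ∧ (Om X (Q.map ι)).ncard ≤ 27 := by
  have := Fact.mk Nat.prime_three
  obtain ⟨-, -, ⟨u, hu, v, hv, u3, v3, huv⟩, h4, -, β, b1, b2, ⟨j, b3⟩, y, hL, b4⟩ := hV 3 S Q E Γ Γ₀ H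
  have b5 : ∀ n, ¬ 3 ∣ n → β ^ n ∈ Γ ∧ β ^ n ∉ Γ₀ ∧ PElt 3 (β ^ n) := fun n hn =>
    ⟨pow_mem b1 n, fun e => b2 (mem_of_pow (j := j) Nat.prime_three hn e (by rw [← b3, pow_orderOf_eq_one]; exact one_mem _)),
      let ⟨i, _, hi⟩ := (Nat.dvd_prime_pow Nat.prime_three).1 (b3 ▸ orderOf_pow_dvd n); ⟨i, hi⟩⟩
  have b6 : ∀ n x, (∀ s, ι ((β ^ n) s) = x * ι s * x⁻¹) → x * ι y = ι y * x ∧
      x ∈ normalizer ((Q.map ι : Subgroup Y) : Set Y) := fun n x hx => by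
    have : Finite ↥((Q.map ι : Subgroup Y) : Set Y) := ((Set.toFinite (Q : Set S)).image ι).to_subtype
    refine ⟨by rw [← mul_inv_eq_iff_eq_mul, ← hx, Mk.pow_fix b4], mem_normalizer_fintype ?_⟩
    rintro _ ⟨s, hs, rfl⟩
    exact ⟨_, (H.nrm _ (pow_mem b1 n) s).2 hs, hx s⟩
  obtain ⟨n, hn, x, hx, c1 | ⟨i, r, ψ, c1, c2, c3, c4, c5⟩⟩ := h.dc β
  · obtain ⟨o, ho, c2⟩ := h.pow_mem_Z hL hx (b6 n x c1).1 (b6 n x c1).2
    obtain ⟨c3, c4, c5⟩ := b5 (n * o) fun e => (Nat.prime_three.dvd_mul.1 e).elim hn ho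
    obtain ⟨a, ha, c6⟩ := (h4 _ c3 c4 c5).1
    refine (c6 (h.inj ?_)).elim
    rw [pow_mul, conj_pow_ι c1, X.T_comm (Z0_le_T _ _ c2) (h.leT ⟨a, ha, rfl⟩), mul_inv_cancel_right]
  obtain ⟨d1, d2, d3⟩ := b5 n hn
  obtain ⟨-, d4, d5⟩ := h4 _ d1 d2 d3
  have r3 : ¬ 3 ∣ r := by omega
  obtain ⟨U, U1, U2⟩ := c4.ac r3 h.leT H.pg fun s hs => (H.nrm _ d1 s).2 hs
  have x1 : ∀ s, ι ((β ^ (n * 3 ^ i)) s) = x * ι s * x⁻¹ := fun s => by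
    rw [pow_mul, ← lift_pow c4.lift, c5 _ (h.mem s).1, Mk.pow_fix (h.mem s).2]
  have x2 : x ∈ X.cen (Q.map ι) := by
    obtain ⟨o, ho, c6⟩ := h.pow_mem_Z hL hx (b6 _ x x1).1 (b6 _ x x1).2
    obtain ⟨i', c7⟩ := TO.X.Cn.ppr X Nat.prime_three h.leT (h.el hL) hx.1 (by
      rintro _ ⟨s, hs, rfl⟩
      obtain ⟨i, rfl⟩ := Nat.exists_eq_succ_of_ne_zero c1.ne'
      rw [mul_inv_eq_iff_eq_mul.1 (x1 s).symm, pow_mul, pow_succ', pow_mul, Mk.pow_fix (d4 s hs)])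
    exact mem_of_pow Nat.prime_three ho (X.T_le_cen _ (Z0_le_T _ _ c6)) c7
  have W1 : ∀ u ∈ La X (Q.map ι), X.Wm w *ᵥ u ∈ La X (Q.map ι) := fun u hu => by
    have h1 := (h.acF u hu).1
    rw [smul_smul, smul_mulVec] at h1
    exact sat (mul_ne_zero h.m0 (by rcases h.eps with e | e <;> omega)) h1
  have com : ∀ {c : ℤ} {γ ψ} {V : X.W}, ¬ 3 ∣ c → Lf X ι γ c ψ → Ac X (Q.map ι) ψ (c • X.Wm V) → ∀ u ∈ La X (Q.map ι),
      X.Wm V *ᵥ ((ε • X.Wm w) *ᵥ u) = (ε • X.Wm w) *ᵥ (X.Wm V *ᵥ u) := fun {c _ _ V} hc e1 e2 u hu => by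
    have h1 := (e2.mul h.acF).eq (h.acF.mul e2) (fun z _ => e1.comm z) hu
    rw [smul_mul_smul_comm, smul_mul_smul_comm, smul_mulVec, smul_mulVec, mul_comm m] at h1
    rw [mulVec_mulVec, mulVec_mulVec]
    exact smul_right_injective _ (mul_ne_zero (show c ≠ 0 by omega) h.m0) h1
  have L : Lat (Bf X) (La X (Q.map ι)) Ls (ε • X.Wm w) (X.Wm U) m r i :=
    { sym := Bf_sym X, pos := Bf_pos X, sat := fun _ hc _ => sat hc, three := h.three, idx := h.idx, rk := h.rk, rk' := h.rk'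
      iW := iso_of h.eps W1 (h.st w)
      iU := one_smul ℤ (X.Wm U) ▸ iso_of (.inl rfl) U1 (h.st U)
      com := com r3 c4 U2
      pos' := c1
      pow := fun u hu => by
        have h1 := (U2.pow (3 ^ i)).eq (h.acF.pow 2) (fun z hz => by
          obtain ⟨a, ξ, ha, rfl⟩ := KM.Tor.BT.exists_of_Z0 hz
          rw [c5 _ (X.T_le_G (X.τ_mem _)), ((h.acF.pow 2) a ha).2,
            cen_comm_Z0 X _ x2 (mem_Z0 ((h.acF.pow 2) a ha).1 ξ), mul_inv_cancel_right]) hu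
        rw [smul_pow, smul_pow m, c3, smul_mulVec, smul_mulVec] at h1
        exact smul_right_injective _ (pow_ne_zero 2 h.m0) h1
      m3 := h.m3, m1 := h.m1, r3 := c2, rm := c3
      orb := fun a u hu hu' b hb e => by
        obtain ⟨ζ, hζ⟩ := KM.Tor.exists_prim p k (n := 3 ^ a) fun e => h.ne ((Nat.prime_dvd_prime_iff_eq Fact.out
          Nat.prime_three).1 ((Fact.out : p.Prime).dvd_of_dvd_pow e)).symm
        obtain ⟨t, ht⟩ := h.dl a ζ hζ u hu' b hb (by rw [h.mx, smul_mulVec, e])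
        have t1 : ι t ∈ Z0 X (Q.map ι) := ht ▸ mem_Z0 hu ζ
        obtain ⟨γ, g1, g2⟩ := d5 t (h.mem_Q hL (j := a) (by
          rw [ht, ← map_pow, ← map_pow, ← hζ, pow_orderOf_eq_one, map_one, map_one]) (h.y_comm hL t1).symm (h.nrm_Z hL t1))
        obtain ⟨c, ψ', g3, g4⟩ := h.lf γ
        obtain ⟨V, V1, V2⟩ := g4.ac g3 h.leT H.pg fun s hs => (H.nrm _ g1 s).2 hs
        refine ⟨X.Wm V, one_smul ℤ (X.Wm V) ▸ iso_of (.inl rfl) V1 (h.st V), com g3 g4 V2, ?_⟩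
        have g5 := congrArg ι g2
        rw [← c4.lift, ← g4.lift, ht, (V2 u hu).2, (U2 _ (V2 u hu).1).2, τ_eq_iff, hζ] at g5
        obtain ⟨κ, g5⟩ := g5
        obtain ⟨s, t, g6⟩ := (Int.prime_three.coprime_iff_not_dvd.2 g3).pow_left (m := a)
        simp only [smul_mulVec, mulVec_smul, Nat.cast_pow, Nat.cast_ofNat] at g5
        generalize X.Wm V *ᵥ u = a2 at g5 ⊢
        generalize X.Wm U *ᵥ a2 = a1 at g5 ⊢
        refine ⟨t • κ + s • (r • a1 - a2), ?_⟩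
        ext i
        have g7 := congrFun g5 i
        simp only [Pi.add_apply, Pi.smul_apply, Pi.sub_apply, smul_eq_mul] at g7 ⊢
        linear_combination t * g7 - (r * a1 i - a2 i) * g6 }
  obtain ⟨φ, hφ⟩ := h.om_le
  have f1 := (Set.toFinite (K3 (La X (Q.map ι)) (ε • X.Wm w))).image φ
  have f2 := (Set.ncard_le_ncard hφ f1).trans (Set.ncard_image_le (Set.toFinite _))
  refine (hT _ _ _ _ _ _ _ _ _ L).elim (fun e => absurd (f2.trans e) (not_le.2 ?_)) fun e =>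
    ⟨e.1, e.2.1, f1.subset hφ, f2.trans e.2.2⟩
  have f3 : ∀ s ∈ Q, s ^ 3 = 1 → ι s ∈ Om X (Q.map ι) := fun s hs e =>
    ⟨h.tor ⟨s, hs, rfl⟩, (h.mem s).2, by rw [← map_pow, e, map_one]⟩
  calc 3 = (ι '' (zpowers u : Set S)).ncard := by
        rw [Set.ncard_image_of_injective _ h.inj, ← Nat.card_coe_set_eq, SetLike.coe_sort_coe, Nat.card_zpowers, u3]
    _ < _ := Set.ncard_lt_ncard ⟨?_, fun e => ?_⟩ (f1.subset hφ)
  · rintro _ ⟨_, ⟨a, rfl⟩, rfl⟩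
    refine f3 _ (zpow_mem hu a) ?_
    rw [← _root_.zpow_natCast, ← _root_.zpow_mul, mul_comm, _root_.zpow_mul, _root_.zpow_natCast, ← u3, pow_orderOf_eq_one,
      _root_.one_zpow]
  · obtain ⟨a, ha, e'⟩ := e (f3 v hv (v3 ▸ pow_orderOf_eq_one v))
    exact huv (h.inj e' ▸ ha)

end Cfsg.Agent.BH.RO.Tt
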