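import Cfsg.Agent.BH.RowO.T1
import Cfsg.Agent.KM.Tor.LN

/-!
# BH, `RowO` in cross characteristic: toral defect groups (helper2)

`boxT1_of`, `boxT6_of`.
-/

set_option autoImplicit false
set_option linter.unusedSectionVars false

namespace Cfsg.Agent.BH.RO

open Cfsg Subgroup Matrix Cfsg.Agent.TO Cfsg.Agent.BH.RO.Gn
open Cfsg.Agent.KM.Tor (Loc Dl LN)
open Cfsg.Agent.KM.Tor.E6 (τ_eq_iff fix_iff ord_ne of_cop three_mem sub_mem_Q Wm_mem)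
open Cfsg.Agent.KM.Ht (Z0 Z0_le_T mem_Z0)
open Cfsg.Agent.DL Cfsg.Agent.DL.PP Cfsg.Agent.KZ.DatX Cfsg.Agent.Nodes.RGDChev Cfsg.Lie

namespace Tt

section

variable {p : ℕ} [Fact p.Prime] {k : Type} [Field k] [CharP k p] {Y : Type} [Group Y] {N : Type} [Fintype N]
  [DecidableEq N] {ρ : Y →* GL N k} {F : MulAut Y} {G : Subgroup Y} [IsAlgClosed k] {X : Datum p ρ F G}

/-- an element of the torus outside of `H` -/
theorem exists_out {H : Subgroup Y} (h3 : 3 ≠ p) (hN : LN X) (hD : Dl X H) {m n : ℤ} {w : X.W} (hM : X.Mx = m • X.Wm w)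
    (hm : 3 ∣ m - 1) {A : Set Y} {u v : X.R → ℤ} (hu : u ∈ La X A) (hv : v ∉ KM.Tor.E6.Q X) {a : ℕ} (hn : ¬ 3 ∣ n)
    (e : X.Mx *ᵥ u = u + ((3 : ℤ) ^ (a + 1) * n) • v) : ∃ δ ∈ Z0 X A, F δ = δ ∧ δ ^ 3 ^ (a + 1) = 1 ∧ δ ∉ H := by
  obtain ⟨ζ, hζ⟩ := KM.Tor.exists_prim p k (n := 3 ^ (a + 1)) fun e => h3 ((Nat.prime_dvd_prime_iff_eq Fact.out
    Nat.prime_three).1 ((Fact.out : p.Prime).dvd_of_dvd_pow e)).symm
  refine ⟨_, mem_Z0 hu ζ, fix_iff.2 ⟨n • v, by rw [e, hζ, mul_smul, Nat.cast_pow, Nat.cast_ofNat]⟩, by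
    rw [← map_pow, ← map_pow, ← hζ, pow_orderOf_eq_one, map_one, map_one], fun h => hv ?_⟩
  obtain ⟨u₀, β, ξ, -, k8, k9, e'⟩ := hD.ex _ (X.τ_mem _) h
  obtain ⟨η, i, j, rfl, rfl⟩ := KM.Tor.E6.com X ζ ξ
  rw [← coch_zsmul, ← coch_zsmul] at e'
  obtain ⟨κ, hκ⟩ := τ_eq_iff.1 e'
  have h0 : ∀ j : ℤ, (orderOf η : ℤ) ∣ j * orderOf (η ^ j) := fun j => by
    rw [orderOf_dvd_iff_zpow_eq_one, _root_.zpow_mul, _root_.zpow_natCast, pow_orderOf_eq_one]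
  obtain ⟨b, hb⟩ := h0 j
  obtain ⟨c, hc⟩ := h0 i
  rw [hζ, Nat.cast_pow, Nat.cast_ofNat] at hc
  have h1 : ¬ 3 ∣ c := fun ⟨c', h1⟩ => by
    have h2 : (η ^ i) ^ 3 ^ a = 1 := by
      rw [← _root_.zpow_natCast, ← _root_.zpow_mul, ← orderOf_dvd_iff_zpow_eq_one, Nat.cast_pow, Nat.cast_ofNat]
      exact ⟨c', by rw [h1, pow_succ] at hc; linarith⟩
    have h4 := (Nat.pow_dvd_pow_iff_le_right (by decide)).1 (hζ ▸ orderOf_dvd_of_pow_eq_one h2)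
    omega
  have h2 : (c * n) • v = b • β + (X.Mx *ᵥ κ - κ) := smul_right_injective _ (ord_ne X η) (by
    have h4 := congrArg (X.Mx *ᵥ ·) hκ
    simp only [mulVec_add, mulVec_smul, e, k9] at h4
    ext r
    have h5 := congrFun h4 r
    have h6 := congrFun hκ r
    simp only [Pi.add_apply, Pi.smul_apply, Pi.sub_apply, smul_eq_mul] at h5 h6 ⊢
    linear_combination h5 - h6 - n * v r * hc + β r * hb)
  refine of_cop hN (fun h4 => (Int.prime_three.dvd_or_dvd h4).elim h1 hn) (h2 ▸ add_mem ((KM.Tor.E6.Q X).smul_mem b k8) ?_)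
  convert add_mem ((KM.Tor.E6.Q X).smul_mem m (sub_mem_Q w κ)) (three_mem hN hm κ) using 1
  rw [hM, smul_mulVec]
  module

theorem count {S : Type} [Group S] [Finite S] {ι : S →* Y} {Q : Subgroup S} {Ls : AddSubgroup (X.R → ℤ)} {m ε : ℤ} {w : X.W}
    (h : St X ι Q Ls m ε w) (h1 : (Om X (Q.map ι)).Finite) (h2 : (Om X (Q.map ι)).ncard ≤ 27) {δ : Y}
    (h3 : δ ∈ Om X (Q.map ι)) (h4 : δ ∉ ι.range) : Rk2 3 Q := by
  have h5 : ∀ i j : Fin 3, (δ ^ (i : ℕ))⁻¹ * δ ^ (j : ℕ) ∈ ι.range → i = j := fun i j e => by_contra fun hn => h4 (by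
    rw [← _root_.zpow_natCast, ← _root_.zpow_natCast, ← _root_.zpow_neg, ← _root_.zpow_add] at e
    have h6 := zpow_mem e (-(i : ℤ) + j)
    rw [← _root_.zpow_mul, zpow_eq_zpow_emod _ (show δ ^ (3 : ℤ) = 1 by exact_mod_cast h3.2.2),
      show (-((i : ℕ) : ℤ) + (j : ℕ)) * (-((i : ℕ) : ℤ) + (j : ℕ)) % 3 = 1 by
        clear e h6; revert i j; decide, _root_.zpow_one] at h6
    exact h6)
  have h6 := Set.ncard_le_ncard_of_injOn (s := (Set.univ : Set (Fin 3)) ×ˢ {u | u ∈ Q ∧ u ^ 3 = 1})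
    (fun x => δ ^ (x.1 : ℕ) * ι x.2) (fun x hx => ?_) (fun x _ y _ e => ?_) h1
  · rw [Set.ncard_prod, Set.ncard_univ, Nat.card_fin] at h6
    unfold Rk2
    omega
  · have h7 := h.tor ⟨_, hx.2.1, rfl⟩
    refine ⟨mul_mem (pow_mem h3.1 _) h7, by rw [map_mul, map_pow, h3.2.1, show F (ι x.2) = ι x.2 from (h.mem _).2], ?_⟩
    rw [Commute.mul_pow (X.T_comm (Z0_le_T _ _ (pow_mem h3.1 _)) (Z0_le_T _ _ h7)), ← pow_mul, mul_comm, pow_mul, h3.2.2,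
      one_pow, ← map_pow, hx.2.2, map_one, mul_one]
  · have h7 := h5 x.1 y.1 ⟨x.2 * y.2⁻¹, by
      rw [map_mul, map_inv, mul_inv_eq_iff_eq_mul, mul_assoc, eq_inv_mul_iff_mul_eq]
      exact e⟩
    simp only [h7] at e
    exact Prod.ext h7 (h.inj (mul_left_cancel e))

theorem core6 (hT : BoxTL) (hV : BoxMv) {S : Type} [Group S] [Finite S] {ι : S →* Y} {Q E : Subgroup S}
    {Γ Γ₀ : Subgroup (MulAut S)} (H : Sh 3 Q E Γ Γ₀) {m : ℤ} {w : X.W} {v : X.R → ℤ} (h3 : 3 ≠ p)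
    (hι : Function.Injective ι) (hι' : ∀ s, ι s ∈ GF F G) (hQ : Q.map ι ≤ Z0 X (Q.map ι)) (hL : LN X)
    (hc : Fintype.card X.R ≤ 6) (h4 : X.Mx = m • X.Wm w) (m3 : 3 ∣ m - 1) (h2 : 1 < |m|) (hv : v ∈ La X (Q.map ι))
    (h5 : v ∉ KM.Tor.E6.Q X) (h7 : ∀ γ, ∃ c ψ, ¬ 3 ∣ c ∧ Lf X ι γ c ψ) (h8 : ∀ γ, Dc X ι m γ) (h9 : Dl X ι.range)
    (hi : ∀ δ ∈ GF F G, δ ∉ ι.range → ∀ x ∈ GF F G, ∃ i : ℤ, δ ^ i * x ∈ ι.range) : Rk2 3 Q := by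
  have h6 := ac_F (hQ.trans (Z0_le_T _ _)) fun _ ⟨a, _, e⟩ => e ▸ (hι' a).2
  obtain ⟨δ, a1, a2, j, a3, a4⟩ : ∃ δ ∈ Z0 X (Q.map ι), F δ = δ ∧ ∃ j : ℕ, δ ^ 3 ^ j = 1 ∧ δ ∉ ι.range := by
    have b1 : m ^ orderOf w - 1 ≠ 0 := fun h => by
      have := one_lt_pow₀ h2 (orderOf_pos w).ne'
      rw [← abs_pow, sub_eq_zero.1 h, abs_one] at this
      exact lt_irrefl _ this
    obtain ⟨a, c, b2, b3⟩ := WfDvdMonoid.max_power_factor b1 Int.prime_three.irreducible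
    obtain _ | a := a
    · exact absurd (m3.trans (sub_one_dvd_pow_sub_one m _)) (by rwa [b3, pow_zero, one_mul])
    obtain ⟨δ, c1, c2, c3, c4⟩ := exists_out h3 hL h9 h4 m3 (u := (∑ i ∈ Finset.range (orderOf w), X.Mx ^ i) *ᵥ v) (by
      rw [sum_mulVec]
      exact sum_mem fun i _ => (h6.pow i v hv).1) h5 b2 (by
      have b4 := congrArg (· *ᵥ v) (mul_geom_sum X.Mx (orderOf w))
      simp only [sub_mul, one_mul, sub_mulVec, one_mulVec, ← mulVec_mulVec] at b4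
      rw [← b3, ← sub_eq_iff_eq_add', b4, h4, smul_pow, show X.Wm w ^ orderOf w = 1 from
        (map_pow X.WmHom w _).symm.trans (by rw [pow_orderOf_eq_one, map_one]), smul_mulVec, one_mulVec, sub_smul, one_smul])
    exact ⟨δ, c1, c2, _, c3, c4⟩
  have St : St X ι Q (KM.Tor.E6.Q X).toAddSubgroup m 1 w :=
    ⟨h3, hι, hι', hQ, hL.three, hL.idx, by omega, .inr hc, fun a _ h => Wm_mem a h, .inl rfl, by rwa [one_smul], m3,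
      fun h => by simp [h] at h2, fun x hx _ _ =>
        let ⟨i, hi⟩ := hi δ ⟨X.T_le_G (Z0_le_T _ _ a1), a2⟩ a4 x hx
        ⟨δ ^ i, zpow_mem a1 i, j, by rw [← _root_.zpow_natCast, ← _root_.zpow_mul, mul_comm, _root_.zpow_mul,
          _root_.zpow_natCast, a3, _root_.one_zpow], hi⟩,
      fun j ζ hζ u hu β hβ e => h9.mem u β ζ hu hβ (by rw [e, hζ, Nat.cast_pow, Nat.cast_ofNat]), h7, h8⟩
  obtain ⟨-, b1, b2, b3⟩ := core hT hV St H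
  rw [one_smul] at b1
  obtain ⟨c, hc⟩ := m3
  obtain ⟨δ, c1, c2, c3, c4⟩ := exists_out h3 hL h9 h4 ⟨c, hc⟩ (u := m • X.Wm w ^ 2 *ᵥ v - v) (a := 0)
    (n := 3 * (c * c + c) + 1) (sub_mem (sat St.m0 (by
      have h := (h6.pow 2 v hv).1
      rwa [h4, smul_pow, smul_mulVec, sq m, mul_smul] at h)) hv) h5 (by omega) (by
      have e1 := congrArg (· *ᵥ v) b1
      have e2 := congrArg (fun B => (X.Wm w * B) *ᵥ v) b1
      simp only [mul_add, mul_one, mul_zero, add_mulVec, one_mulVec, zero_mulVec, ← sq] at e1 e2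
      rw [h4, smul_mulVec, mulVec_sub, mulVec_smul, mulVec_mulVec]
      ext i
      have e3 := congrFun e1 i
      have e4 := congrFun e2 i
      simp only [Pi.add_apply, Pi.smul_apply, Pi.sub_apply, Pi.zero_apply, smul_eq_mul] at e3 e4 ⊢
      rw [eq_add_of_sub_eq hc]
      linear_combination (3 * c + 1) ^ 2 * (e4 - e3) - (3 * c + 1) * e3)
  exact count St b2 b3 ⟨c1, c2, c3⟩ c4

end

variable {C : ChevalleyDatum} {n : ℕ} {M : CoxeterMatrix (Fin n)} {hp : IsType C n M} {r : ℕ} [Fact r.Prime] {k : Type}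
  [Field k] [CharP k r] [IsAlgClosed k] {Mx : Matrix (Fin n) (Fin n) ℤ} {X : XF hp r k Mx}
  {Adm : Matrix (Fin n) (Fin n) ℤ → Prop} {d e : ℕ} {S : Type} [Group S] (s : XS X Adm d S) {m m' : ℤ} {φ : X.D.W}
  {y : ↥(C.group k)} {hy : y ∈ (⊤ : Subgroup _)} {hN : y⁻¹ * X.F y ∈ X.D.NN}

include s in
theorem fin_S : Finite S :=
  have := X.finite
  Finite.of_injective _ s.ov.hom_inj

theorem nd_pow (h3 : 3 ≠ r) {j : ℕ} (hm : m = r ^ j ∨ m = -r ^ j) : ¬ 3 ∣ m := fun h =>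
  h3 ((Nat.prime_dvd_prime_iff_eq Nat.prime_three Fact.out).1 (by
    exact_mod_cast Int.prime_three.dvd_of_dvd_pow (hm.elim (· ▸ h) fun e => dvd_neg.1 (e ▸ h) : (3 : ℤ) ∣ (r : ℤ) ^ j)))

theorem two_le (he : 0 < e) (hm : m = r ^ e ∨ m = -r ^ e) : 1 < |m| := by
  have h : 1 < (r : ℤ) ^ e := one_lt_pow₀ (by exact_mod_cast (Fact.out : r.Prime).one_lt) he.ne'
  rcases hm with rfl | rfl
  · exact lt_abs.2 (.inl h)
  · exact lt_abs.2 (.inr (by rwa [neg_neg]))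

theorem conj_mx (h : X.D.Mx = m • X.D.Wm φ) :
    (X.D.conj hy hN).Mx = m • (X.D.conj hy hN).Wm (X.D.pr (y⁻¹ * X.F y) * φ) := by
  rw [KM.Tor.conj_Wm', X.D.conj_Mx, h, Matrix.mul_smul, X.D.Wm_mul]

variable (hA : ∀ A, Adm A → ∃ (j : ℕ) (c : ℤ) (ψ : X.D.W),
  A ^ 2 = (r : ℤ) ^ (2 * j) • 1 ∧ (c = r ^ j ∨ c = -r ^ j) ∧ A = c • X.D.Wm ψ)
include hA

theorem lf_xs (h3 : 3 ≠ r) (γ : MulAut S) : ∃ c ψ, ¬ 3 ∣ c ∧ Lf (X.D.conj hy hN) s.ι γ c ψ := by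
  obtain ⟨g, hg, α, A, h1, h2, h4⟩ := s.aut γ
  obtain ⟨j, c, ψ, -, h5, rfl⟩ := hA A h2
  exact ⟨c, _, nd_pow h3 h5, lf_of hg h1 h4⟩

theorem dc_xs (hD : BoxDiag) (h3 : 3 ≠ r) (he : 0 < e) (hm : m = r ^ e ∨ m = -r ^ e) (hM : Mx ^ 2 = m ^ 2 • 1)
    (hm' : m' ^ 2 = m ^ 2) (γ : MulAut S) : Dc (X.D.conj hy hN) s.ι m' γ := by
  obtain ⟨g, hg, α, A, h1, h2, h4⟩ := s.aut γ
  obtain ⟨j, -, -, h5, -⟩ := hA A h2
  exact dc_of hD (fun _ => cn_one hp) X.D_qs h3 s.ov.mem he (by rcases hm with rfl | rfl <;> rw [hm'] <;> ring)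
    (hm' ▸ hM) hg h1 h5 h4

end Tt

open Tt

/-- **[T1]** -/
theorem boxT1_of (hT : BoxTL) (hD : BoxDiag) (hV : BoxMv) : BoxT1 := by
  intro C n M hp d hn hd r _ k _ _ _ Mx X Adm S _ s e m φ h3 he hm hF hM hA Q E Γ Γ₀ H ⟨y, hy, hN, hQ⟩
  have := fin_S s
  have h1 := nd_pow h3 hm
  have h2 := lt_abs.1 (two_le he hm)
  obtain ⟨ε, hε, h4⟩ : ∃ ε : ℤ, (ε = 1 ∨ ε = -1) ∧ 3 ∣ m * ε - 1 := by
    rcases (by omega : 3 ∣ m * 1 - 1 ∨ 3 ∣ m * -1 - 1) with h | h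
    · exact ⟨_, .inl rfl, h⟩
    · exact ⟨_, .inr rfl, h⟩
  have h5 : ∀ x ∈ GF X.F ⊤, ∀ i : ℕ, x ^ 3 ^ i = 1 → x ∈ s.ι.range := fun x hx i hi =>
    mem_of_pow Nat.prime_three hd (s.pow_mem hx) (hi ▸ one_mem _)
  refine (core (X := X.D.conj hy hN) (Ls := ⊤) (m := m * ε) (ε := ε) (w := X.D.pr (y⁻¹ * X.F y) * φ) hT hV
    ⟨h3, s.ov.inj, s.ov.mem, hQ, fun _ => trivial, fun _ _ h => (h trivial).elim, (Fintype.card_fin n).trans_le hn, .inl rfl,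
      fun _ _ _ => trivial, hε, ?_, h4, ?_, fun x hx i hi => ⟨1, one_mem _, 0, one_pow _, (one_mul x).symm ▸ h5 x hx i hi⟩,
      fun j ζ hζ u _ β _ e => h5 _ ⟨trivial, fix_iff.2 ⟨β, by rw [e, hζ, Nat.cast_pow, Nat.cast_ofNat]⟩⟩ j ?_,
      lf_xs s hA h3, dc_xs s hA hD h3 he hm hM ?_⟩ H).1 rfl
  · rw [conj_mx hF, smul_smul]
    rcases hε with rfl | rfl <;> simp
  · rcases hε with rfl | rfl <;> omega
  · rw [← map_pow, ← map_pow, ← hζ, pow_orderOf_eq_one, map_one, map_one]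
  · rcases hε with rfl | rfl <;> ring

/-- **[T6]** -/
theorem boxT6_of (hT : BoxTL) (hD : BoxDiag) (hV : BoxMv) : BoxT6 := by
  intro r _ k _ _ _ Mx X Adm S _ s e m φ h3 he hm hF hM hA Q E Γ Γ₀ H m3 hDl ⟨y, hy, hN, hQ, v, hv, hv'⟩
  have := fin_S s
  refine core6 (X := X.D.conj hy hN) hT hV H h3 s.ov.inj s.ov.mem hQ ((KM.Tor.boxLN r k Mx X).conj hy hN)
    (Fintype.card_fin 6).le (conj_mx hF) m3 (two_le he hm) hv (fun ⟨β, h⟩ => hv' β h) (lf_xs s hA h3)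
    (dc_xs s hA hD h3 he hm hM rfl) (hDl y hy hN) fun δ a1 a2 x hx => ?_
  have := s.ov.normal
  have b1 : (⟨δ, a1⟩ : ↥(GF X.F ⊤)) ∉ s.ov.hom.range := fun h => a2 (s.ov.mem_range.1 h)
  have b2 : s.ov.hom.range.index = 3 := ((Nat.dvd_prime Nat.prime_three).1 (s.idx (by decide))).resolve_left fun h =>
    b1 (index_eq_one.1 h ▸ trivial)
  have := Fact.mk Nat.prime_three
  obtain ⟨i, hi⟩ := mem_zpowers_of_prime_card (G := ↥(GF X.F ⊤) ⧸ s.ov.hom.range) b2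
    (mt (QuotientGroup.eq_one_iff _).1 b1) (g' := ((⟨x, hx⟩ : ↥(GF X.F ⊤)) : _ ⧸ s.ov.hom.range)⁻¹)
  refine ⟨i, (s.ov.mem_range (g := ⟨δ, a1⟩ ^ i * ⟨x, hx⟩)).1 ?_⟩
  rw [← QuotientGroup.eq_one_iff, QuotientGroup.mk_mul, QuotientGroup.mk_zpow, mul_eq_one_iff_eq_inv]
  exact hi

end Cfsg.Agent.BH.RO
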